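import Cfsg.Agent.Helper8.FusionFocal

set_option autoImplicit false

namespace Cfsg.Agent.Helper8

open Cfsg

variable {Ω : Type*} [Group Ω] {S : Subgroup Ω}

theorem map_mem_pResidual {A B : Type*} [Group A] [Group B] (p : ℕ) (f : A →* B)
    (hf : Function.Injective f) {a : A} (ha : a ∈ pResidual p A) : f a ∈ pResidual p B := by
  unfold pResidual at ha ⊢
  induction ha using Subgroup.closure_induction with
  | mem x hx =>
    apply Subgroup.subset_closure
    show Nat.Coprime (orderOf (f x)) p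
    rw [orderOf_injective f hf x]
    exact hx
  | one =>
    rw [map_one]
    exact one_mem _
  | mul x y _ _ hx hy =>
    rw [map_mul]
    exact mul_mem hx hy
  | inv x _ hx =>
    rw [map_inv]
    exact inv_mem hx

/-- The homomorphism `Aut_F(P) → Aut_F(Q)` induced by an isomorphism `e : P ≃* Q` of the system. -/
def autGroupMap (F : FusionSystem S) {P Q : Subgroup Ω} (e : P ≃* Q) (he : IsIso F e) :
    F.autGroup P →* F.autGroup Q :=
  ((MulAut.congr e).toMonoidHom.comp (F.autGroup P).subtype).codRestrict (F.autGroup Q)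
    (fun a => congr_mem_autGroup F he a.2)

theorem autGroupMap_injective (F : FusionSystem S) {P Q : Subgroup Ω} (e : P ≃* Q)
    (he : IsIso F e) : Function.Injective (autGroupMap F e he) := by
  intro a b hab
  have h1 : MulAut.congr e (a : MulAut P) = MulAut.congr e (b : MulAut P) :=
    congrArg Subtype.val hab
  exact Subtype.ext ((MulAut.congr e).injective h1)

theorem autGroupMap_apply (F : FusionSystem S) {P Q : Subgroup Ω} (e : P ≃* Q) (he : IsIso F e)
    (a : F.autGroup P) (x : Q) :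
    ((autGroupMap F e he a : F.autGroup Q) : MulAut Q) x = e ((a : MulAut P) (e.symm x)) := rfl

theorem hyperfocal_le (F : FusionSystem S) (p : ℕ) : F.hyperfocalSubgroup p ≤ S := by
  unfold FusionSystem.hyperfocalSubgroup
  rw [Subgroup.closure_le]
  rintro y ⟨P, α, x, hPS, -, rfl⟩
  exact S.mul_mem (S.inv_mem (hPS x.2)) (hPS ((α : MulAut P) x).2)

theorem hyperfocal_conj_mem (F : FusionSystem S) (p : ℕ) {g : Ω} (hg : g ∈ S) {y : Ω}
    (hy : y ∈ F.hyperfocalSubgroup p) : g * y * g⁻¹ ∈ F.hyperfocalSubgroup p := by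
  unfold FusionSystem.hyperfocalSubgroup at hy ⊢
  induction hy using Subgroup.closure_induction with
  | mem y hy =>
    obtain ⟨P, α, x, hPS, hα, rfl⟩ := hy
    have hc : conjHom P g ∈ F.Hom P := F.conj_mem hPS hg
    have he : IsIso F (equivOfRange (conjHom P g) (F.injective_of_mem hc) rfl) :=
      isIso_equivOfRange F hc rfl
    apply Subgroup.subset_closure
    refine ⟨(conjHom P g).range, autGroupMap F _ he α,
      equivOfRange (conjHom P g) (F.injective_of_mem hc) rfl x, isIso_le_right F he,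
      map_mem_pResidual p _ (autGroupMap_injective F _ he) hα, ?_⟩
    rw [autGroupMap_apply, MulEquiv.symm_apply_apply]
    show g * ((x : Ω)⁻¹ * (((α : MulAut P) x : P) : Ω)) * g⁻¹
      = (g * (x : Ω) * g⁻¹)⁻¹ * (g * (((α : MulAut P) x : P) : Ω) * g⁻¹)
    group
  | one =>
    have h1 : g * 1 * g⁻¹ = 1 := by group
    rw [h1]
    exact Subgroup.one_mem _
  | mul x y _ _ hx hy =>
    have h1 : g * (x * y) * g⁻¹ = (g * x * g⁻¹) * (g * y * g⁻¹) := by group
    rw [h1]
    exact mul_mem hx hy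
  | inv x _ hx =>
    have h1 : g * x⁻¹ * g⁻¹ = (g * x * g⁻¹)⁻¹ := by group
    rw [h1]
    exact inv_mem hx

/-- The subsystem of the maps `φ` of `F` with `x ∈ T ↔ φ x ∈ T`. -/
def stableSubsystem (F : FusionSystem S) (T : Subgroup Ω)
    (hT : ∀ g ∈ S, ∀ x ∈ T, g * x * g⁻¹ ∈ T) : FusionSystem S where
  Hom P := {φ | φ ∈ F.Hom P ∧ ∀ x : P, (x : Ω) ∈ T ↔ φ x ∈ T}
  le_of_mem := fun h => F.le_of_mem h.1
  injective_of_mem := fun h => F.injective_of_mem h.1
  conj_mem := by
    intro P g hP hg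
    refine ⟨F.conj_mem hP hg, fun x => ⟨fun hx => hT g hg x hx, fun hx => ?_⟩⟩
    have h1 := hT g⁻¹ (S.inv_mem hg) _ hx
    have h2 : g⁻¹ * (conjHom P g x) * g⁻¹⁻¹ = x := by
      show g⁻¹ * (g * (x : Ω) * g⁻¹) * g⁻¹⁻¹ = x
      group
    rw [h2] at h1
    exact h1
  comp_mem := by
    rintro P Q φ ψ ⟨hφ, hφT⟩ ⟨hψ, hψT⟩ h
    exact ⟨F.comp_mem hφ hψ h, fun x => (hφT x).trans (hψT ⟨φ x, h x⟩)⟩
  inv_mem := by
    rintro P φ ⟨hφ, hφT⟩
    obtain ⟨ψ, hψ, hinv⟩ := F.inv_mem hφ
    refine ⟨ψ, ⟨hψ, ?_⟩, hinv⟩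
    rintro ⟨_, x, rfl⟩
    rw [hinv x]
    exact (hφT x).symm

theorem stronglyClosed_of_autGroup_stable [Finite S] (p : ℕ) [Fact p.Prime] (hS : IsPGroup p S)
    (F : FusionSystem S) (hF : F.IsSaturated p) (T : Subgroup Ω) (hTS : T ≤ S)
    (hT : ∀ g ∈ S, ∀ x ∈ T, g * x * g⁻¹ ∈ T)
    (h : ∀ R : Subgroup Ω, (R = S ∨ F.IsEssential p R) → ∀ α ∈ F.autGroup R, ∀ x : R,
      (x : Ω) ∈ T → ((α x : R) : Ω) ∈ T) : F.StronglyClosed T := by
  have hle : ∀ P, F.Hom P ⊆ (stableSubsystem F T hT).Hom P := by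
    apply alperin p hS F hF
    intro R hR α hα
    have hRS : R ≤ S := by
      rcases hR with rfl | hess
      · exact le_rfl
      · exact hess.1.1
    apply Subgroup.subset_closure
    refine ⟨(mem_autGroup_iff F hRS α).mp hα, fun x => ⟨h R hR α hα x, fun hx => ?_⟩⟩
    have h1 := h R hR α⁻¹ (inv_mem hα) (α x) hx
    have h2 : α⁻¹ (α x) = x := by simp
    rw [h2] at h1
    exact h1
  exact ⟨hTS, fun R hRT φ hφ x => ((hle R hφ).2 x).mp (hRT x.2)⟩

theorem hyperfocal_stronglyClosed [Finite S] (p : ℕ) [Fact p.Prime] (hS : IsPGroup p S)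
    (F : FusionSystem S) (hF : F.IsSaturated p) : F.StronglyClosed (F.hyperfocalSubgroup p) := by
  apply stronglyClosed_of_autGroup_stable p hS F hF _ (hyperfocal_le F p)
    (fun g hg x hx => hyperfocal_conj_mem F p hg hx)
  intro R hR α hα x hx
  have hRn : F.IsFullyNormalized R := by
    rcases hR with rfl | hess
    · exact isFullyNormalized_top F
    · exact hess.2.1
  have hRS := hRn.1
  have props := fullyNormalized_props p hS F hF hRn
  obtain ⟨b, hb, g, hg, hbg⟩ := exists_pResidual_mul_induced p F props.2 hα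
  obtain ⟨y, hy, hαx⟩ := hbg x
  rw [hαx]
  have h1 : (y : Ω) ∈ F.hyperfocalSubgroup p := by
    rw [hy]
    exact hyperfocal_conj_mem F p hg hx
  have h2 : (y : Ω)⁻¹ * (((b : MulAut R) y : R) : Ω) ∈ F.hyperfocalSubgroup p := by
    apply Subgroup.subset_closure
    exact ⟨R, b, y, hRS, hb, rfl⟩
  have h3 := Subgroup.mul_mem _ h1 h2
  have h4 : (y : Ω) * ((y : Ω)⁻¹ * (((b : MulAut R) y : R) : Ω)) = (((b : MulAut R) y : R) : Ω) := by
    group
  rw [h4] at h3
  exact h3

end Cfsg.Agent.Helper8
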