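import Cfsg.Agent.Helper8.FusionMorph
import Cfsg.Agent.Helper8.FusionHyperfocal
import Cfsg.Agent.Helper8.FusionRS

set_option autoImplicit false

namespace Cfsg.Agent.Helper8

open Cfsg

theorem map_pResidual_le {A B : Type*} [Group A] [Group B] (p : ℕ) (f : A →* B) {a : A}
    (ha : a ∈ pResidual p A) : f a ∈ pResidual p B := by
  unfold pResidual at ha ⊢
  induction ha using Subgroup.closure_induction with
  | mem x hx =>
    apply Subgroup.subset_closure
    show Nat.Coprime (orderOf (f x)) p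
    exact Nat.Coprime.coprime_dvd_left (orderOf_map_dvd f x) hx
  | one =>
    rw [map_one]
    exact one_mem _
  | mul x y _ _ hx hy =>
    rw [map_mul]
    exact mul_mem hx hy
  | inv x _ hx =>
    rw [map_inv]
    exact inv_mem hx

theorem map_pResidual_of_surjective {A B : Type*} [Group A] [Group B] [Finite A] (p : ℕ)
    [Fact p.Prime] (f : A →* B) (hf : Function.Surjective f) :
    (pResidual p A).map f = pResidual p B := by
  have hp : p.Prime := Fact.out
  apply le_antisymm
  · rintro _ ⟨a, ha, rfl⟩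
    exact map_pResidual_le p f ha
  · unfold pResidual
    rw [Subgroup.closure_le]
    intro b hb
    have hb' : Nat.Coprime (orderOf b) p := hb
    obtain ⟨a, rfl⟩ := hf b
    obtain ⟨k, hk⟩ := exists_pow_mem_pResidual p a
    have h1 : (f a) ^ (p ^ k) ∈ (pResidual p A).map f := ⟨a ^ (p ^ k), hk, map_pow f a _⟩
    refine mem_of_pow_mem_of_coprime (p := orderOf (f a)) (j := 1) (m := p ^ k) _ ?_ ?_ h1
    · rw [pow_one]
      exact pow_orderOf_eq_one _
    · rw [pow_one]
      exact (Nat.Coprime.pow_right k hb').symm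

variable {Ω : Type*} [Group Ω] {S : Subgroup Ω} {Ω' : Type*} [Group Ω'] {S' : Subgroup Ω'}

theorem map_hyperfocal_le (F : FusionSystem S) (E : FusionSystem S') (θ : S →* Ω')
    (hθ : F.IsMorphism E θ) (p : ℕ) :
    ((F.hyperfocalSubgroup p).subgroupOf S).map θ ≤ E.hyperfocalSubgroup p := by
  have key : ∀ y ∈ F.hyperfocalSubgroup p, ∀ hy : y ∈ S, θ ⟨y, hy⟩ ∈ E.hyperfocalSubgroup p := by
    intro y hy
    unfold FusionSystem.hyperfocalSubgroup at hy
    induction hy using Subgroup.closure_induction with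
    | mem y hy =>
      obtain ⟨P, α, x, hPS, hα, rfl⟩ := hy
      intro hyS
      obtain ⟨c, hc⟩ := exists_indAutHom F E θ hθ hPS
      have hcmem : ∀ β : ↥(F.autGroup P), c β ∈ E.autGroup (FusionSystem.imageAlong θ P) :=
        fun β => (hc β).1
      have h1 : c.codRestrict _ hcmem α ∈ pResidual p ↥(E.autGroup (FusionSystem.imageAlong θ P)) :=
        map_pResidual_le p _ hα
      have h2 : θ ⟨(x : Ω)⁻¹ * (((α : MulAut P) x : P) : Ω), hyS⟩
          = ((projAlong θ hPS x : ↥(FusionSystem.imageAlong θ P)) : Ω')⁻¹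
            * (((c.codRestrict _ hcmem α : ↥(E.autGroup (FusionSystem.imageAlong θ P))) :
                MulAut ↥(FusionSystem.imageAlong θ P)) (projAlong θ hPS x) :
                  ↥(FusionSystem.imageAlong θ P)) := by
        have h3 : ((c.codRestrict _ hcmem α : ↥(E.autGroup (FusionSystem.imageAlong θ P))) :
            MulAut ↥(FusionSystem.imageAlong θ P)) (projAlong θ hPS x)
            = projAlong θ hPS ((α : MulAut P) x) := (hc α).2 x
        rw [h3, projAlong_coe, projAlong_coe, ← map_inv, ← map_mul]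
        rfl
      rw [h2]
      apply Subgroup.subset_closure
      exact ⟨_, c.codRestrict _ hcmem α, projAlong θ hPS x, imageAlong_le θ hθ.1 P, h1, rfl⟩
    | one =>
      intro hyS
      have h1 : (⟨1, hyS⟩ : S) = 1 := rfl
      rw [h1, map_one]
      exact one_mem _
    | mul a b ha hb iha ihb =>
      intro hyS
      have haS : a ∈ S := hyperfocal_le F p ha
      have hbS : b ∈ S := hyperfocal_le F p hb
      have h1 : (⟨a * b, hyS⟩ : S) = ⟨a, haS⟩ * ⟨b, hbS⟩ := rfl
      rw [h1, map_mul]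
      exact mul_mem (iha haS) (ihb hbS)
    | inv a ha iha =>
      intro hyS
      have haS : a ∈ S := hyperfocal_le F p ha
      have h1 : (⟨a⁻¹, hyS⟩ : S) = ⟨a, haS⟩⁻¹ := rfl
      rw [h1, map_inv]
      exact inv_mem (iha haS)
  rintro _ ⟨s, hs, rfl⟩
  exact key s hs s.2

theorem hyperfocal_le_map_aux [Finite S] (p : ℕ) [Fact p.Prime] (F : FusionSystem S)
    (E : FusionSystem S') (θ : S →* Ω') (hθ : F.IsSurjectiveMorphism E θ)
    (P' : Subgroup Ω') (P : Subgroup Ω) (hPS : P ≤ S) (hK : kerAlong θ ≤ P)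
    (h : FusionSystem.imageAlong θ P = P') (α' : ↥(E.autGroup P'))
    (hα' : α' ∈ pResidual p ↥(E.autGroup P')) (x' : P') :
    (x' : Ω')⁻¹ * (((α' : MulAut P') x' : P') : Ω')
      ∈ ((F.hyperfocalSubgroup p).subgroupOf S).map θ := by
  subst h
  obtain ⟨c, hc⟩ := exists_indAutHom F E θ hθ.1 hPS
  have hcmem : ∀ β : ↥(F.autGroup P), c β ∈ E.autGroup (FusionSystem.imageAlong θ P) :=
    fun β => (hc β).1
  have hsurj : Function.Surjective (c.codRestrict _ hcmem) := by
    rintro ⟨β', hβ'⟩
    obtain ⟨β, hβ, hl⟩ := exists_lift_of_image F E θ hθ hPS hK hβ'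
    exact ⟨⟨β, hβ⟩, Subtype.ext (Lifts.unique (hc ⟨β, hβ⟩).2 hl)⟩
  have : Finite P := finite_of_le_finite hPS
  have : Finite (MulAut P) := MulEquiv.finite_left
  rw [← map_pResidual_of_surjective p _ hsurj] at hα'
  obtain ⟨α, hα, rfl⟩ := hα'
  obtain ⟨x, rfl⟩ := projAlong_surjective θ hPS x'
  have hyS : (x : Ω)⁻¹ * (((α : MulAut P) x : P) : Ω) ∈ S :=
    S.mul_mem (S.inv_mem (hPS x.2)) (hPS ((α : MulAut P) x).2)
  refine ⟨⟨(x : Ω)⁻¹ * (((α : MulAut P) x : P) : Ω), hyS⟩, ?_, ?_⟩
  · apply Subgroup.subset_closure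
    exact ⟨P, α, x, hPS, hα, rfl⟩
  · have h3 : ((c.codRestrict _ hcmem α : ↥(E.autGroup (FusionSystem.imageAlong θ P))) :
        MulAut ↥(FusionSystem.imageAlong θ P)) (projAlong θ hPS x)
        = projAlong θ hPS ((α : MulAut P) x) := (hc α).2 x
    rw [h3, projAlong_coe, projAlong_coe, ← map_inv, ← map_mul]
    rfl

/-- S5256: the hyperfocal subgroup of a surjective image is the image of the hyperfocal
subgroup. -/
theorem hyperfocal_image [Finite S] (p : ℕ) [Fact p.Prime] (F : FusionSystem S)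
    (E : FusionSystem S') (θ : S →* Ω') (hθ : F.IsSurjectiveMorphism E θ) :
    E.hyperfocalSubgroup p = ((F.hyperfocalSubgroup p).subgroupOf S).map θ := by
  apply le_antisymm _ (map_hyperfocal_le F E θ hθ.1 p)
  unfold FusionSystem.hyperfocalSubgroup
  rw [Subgroup.closure_le]
  rintro y ⟨P', α', x', hP'S', hα', rfl⟩
  have hP'range : P' ≤ θ.range := by
    rw [hθ.2.1]
    exact hP'S'
  exact hyperfocal_le_map_aux p F E θ hθ P' (FusionSystem.preimageAlong θ P')
    (preimageAlong_le θ P') (le_preimageAlong_of_ker θ (kerAlong_le θ) (mem_kerAlong θ) P')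
    (le_antisymm (image_preimage_le θ P') (le_image_preimage θ hP'range)) α' hα' x'

end Cfsg.Agent.Helper8
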