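import Mathlib
import Cfsg.Agent.S0095
import Cfsg.Agent.Lead.PGroupFrattini

set_option autoImplicit false

namespace Cfsg.Agent.Helper8.ESIndex

open scoped commutatorElement

theorem main {S : Type*} [Group S] [Finite S] (p : ℕ) [Fact p.Prime] (hS : IsPGroup p S) (Q : Subgroup S) (hQ : Cfsg.IsExtraspecial p ↥Q) (hQi : Q.index = p) :
    (∃ n : ℕ, 1 ≤ n ∧ Nat.card S = p ^ (2 + 2 * n)) ∧ derivedSeries S 3 = ⊥ ∧ ∀ x : S, x ^ (p ^ 3) = 1 := by
  classical
  have hp : p.Prime := Fact.out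
  obtain ⟨n, hn, hcard⟩ := Cfsg.Agent.S0095.result hQ
  have hSc : Nat.card S = p ^ (2 + 2 * n) := by
    rw [← Subgroup.card_mul_index Q, hcard, hQi, ← pow_succ]
    congr 1
    omega
  have hQn : Q.Normal := by
    apply Subgroup.normal_of_index_eq_minFac_card
    rw [hQi, hSc, Nat.pow_minFac (by omega), hp.minFac_eq]
  have hpow : ∀ x : S, x ^ p ∈ Q := fun x => hQi ▸ Q.pow_index_mem x
  have hcomm : ∀ x y : S, ⁅x, y⁆ ∈ Q := by
    intro x y
    have hc : Nat.card (S ⧸ Q) = p := by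
      rw [← Subgroup.index_eq_card]
      exact hQi
    have hcyc : IsCyclic (S ⧸ Q) := isCyclic_of_prime_card hc
    have h1 : (QuotientGroup.mk' Q) ⁅x, y⁆ = 1 := by
      rw [map_commutatorElement, commutatorElement_eq_one_iff_commute]
      obtain ⟨g, hg⟩ := hcyc
      obtain ⟨i, hi⟩ := hg ((QuotientGroup.mk' Q) x)
      obtain ⟨j, hj⟩ := hg ((QuotientGroup.mk' Q) y)
      rw [← hi, ← hj]
      exact (Commute.refl g).zpow_zpow i j
    exact (QuotientGroup.eq_one_iff _).mp h1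
  have hQQ : ∀ a ∈ Q, ∀ b ∈ Q, ⁅a, b⁆ ∈ (Subgroup.center ↥Q).map Q.subtype := by
    intro a ha b hb
    have h1 : ⁅(⟨a, ha⟩ : ↥Q), ⟨b, hb⟩⁆ ∈ commutator ↥Q :=
      Subgroup.commutator_mem_commutator (Subgroup.mem_top _) (Subgroup.mem_top _)
    rw [hQ.1.2.2] at h1
    exact ⟨_, h1, rfl⟩
  have hD1 : derivedSeries S 1 ≤ Q := by
    rw [derivedSeries_succ, derivedSeries_zero, Subgroup.commutator_le]
    intro x _ y _
    exact hcomm x y
  have hD2 : derivedSeries S 2 ≤ (Subgroup.center ↥Q).map Q.subtype := by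
    rw [derivedSeries_succ, Subgroup.commutator_le]
    intro x hx y hy
    exact hQQ x (hD1 hx) y (hD1 hy)
  have hD3 : derivedSeries S 3 = ⊥ := by
    rw [derivedSeries_succ, eq_bot_iff, Subgroup.commutator_le]
    intro x hx y hy
    obtain ⟨a, ha, rfl⟩ := hD2 hx
    obtain ⟨b, hb, rfl⟩ := hD2 hy
    rw [Subgroup.mem_bot, commutatorElement_eq_one_iff_commute]
    have := Subgroup.mem_center_iff.mp ha b
    exact (congrArg Subtype.val this).symm
  refine ⟨⟨n, hn, hSc⟩, hD3, fun x => ?_⟩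
  have h1 : (⟨x ^ p, hpow x⟩ : ↥Q) ^ p ∈ Subgroup.center ↥Q := by
    rw [← hQ.1.2.1]
    exact Cfsg.Agent.Lead.pow_mem_frattini_of_isPGroup p hQ.1.1 _
  have h2 : ((⟨x ^ p, hpow x⟩ : ↥Q) ^ p) ^ p = 1 := by
    have h3 : (⟨(⟨x ^ p, hpow x⟩ : ↥Q) ^ p, h1⟩ : Subgroup.center ↥Q) ^ p = 1 := by
      have h5 := pow_card_eq_one' (G := Subgroup.center ↥Q)
        (x := ⟨(⟨x ^ p, hpow x⟩ : ↥Q) ^ p, h1⟩)
      rwa [hQ.2] at h5
    exact congrArg Subtype.val h3
  have h4 : ((x ^ p) ^ p) ^ p = 1 := congrArg Subtype.val h2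
  calc x ^ (p ^ 3) = ((x ^ p) ^ p) ^ p := by
        rw [← pow_mul, ← pow_mul]
        congr 1
        ring
    _ = 1 := h4

end Cfsg.Agent.Helper8.ESIndex
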