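import Cfsg.Agent.Helper8.FusionAlperin2

set_option autoImplicit false

namespace Cfsg.Agent.Helper8

open Cfsg

variable {Ω : Type*} [Group Ω] {S : Subgroup Ω}

/-- Alperin–Goldschmidt fusion theorem, in inductive form: to show `F ≤ E` it suffices to show
`Aut_F(R) ≤ Aut_E(R)` for `R = S` or `R` essential, assuming all maps of `F` on strictly larger
subgroups are already maps of `E`. -/
theorem alperin_induction [Finite S] (p : ℕ) [Fact p.Prime] (hS : IsPGroup p S) (F : FusionSystem S)
    (hF : F.IsSaturated p) (E : FusionSystem S)
    (hE : ∀ R : Subgroup Ω, (R = S ∨ F.IsEssential p R) →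
      (∀ Q : Subgroup Ω, R < Q → F.Hom Q ⊆ E.Hom Q) → F.autGroup R ≤ E.autGroup R) :
    ∀ P : Subgroup Ω, F.Hom P ⊆ E.Hom P := by
  have key : ∀ n : ℕ, ∀ P : Subgroup Ω, Nat.card S - Nat.card P = n → F.Hom P ⊆ E.Hom P := by
    intro n
    induction n using Nat.strong_induction_on with
    | _ n ih =>
      intro P hn φ hφ
      have hPS := hom_le F hφ
      by_cases hPeq : P = S
      · subst hPeq
        exact hom_top_subset F E (hE _ (Or.inl rfl)
          (fun Q hQ ψ hψ => absurd (hom_le F hψ) (not_le_of_gt hQ))) hφ
      · have hPlt : P < S := lt_of_le_of_ne hPS hPeq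
        have hQS : φ.range ≤ S := range_le F hφ
        have he : IsIso F (equivOfRange φ (F.injective_of_mem hφ) rfl) := isIso_equivOfRange F hφ rfl
        obtain ⟨R, hPR, hRn⟩ := exists_fullyNormalized F hPS
        have props := fullyNormalized_props p hS F hF hRn
        have hRrec := receptive_of_fullyCentralized p hS F hF props.1
        have hQR : F.IsConj φ.range R := isConj_trans F (isConj_symm F ⟨φ, hφ, rfl⟩) hPR
        obtain ⟨ψ₁, hψ₁, -, hψ₁map⟩ := exists_normalizer_map p hS F props.2 hRrec hPR
        obtain ⟨ψ₂, hψ₂, -, hψ₂map⟩ := exists_normalizer_map p hS F props.2 hRrec hQR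
        have hcardPQ : Nat.card P = Nat.card φ.range := isConj_card_eq F ⟨φ, hφ, rfl⟩
        have hcardPR : Nat.card P = Nat.card R := isConj_card_eq F hPR
        have hcardlt : Nat.card P < Nat.card S := card_lt_card_of_lt hPlt
        have hQlt : φ.range < S := by
          refine lt_of_le_of_ne hQS ?_
          intro h
          rw [h] at hcardPQ
          omega
        have hRlt : R < S := by
          refine lt_of_le_of_ne hRn.1 ?_
          intro h
          rw [h] at hcardPR
          omega
        have : Finite (FusionSystem.normalizerIn S P) := finite_of_le_finite (normalizerIn_le_left S P)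
        have : Finite (FusionSystem.normalizerIn S φ.range) :=
          finite_of_le_finite (normalizerIn_le_left S φ.range)
        have hNP : Nat.card P < Nat.card (FusionSystem.normalizerIn S P) :=
          card_lt_card_of_lt (lt_normalizerIn hS hPlt)
        have hNQ : Nat.card φ.range < Nat.card (FusionSystem.normalizerIn S φ.range) :=
          card_lt_card_of_lt (lt_normalizerIn hS hQlt)
        have hNPS : Nat.card (FusionSystem.normalizerIn S P) ≤ Nat.card S :=
          Subgroup.card_le_of_le (normalizerIn_le_left S P)
        have hNQS : Nat.card (FusionSystem.normalizerIn S φ.range) ≤ Nat.card S :=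
          Subgroup.card_le_of_le (normalizerIn_le_left S φ.range)
        have hψ₁E : ψ₁ ∈ E.Hom _ := ih _ (by omega) _ rfl hψ₁
        have hψ₂E : ψ₂ ∈ E.Hom _ := ih _ (by omega) _ rfl hψ₂
        have hAR : F.autGroup R ≤ E.autGroup R := by
          rcases extendable_dichotomy p hS F hF R hRlt hRn _ rfl with ⟨-, hH⟩ | ⟨hess, -⟩
          · rw [← hH, Subgroup.closure_le]
            rintro β ⟨Q', hRQ', φ', hφ', hext⟩
            have hQ'S := hom_le F hφ'
            have : Finite Q' := finite_of_le_finite hQ'S
            have hc : Nat.card R < Nat.card Q' := card_lt_card_of_lt hRQ'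
            have hc2 : Nat.card Q' ≤ Nat.card S := Subgroup.card_le_of_le hQ'S
            have hφ'E : φ' ∈ E.Hom Q' := ih _ (by omega) _ rfl hφ'
            rw [SetLike.mem_coe, mem_autGroup_iff E hRn.1]
            exact restrict_mem' E hφ'E hRQ'.le (χ := R.subtype.comp β.toMonoidHom)
              (fun x => (hext x).symm)
          · refine hE R (Or.inr hess) (fun Q' hRQ' φ' hφ' => ?_)
            have hQ'S := hom_le F hφ'
            have : Finite Q' := finite_of_le_finite hQ'S
            have hc : Nat.card R < Nat.card Q' := card_lt_card_of_lt hRQ'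
            have hc2 : Nat.card Q' ≤ Nat.card S := Subgroup.card_le_of_le hQ'S
            exact ih _ (by omega) _ rfl hφ'
        have hr₁ : (ψ₁.comp (Subgroup.inclusion (le_normalizerIn hPS))).range = R := by
          rw [range_comp_inclusion, hψ₁map]
        have hr₂ : (ψ₂.comp (Subgroup.inclusion (le_normalizerIn hQS))).range = R := by
          rw [range_comp_inclusion, hψ₂map]
        have h₁F := restrict_mem F hψ₁ (le_normalizerIn hPS)
        have h₂F := restrict_mem F hψ₂ (le_normalizerIn hQS)
        have he₁F : IsIso F (equivOfRange _ (F.injective_of_mem h₁F) hr₁) :=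
          isIso_equivOfRange F h₁F hr₁
        have he₂F : IsIso F (equivOfRange _ (F.injective_of_mem h₂F) hr₂) :=
          isIso_equivOfRange F h₂F hr₂
        have he₁E : IsIso E (equivOfRange _ (F.injective_of_mem h₁F) hr₁) :=
          (isIso_iff E _ (fun _ => rfl)).mpr (restrict_mem E hψ₁E (le_normalizerIn hPS))
        have he₂E : IsIso E (equivOfRange _ (F.injective_of_mem h₂F) hr₂) :=
          (isIso_iff E _ (fun _ => rfl)).mpr (restrict_mem E hψ₂E (le_normalizerIn hQS))
        have hαF := isIso_trans F (isIso_symm F he₁F) (isIso_trans F he he₂F)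
        have hαE := (mem_autGroup_iff E hRn.1 _).mp (hAR ((mem_autGroup_iff F hRn.1 _).mpr hαF))
        have heE := isIso_trans E he₁E (isIso_trans E hαE (isIso_symm E he₂E))
        have heq : (equivOfRange _ (F.injective_of_mem h₁F) hr₁).trans
            (((equivOfRange _ (F.injective_of_mem h₁F) hr₁).symm.trans
              ((equivOfRange φ (F.injective_of_mem hφ) rfl).trans
                (equivOfRange _ (F.injective_of_mem h₂F) hr₂))).trans
              (equivOfRange _ (F.injective_of_mem h₂F) hr₂).symm)
            = equivOfRange φ (F.injective_of_mem hφ) rfl := by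
          ext x
          simp
        rw [heq] at heE
        exact (isIso_iff E _ (fun _ => rfl)).mp heE
  intro P
  exact key _ P rfl

end Cfsg.Agent.Helper8
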