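import Cfsg.Prelude.Def_Transfer
import Mathlib.GroupTheory.Sylow
import Mathlib.GroupTheory.PGroup

set_option autoImplicit false

namespace Cfsg.Agent.Helper8

open Cfsg

variable {G : Type*} [Group G]

theorem pResidual_normal (p : ℕ) (G : Type*) [Group G] : (pResidual p G).Normal := by
  constructor
  intro n hn g
  unfold pResidual at hn ⊢
  induction hn using Subgroup.closure_induction with
  | mem x hx =>
    apply Subgroup.subset_closure
    show Nat.Coprime (orderOf (g * x * g⁻¹)) p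
    have h1 : orderOf (g * x * g⁻¹) = orderOf x := (MulAut.conj g).orderOf_eq x
    rw [h1]
    exact hx
  | one =>
    have h1 : g * 1 * g⁻¹ = 1 := by group
    rw [h1]
    exact Subgroup.one_mem _
  | mul x y _ _ hx hy =>
    have h1 : g * (x * y) * g⁻¹ = (g * x * g⁻¹) * (g * y * g⁻¹) := by group
    rw [h1]
    exact mul_mem hx hy
  | inv x _ hx =>
    have h1 : g * x⁻¹ * g⁻¹ = (g * x * g⁻¹)⁻¹ := by group
    rw [h1]
    exact inv_mem hx

theorem exists_pow_mem_pResidual [Finite G] (p : ℕ) [Fact p.Prime] (g : G) :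
    ∃ k : ℕ, g ^ (p ^ k) ∈ pResidual p G := by
  have hp : p.Prime := Fact.out
  have hn : orderOf g ≠ 0 := (orderOf_pos g).ne'
  obtain ⟨k, m, hm, hnm⟩ := Nat.exists_eq_pow_mul_and_not_dvd hn p hp.ne_one
  refine ⟨k, Subgroup.subset_closure ?_⟩
  show Nat.Coprime (orderOf (g ^ (p ^ k))) p
  have hpk : p ^ k ≠ 0 := pow_ne_zero _ hp.ne_zero
  rw [orderOf_pow' g hpk, hnm]
  have h1 : Nat.gcd (p ^ k * m) (p ^ k) = p ^ k := Nat.gcd_eq_right (dvd_mul_right _ _)
  rw [h1, Nat.mul_div_cancel_left _ (Nat.pos_of_ne_zero hpk)]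
  exact ((Nat.Prime.coprime_iff_not_dvd hp).mpr hm).symm

theorem exists_mul_of_sylow [Finite G] {p : ℕ} [Fact p.Prime] (R : Sylow p G) (g : G) :
    ∃ b ∈ pResidual p G, ∃ c ∈ (R : Subgroup G), g = b * c := by
  haveI := pResidual_normal p G
  have hq : IsPGroup p (G ⧸ pResidual p G) := by
    intro x
    obtain ⟨y, rfl⟩ := QuotientGroup.mk_surjective x
    obtain ⟨k, hk⟩ := exists_pow_mem_pResidual p y
    refine ⟨k, ?_⟩
    rw [← QuotientGroup.mk_pow]
    exact (QuotientGroup.eq_one_iff _).mpr hk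
  have hπ : Function.Surjective (QuotientGroup.mk' (pResidual p G)) := QuotientGroup.mk'_surjective _
  have htop : ((R.mapSurjective hπ : Sylow p (G ⧸ pResidual p G)) : Subgroup (G ⧸ pResidual p G)) = ⊤ :=
    ((R.mapSurjective hπ).3 (hq.to_subgroup ⊤) le_top).symm
  rw [Sylow.coe_mapSurjective] at htop
  have h1 : (QuotientGroup.mk' (pResidual p G)) g ∈ (R : Subgroup G).map (QuotientGroup.mk' (pResidual p G)) := by
    rw [htop]
    trivial
  obtain ⟨c, hc, hcg⟩ := h1
  refine ⟨g * c⁻¹, ?_, c, hc, by group⟩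
  rw [← QuotientGroup.eq_one_iff (N := pResidual p G), QuotientGroup.mk_mul, QuotientGroup.mk_inv]
  have h2 : ((c : G) : G ⧸ pResidual p G) = (g : G ⧸ pResidual p G) := hcg
  rw [h2]
  group

end Cfsg.Agent.Helper8
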