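import Cfsg.Agent.Helper8.FusionAlperin3
import Cfsg.Agent.Helper8.FusionMisc
import Cfsg.Agent.Helper8.PResidual
import Mathlib.GroupTheory.Commutator.Basic

set_option autoImplicit false

namespace Cfsg.Agent.Helper8

open Cfsg
open scoped commutatorElement

variable {Ω : Type*} [Group Ω] {S : Subgroup Ω}

/-- The subsystem of the maps `φ` of `F` with `x⁻¹ φ(x) ∈ T` for all `x`. -/
def focalSubsystem (F : FusionSystem S) (T : Subgroup Ω) (hT : ⁅S, S⁆ ≤ T) : FusionSystem S where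
  Hom P := {φ | φ ∈ F.Hom P ∧ ∀ x : P, (x : Ω)⁻¹ * φ x ∈ T}
  le_of_mem := fun h => F.le_of_mem h.1
  injective_of_mem := fun h => F.injective_of_mem h.1
  conj_mem := by
    intro P g hP hg
    refine ⟨F.conj_mem hP hg, fun x => hT ?_⟩
    show (x : Ω)⁻¹ * (g * x * g⁻¹) ∈ ⁅S, S⁆
    have h1 : (x : Ω)⁻¹ * (g * x * g⁻¹) = ⁅(x : Ω)⁻¹, g⁆ := by
      rw [commutatorElement_def]
      group
    rw [h1]
    exact Subgroup.commutator_mem_commutator (S.inv_mem (hP x.2)) hg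
  comp_mem := by
    rintro P Q φ ψ ⟨hφ, hφT⟩ ⟨hψ, hψT⟩ h
    refine ⟨F.comp_mem hφ hψ h, fun x => ?_⟩
    have h1 := hφT x
    have h2 := hψT ⟨φ x, h x⟩
    have h3 := T.mul_mem h1 h2
    show (x : Ω)⁻¹ * ψ ⟨φ x, h x⟩ ∈ T
    have h4 : (x : Ω)⁻¹ * φ x * ((φ x)⁻¹ * ψ ⟨φ x, h x⟩) = (x : Ω)⁻¹ * ψ ⟨φ x, h x⟩ := by group
    rw [← h4]
    exact h3
  inv_mem := by
    rintro P φ ⟨hφ, hφT⟩
    obtain ⟨ψ, hψ, hinv⟩ := F.inv_mem hφ
    refine ⟨ψ, ⟨hψ, ?_⟩, hinv⟩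
    rintro ⟨_, x, rfl⟩
    rw [hinv x]
    have h1 := T.inv_mem (hφT x)
    show (φ x)⁻¹ * (x : Ω) ∈ T
    have h2 : ((x : Ω)⁻¹ * φ x)⁻¹ = (φ x)⁻¹ * (x : Ω) := by group
    rw [← h2]
    exact h1

theorem hyperfocal_sup_le (F : FusionSystem S) (p : ℕ) :
    F.hyperfocalSubgroup p ⊔ ⁅S, S⁆ ≤ F.focalSubgroup := by
  apply sup_le
  · unfold FusionSystem.hyperfocalSubgroup
    rw [Subgroup.closure_le]
    rintro y ⟨P, α, x, hPS, -, rfl⟩
    apply Subgroup.subset_closure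
    exact ⟨P, P.subtype.comp (α : MulAut P).toMonoidHom, x, (mem_autGroup_iff F hPS _).mp α.2, rfl⟩
  · rw [Subgroup.commutator_le]
    intro g₁ h₁ g₂ h₂
    apply Subgroup.subset_closure
    refine ⟨S, conjHom S g₂, ⟨g₁⁻¹, S.inv_mem h₁⟩, F.conj_mem le_rfl h₂, ?_⟩
    show ⁅g₁, g₂⁆ = (g₁⁻¹)⁻¹ * (g₂ * g₁⁻¹ * g₂⁻¹)
    rw [commutatorElement_def]
    group

/-- In a fully automized subgroup every automorphism of the system is a product of an element of
`O^p(Aut_F(R))` and an automorphism induced by `S`. -/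
theorem exists_pResidual_mul_induced [Finite S] (p : ℕ) [Fact p.Prime] (F : FusionSystem S)
    {R : Subgroup Ω} (hR : F.IsFullyAutomized p R) {α : MulAut R} (hα : α ∈ F.autGroup R) :
    ∃ b ∈ pResidual p (F.autGroup R), ∃ g ∈ S, ∀ x : R,
      ∃ y : R, (y : Ω) = g * (x : Ω) * g⁻¹ ∧ α x = (b : MulAut R) y := by
  have hRS := hR.1
  have : Finite R := finite_of_le_finite hRS
  have : Finite (MulAut R) := MulEquiv.finite_left
  obtain ⟨R', hR'⟩ := hR.2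
  obtain ⟨b, hb, c, hc, hαbc⟩ := exists_mul_of_sylow R' (⟨α, hα⟩ : F.autGroup R)
  have hc' : (c : MulAut R) ∈ autInducedBy S R := by
    have h1 : c ∈ (R' : Subgroup (F.autGroup R)) := hc
    rw [hR', Subgroup.mem_subgroupOf] at h1
    exact h1
  obtain ⟨g, hg, hgc⟩ := (mem_autInducedBy_iff S R _).mp hc'
  refine ⟨b, hb, g, hg, fun x => ⟨(c : MulAut R) x, hgc x, ?_⟩⟩
  have hα' : α = (b : MulAut R) * (c : MulAut R) := congrArg Subtype.val hαbc
  rw [hα']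
  rfl

theorem focal_le [Finite S] (p : ℕ) [Fact p.Prime] (hS : IsPGroup p S) (F : FusionSystem S)
    (hF : F.IsSaturated p) : F.focalSubgroup ≤ F.hyperfocalSubgroup p ⊔ ⁅S, S⁆ := by
  have hle : ∀ P, F.Hom P ⊆ (focalSubsystem F (F.hyperfocalSubgroup p ⊔ ⁅S, S⁆) le_sup_right).Hom P := by
    apply alperin p hS F hF
    intro R hR α hα
    have hRn : F.IsFullyNormalized R := by
      rcases hR with rfl | hess
      · exact isFullyNormalized_top F
      · exact hess.2.1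
    have hRS := hRn.1
    have props := fullyNormalized_props p hS F hF hRn
    obtain ⟨b, hb, g, hg, hbg⟩ := exists_pResidual_mul_induced p F props.2 hα
    apply Subgroup.subset_closure
    refine ⟨(mem_autGroup_iff F hRS α).mp hα, fun x => ?_⟩
    obtain ⟨y, hy, hαx⟩ := hbg x
    show (x : Ω)⁻¹ * ((α x : R) : Ω) ∈ _
    rw [hαx]
    have h1 : (x : Ω)⁻¹ * (y : Ω) ∈ F.hyperfocalSubgroup p ⊔ ⁅S, S⁆ := by
      apply le_sup_right (a := F.hyperfocalSubgroup p)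
      rw [hy]
      have h2 : (x : Ω)⁻¹ * (g * x * g⁻¹) = ⁅(x : Ω)⁻¹, g⁆ := by
        rw [commutatorElement_def]
        group
      rw [h2]
      exact Subgroup.commutator_mem_commutator (S.inv_mem (hRS x.2)) hg
    have h2 : (y : Ω)⁻¹ * (((b : MulAut R) y : R) : Ω) ∈ F.hyperfocalSubgroup p ⊔ ⁅S, S⁆ := by
      apply le_sup_left (b := ⁅S, S⁆)
      apply Subgroup.subset_closure
      exact ⟨R, b, y, hRS, hb, rfl⟩
    have h3 := Subgroup.mul_mem _ h1 h2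
    have h4 : (x : Ω)⁻¹ * (y : Ω) * ((y : Ω)⁻¹ * (((b : MulAut R) y : R) : Ω))
        = (x : Ω)⁻¹ * (((b : MulAut R) y : R) : Ω) := by group
    rw [h4] at h3
    exact h3
  unfold FusionSystem.focalSubgroup
  rw [Subgroup.closure_le]
  rintro y ⟨P, φ, x, hφ, rfl⟩
  exact (hle P hφ).2 x

end Cfsg.Agent.Helper8
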