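import Cfsg.Agent.Helper8.FusionMisc
import Cfsg.Agent.Helper8.FusionRS

set_option autoImplicit false

namespace Cfsg.Agent.Helper8

open Cfsg

variable {Ω : Type*} [Group Ω] {S : Subgroup Ω}

/-- An automorphism in `Aut_F(P)` of order prime to `p` is trivial when an iterated focal chain
reaches the trivial subgroup. -/
theorem aut_eq_one_of_focal_chain {p : ℕ} [Fact p.Prime] (hS : IsPGroup p S)
    (F : FusionSystem S) (n : ℕ) (Q : Fin (n + 1) → Subgroup Ω)
    (hQn : Q (Fin.last n) = ⊥)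
    (hstep : ∀ i : Fin n, Subgroup.closure {y : Ω | ∃ x ∈ Q i.castSucc,
      ∃ φ ∈ F.Hom (Subgroup.zpowers x), y = x⁻¹ * φ ⟨x, Subgroup.mem_zpowers x⟩} ≤ Q i.succ)
    {P : Subgroup Ω} (hP : P ≤ S) (β : MulAut P) (hβ : β ∈ F.autGroup P) (m : ℕ)
    (hm : Nat.Coprime m p) (hβm : β ^ m = 1) :
    ∀ (j : ℕ) (i : Fin (n + 1)), (i : ℕ) + j = n → ∀ x : P, (x : Ω) ∈ Q i → β x = x := by
  have hβF : P.subtype.comp β.toMonoidHom ∈ F.Hom P := (mem_autGroup_iff F hP β).mp hβ
  intro j
  induction j with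
  | zero =>
    intro i hi x hx
    have hi' : i = Fin.last n := Fin.ext (by simpa using hi)
    rw [hi', hQn] at hx
    have hx1 : x = 1 := Subtype.ext (Subgroup.mem_bot.mp hx)
    rw [hx1, map_one]
  | succ j ih =>
    intro i hi x hx
    have hilt : (i : ℕ) < n := by omega
    have hi' : i = (⟨(i : ℕ), hilt⟩ : Fin n).castSucc := Fin.ext rfl
    have hxle : Subgroup.zpowers (x : Ω) ≤ P := by
      rw [Subgroup.zpowers_le]
      exact x.2
    have hφ := restrict_mem F hβF hxle
    have hy : (x : Ω)⁻¹ * ((β x : P) : Ω) ∈ Q (⟨(i : ℕ), hilt⟩ : Fin n).succ := by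
      apply hstep ⟨(i : ℕ), hilt⟩
      apply Subgroup.subset_closure
      refine ⟨(x : Ω), ?_, _, hφ, ?_⟩
      · rw [← hi']
        exact hx
      · rfl
    have hyfix : β (x⁻¹ * β x) = x⁻¹ * β x := by
      apply ih (⟨(i : ℕ), hilt⟩ : Fin n).succ
      · simp only [Fin.val_succ]
        omega
      · exact hy
    have hpow : ∀ k : ℕ, (β ^ k) x = x * (x⁻¹ * β x) ^ k := by
      intro k
      induction k with
      | zero => simp
      | succ k ihk =>
        rw [pow_succ', MulAut.mul_apply, ihk, map_mul, map_pow, hyfix, pow_succ', ← mul_assoc x,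
          mul_inv_cancel_left]
    have h1 := hpow m
    rw [hβm, MulAut.one_apply] at h1
    have h2 : (x⁻¹ * β x) ^ m = 1 := by
      have : x * (x⁻¹ * β x) ^ m = x * 1 := by rw [mul_one]; exact h1.symm
      exact mul_left_cancel this
    -- the element has p-power order
    obtain ⟨k, hk⟩ := hS ⟨((x⁻¹ * β x : P) : Ω), hP (x⁻¹ * β x).2⟩
    have hk' : (x⁻¹ * β x) ^ p ^ k = 1 := by
      apply Subtype.ext
      have := congrArg Subtype.val hk
      simpa using this
    have h3 : x⁻¹ * β x ∈ (⊥ : Subgroup P) :=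
      mem_of_pow_mem_of_coprime ⊥ hk' (Nat.Coprime.pow_right k hm) (by rw [h2]; exact Subgroup.one_mem _)
    have h4 : x⁻¹ * β x = 1 := Subgroup.mem_bot.mp h3
    exact (inv_mul_eq_one.mp h4).symm

/-- If an iterated focal chain reaches the trivial subgroup then the system is the inner one. -/
theorem eq_inner_of_focal_chain [Finite S] (p : ℕ) [Fact p.Prime] (hS : IsPGroup p S)
    (F : FusionSystem S) (hF : F.IsSaturated p) (n : ℕ) (Q : Fin (n + 1) → Subgroup Ω)
    (hQ0 : Q 0 = S) (hQn : Q (Fin.last n) = ⊥)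
    (hstep : ∀ i : Fin n, Subgroup.closure {y : Ω | ∃ x ∈ Q i.castSucc,
      ∃ φ ∈ F.Hom (Subgroup.zpowers x), y = x⁻¹ * φ ⟨x, Subgroup.mem_zpowers x⟩} ≤ Q i.succ) :
    F = innerFusionSystem S := by
  apply eq_inner_of_autGroups_pGroups p hS F hF
  intro P hP
  haveI : Finite P := finite_of_le_finite hP
  intro α
  -- decompose the order of α
  obtain ⟨k, m, hm, hkm⟩ := Nat.exists_eq_pow_mul_and_not_dvd (orderOf_pos α).ne' p
    (Fact.out : p.Prime).ne_one
  refine ⟨k, ?_⟩
  have hcop : Nat.Coprime m p :=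
    (Nat.Coprime.symm ((Nat.Prime.coprime_iff_not_dvd (Fact.out : p.Prime)).mpr hm))
  have hβm : (((α ^ p ^ k : ↥(F.autGroup P)) : MulAut P)) ^ m = 1 := by
    have h1 : (α ^ p ^ k) ^ m = 1 := by
      rw [← pow_mul, ← hkm]
      exact pow_orderOf_eq_one α
    have := congrArg Subtype.val h1
    simpa using this
  have key := aut_eq_one_of_focal_chain hS F n Q hQn hstep hP
    ((α ^ p ^ k : ↥(F.autGroup P)) : MulAut P) (α ^ p ^ k).2 m hcop hβm n 0 (by simp)
  apply Subtype.ext
  apply MulEquiv.ext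
  intro x
  exact key x (by rw [hQ0]; exact hP x.2)

end Cfsg.Agent.Helper8
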