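import Cfsg.Agent.Helper8.FusionIso
import Cfsg.Agent.Helper8.FusionMisc

set_option autoImplicit false

namespace Cfsg.Agent.Helper8

open Cfsg

variable {Ω : Type*} [Group Ω] {S T : Subgroup Ω}

/-- The image of `P` under an automorphism of `T`. -/
abbrev img (α : MulAut T) (P : Subgroup Ω) : Subgroup Ω :=
  (P.subgroupOf T).map (T.subtype.comp α.toMonoidHom)

theorem mem_img {α : MulAut T} {P : Subgroup Ω} {y : Ω} :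
    y ∈ img α P ↔ ∃ x : T, (x : Ω) ∈ P ∧ ((α x : T) : Ω) = y := Iff.rfl

theorem img_le (α : MulAut T) (P : Subgroup Ω) : img α P ≤ T := by
  rintro _ ⟨x, -, rfl⟩
  exact (α x).2

theorem apply_mem_img (α : MulAut T) {P : Subgroup Ω} (hPT : P ≤ T) (x : P) :
    ((α ⟨x, hPT x.2⟩ : T) : Ω) ∈ img α P := ⟨⟨x, hPT x.2⟩, x.2, rfl⟩

/-- `χ` on `α(P)` is the conjugate of `φ` on `P` by `α`. -/
def IsConjOf (α : MulAut T) {P : Subgroup Ω} (hPT : P ≤ T) (φ : P →* Ω)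
    (χ : ↥(img α P) →* Ω) : Prop :=
  ∀ (x : P) (hφx : φ x ∈ T) (hαx : ((α ⟨x, hPT x.2⟩ : T) : Ω) ∈ img α P),
    χ ⟨(α ⟨x, hPT x.2⟩ : T), hαx⟩ = ((α ⟨φ x, hφx⟩ : T) : Ω)

/-- The maps of `E` are permuted by conjugation with `Aut_F(T)`. -/
def ConjInv (F : FusionSystem S) (E : FusionSystem T) : Prop :=
  ∀ (P : Subgroup Ω) (hPT : P ≤ T) (φ : P →* Ω), φ ∈ E.Hom P → ∀ α ∈ F.autGroup T,
    ∃ χ ∈ E.Hom (img α P), IsConjOf α hPT φ χ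

theorem conjInv_of_isInvariantIn {F : FusionSystem S} {E : FusionSystem T}
    (h : E.IsInvariantIn F) : ConjInv F E := h.2.2.1

/-- The system of the maps `α ∘ φ₀` with `α ∈ Aut_F(T)` and `φ₀` a map of `E`. -/
def frattiniSystem (F : FusionSystem S) (E : FusionSystem T) (hc : ConjInv F E) :
    FusionSystem T where
  Hom P := {φ | ∃ α ∈ F.autGroup T, ∃ φ₀ ∈ E.Hom P,
    ∀ (x : P) (hx : φ₀ x ∈ T), φ x = ((α ⟨φ₀ x, hx⟩ : T) : Ω)}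
  le_of_mem := by
    rintro P φ ⟨α, hα, φ₀, hφ₀, h⟩
    refine ⟨hom_le E hφ₀, fun x => ?_⟩
    rw [h x (hom_mem E hφ₀ x)]
    exact (α _).2
  injective_of_mem := by
    rintro P φ ⟨α, hα, φ₀, hφ₀, h⟩ x y hxy
    rw [h x (hom_mem E hφ₀ x), h y (hom_mem E hφ₀ y)] at hxy
    have h1 := α.injective (Subtype.ext hxy)
    exact E.injective_of_mem hφ₀ (congrArg Subtype.val h1)
  conj_mem := by
    intro P g hP hg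
    exact ⟨1, one_mem _, conjHom P g, E.conj_mem hP hg, fun x hx => rfl⟩
  comp_mem := by
    rintro P Q φ ψ ⟨α, hα, φ₀, hφ₀, hφ⟩ ⟨β, hβ, ψ₀, hψ₀, hψ⟩ h
    have hQT := hom_le E hψ₀
    obtain ⟨χ, hχ, hχc⟩ := hc Q hQT ψ₀ hψ₀ α⁻¹ (inv_mem hα)
    have hφ₀T : ∀ x : P, φ₀ x ∈ T := hom_mem E hφ₀
    have hφT : ∀ x : P, φ x ∈ T := fun x => hQT (h x)
    have key : ∀ x : P, α⁻¹ ⟨φ x, hφT x⟩ = ⟨φ₀ x, hφ₀T x⟩ := by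
      intro x
      have h1 : (⟨φ x, hφT x⟩ : T) = α ⟨φ₀ x, hφ₀T x⟩ := Subtype.ext (hφ x _)
      rw [h1, MulAut.inv_apply_self]
    have h' : ∀ x : P, φ₀ x ∈ img α⁻¹ Q := by
      intro x
      exact ⟨⟨φ x, hφT x⟩, h x, congrArg Subtype.val (key x)⟩
    refine ⟨β * α, mul_mem hβ hα, χ.comp (φ₀.codRestrict _ h'), E.comp_mem hφ₀ hχ h',
      fun x hx => ?_⟩
    have hψ₀T := hom_mem E hψ₀ ⟨φ x, h x⟩
    have h2 := hχc ⟨φ x, h x⟩ hψ₀T (apply_mem_img α⁻¹ hQT ⟨φ x, h x⟩)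
    have h2' : χ ⟨φ₀ x, h' x⟩ = ((α⁻¹ ⟨ψ₀ ⟨φ x, h x⟩, hψ₀T⟩ : T) : Ω) := by
      rw [← h2]
      congr 1
      exact Subtype.ext (congrArg Subtype.val (key x)).symm
    have h4 : (⟨χ ⟨φ₀ x, h' x⟩, hx⟩ : T) = α⁻¹ ⟨ψ₀ ⟨φ x, h x⟩, hψ₀T⟩ := Subtype.ext h2'
    show ψ ⟨φ x, h x⟩ = ((β (α ⟨χ ⟨φ₀ x, h' x⟩, hx⟩) : T) : Ω)
    rw [hψ ⟨φ x, h x⟩ hψ₀T, h4, MulAut.apply_inv_self]
  inv_mem := by
    rintro P φ ⟨α, hα, φ₀, hφ₀, hφ⟩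
    have hPT := hom_le E hφ₀
    have hφ₀T : ∀ x : P, φ₀ x ∈ T := hom_mem E hφ₀
    obtain ⟨ψ₀, hψ₀, hinv⟩ := E.inv_mem hφ₀
    have hRT : φ₀.range ≤ T := range_le E hφ₀
    obtain ⟨χ, hχ, hχc⟩ := hc φ₀.range hRT ψ₀ hψ₀ α hα
    have hle : φ.range ≤ img α φ₀.range := by
      rintro _ ⟨x, rfl⟩
      rw [hφ x (hφ₀T x)]
      exact ⟨⟨φ₀ x, hφ₀T x⟩, ⟨x, rfl⟩, rfl⟩
    have hχ' := restrict_mem E hχ hle
    have hχ'T : ∀ y : φ.range, (χ.comp (Subgroup.inclusion hle)) y ∈ T := hom_mem E hχ'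
    refine ⟨T.subtype.comp ((α⁻¹ : MulAut T).toMonoidHom.comp
      ((χ.comp (Subgroup.inclusion hle)).codRestrict T hχ'T)),
      ⟨α⁻¹, inv_mem hα, _, hχ', fun y hy => rfl⟩, fun x => ?_⟩
    have h2 := hχc ⟨φ₀ x, ⟨x, rfl⟩⟩ (hom_mem E hψ₀ _) (apply_mem_img α hRT ⟨φ₀ x, ⟨x, rfl⟩⟩)
    have h2' : ((α ⟨ψ₀ ⟨φ₀ x, ⟨x, rfl⟩⟩, hom_mem E hψ₀ _⟩ : T) : Ω) =
        ((α ⟨(x : Ω), hPT x.2⟩ : T) : Ω) := by
      congr 2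
      exact Subtype.ext (hinv x)
    have h3 : (χ.comp (Subgroup.inclusion hle)) ⟨φ x, ⟨x, rfl⟩⟩ =
        ((α ⟨(x : Ω), hPT x.2⟩ : T) : Ω) := by
      rw [← h2', ← h2]
      show χ _ = χ _
      congr 1
      exact Subtype.ext (hφ x (hφ₀T x))
    have h4 : (⟨(χ.comp (Subgroup.inclusion hle)) ⟨φ x, ⟨x, rfl⟩⟩, hχ'T _⟩ : T) =
        α ⟨(x : Ω), hPT x.2⟩ := Subtype.ext h3
    show (((α⁻¹ : MulAut T) ⟨(χ.comp (Subgroup.inclusion hle)) ⟨φ x, ⟨x, rfl⟩⟩, hχ'T _⟩ : T) : Ω)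
      = x
    rw [h4, MulAut.inv_apply_self]

end Cfsg.Agent.Helper8
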