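import Cfsg.Agent.Helper8.FusionInv1
import Cfsg.Agent.Helper8.FusionAlperin3

set_option autoImplicit false

namespace Cfsg.Agent.Helper8

open Cfsg

variable {Ω : Type*} [Group Ω] {S T : Subgroup Ω}

theorem isFullyNormalized_of_stronglyClosed [Finite S] (F : FusionSystem S)
    (hT : F.StronglyClosed T) : F.IsFullyNormalized T := by
  refine ⟨hT.1, fun Q hQ => ?_⟩
  obtain ⟨φ, hφ, rfl⟩ := hQ
  have : Finite T := finite_of_le_finite hT.1
  have h1 : φ.range = T := by
    apply Subgroup.eq_of_le_of_card_ge
    · rintro _ ⟨x, rfl⟩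
      exact hT.2 T le_rfl φ hφ x
    · exact le_of_eq (Nat.card_congr (Equiv.ofInjective φ (F.injective_of_mem hφ)))
  rw [h1]

/-- Relative form of Alperin's fusion theorem: to show that all maps of `F` between subgroups of
the strongly closed subgroup `T` lie in the system `D` over `T`, it suffices to treat the
automorphism groups of fully normalized subgroups of `T`, inductively. -/
theorem relAlperin [Finite S] (p : ℕ) [Fact p.Prime] (hS : IsPGroup p S) (F : FusionSystem S)
    (hF : F.IsSaturated p) (hT : F.StronglyClosed T) (D : FusionSystem T)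
    (H : ∀ Q : Subgroup Ω, Q ≤ T → F.IsFullyNormalized Q →
      (∀ R : Subgroup Ω, R ≤ T → Q < R → F.Hom R ⊆ D.Hom R) → F.autGroup Q ≤ D.autGroup Q) :
    ∀ P : Subgroup Ω, P ≤ T → F.Hom P ⊆ D.Hom P := by
  have hTS := hT.1
  have hfT : Finite T := finite_of_le_finite hTS
  have hTp : IsPGroup p T := hS.to_le hTS
  have key : ∀ n : ℕ, ∀ P : Subgroup Ω, P ≤ T → Nat.card T - Nat.card P = n →
      F.Hom P ⊆ D.Hom P := by
    intro n
    induction n using Nat.strong_induction_on with
    | _ n ih =>
      intro P hPT hn φ hφ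
      have hPS := hom_le F hφ
      have hQT : φ.range ≤ T := by
        rintro _ ⟨x, rfl⟩
        exact hT.2 P hPT φ hφ x
      by_cases hPeq : P = T
      · subst hPeq
        have hr : φ.range = P := Subgroup.eq_of_le_of_card_ge hQT
          (le_of_eq (Nat.card_congr (Equiv.ofInjective φ (F.injective_of_mem hφ))))
        have he : IsIso F (equivOfRange φ (F.injective_of_mem hφ) hr) :=
          isIso_equivOfRange F hφ hr
        have h1 := H P le_rfl (isFullyNormalized_of_stronglyClosed F hT)
          (fun R hR hlt => absurd hR (not_le_of_gt hlt)) ((mem_autGroup_iff F hPS _).mpr he)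
        have h2 : IsIso D (equivOfRange φ (F.injective_of_mem hφ) hr) :=
          (mem_autGroup_iff D le_rfl _).mp h1
        exact (isIso_iff D _ (fun _ => rfl)).mp h2
      · have hPlt : P < T := lt_of_le_of_ne hPT hPeq
        have hQS : φ.range ≤ S := range_le F hφ
        have he : IsIso F (equivOfRange φ (F.injective_of_mem hφ) rfl) := isIso_equivOfRange F hφ rfl
        obtain ⟨R, hPR, hRn⟩ := exists_fullyNormalized F hPS
        have hRT : R ≤ T := by
          obtain ⟨χ, hχ, rfl⟩ := hPR
          rintro _ ⟨x, rfl⟩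
          exact hT.2 P hPT χ hχ x
        have props := fullyNormalized_props p hS F hF hRn
        have hRrec := receptive_of_fullyCentralized p hS F hF props.1
        have hQR : F.IsConj φ.range R := isConj_trans F (isConj_symm F ⟨φ, hφ, rfl⟩) hPR
        obtain ⟨ψ₁, hψ₁, -, hψ₁map⟩ := exists_normalizer_map p hS F props.2 hRrec hPR
        obtain ⟨ψ₂, hψ₂, -, hψ₂map⟩ := exists_normalizer_map p hS F props.2 hRrec hQR
        have hcardPQ : Nat.card P = Nat.card φ.range := isConj_card_eq F ⟨φ, hφ, rfl⟩
        have hcardPR : Nat.card P = Nat.card R := isConj_card_eq F hPR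
        have hcardlt : Nat.card P < Nat.card T := card_lt_card_of_lt hPlt
        have hQlt : φ.range < T := by
          refine lt_of_le_of_ne hQT ?_
          intro h
          rw [h] at hcardPQ
          omega
        have hNle₁ : FusionSystem.normalizerIn T P ≤ FusionSystem.normalizerIn S P :=
          inf_le_inf_right _ hTS
        have hNle₂ : FusionSystem.normalizerIn T φ.range ≤ FusionSystem.normalizerIn S φ.range :=
          inf_le_inf_right _ hTS
        have : Finite (FusionSystem.normalizerIn T P) :=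
          finite_of_le_finite (normalizerIn_le_left T P)
        have : Finite (FusionSystem.normalizerIn T φ.range) :=
          finite_of_le_finite (normalizerIn_le_left T φ.range)
        have hNP : Nat.card P < Nat.card (FusionSystem.normalizerIn T P) :=
          card_lt_card_of_lt (lt_normalizerIn hTp hPlt)
        have hNQ : Nat.card φ.range < Nat.card (FusionSystem.normalizerIn T φ.range) :=
          card_lt_card_of_lt (lt_normalizerIn hTp hQlt)
        have hNPS : Nat.card (FusionSystem.normalizerIn T P) ≤ Nat.card T :=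
          Subgroup.card_le_of_le (normalizerIn_le_left T P)
        have hNQS : Nat.card (FusionSystem.normalizerIn T φ.range) ≤ Nat.card T :=
          Subgroup.card_le_of_le (normalizerIn_le_left T φ.range)
        have hψ₁E : ψ₁.comp (Subgroup.inclusion hNle₁) ∈ D.Hom _ :=
          ih _ (by omega) _ (normalizerIn_le_left T P) rfl (restrict_mem F hψ₁ hNle₁)
        have hψ₂E : ψ₂.comp (Subgroup.inclusion hNle₂) ∈ D.Hom _ :=
          ih _ (by omega) _ (normalizerIn_le_left T φ.range) rfl (restrict_mem F hψ₂ hNle₂)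
        have hAR : F.autGroup R ≤ D.autGroup R := by
          refine H R hRT hRn (fun Q' hQ'T hRQ' φ' hφ' => ?_)
          have : Finite Q' := finite_of_le_finite hQ'T
          have hc : Nat.card R < Nat.card Q' := card_lt_card_of_lt hRQ'
          have hc2 : Nat.card Q' ≤ Nat.card T := Subgroup.card_le_of_le hQ'T
          exact ih _ (by omega) _ hQ'T rfl hφ'
        have hr₁ : (ψ₁.comp (Subgroup.inclusion (le_normalizerIn hPS))).range = R := by
          rw [range_comp_inclusion, hψ₁map]
        have hr₂ : (ψ₂.comp (Subgroup.inclusion (le_normalizerIn hQS))).range = R := by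
          rw [range_comp_inclusion, hψ₂map]
        have h₁F := restrict_mem F hψ₁ (le_normalizerIn hPS)
        have h₂F := restrict_mem F hψ₂ (le_normalizerIn hQS)
        have he₁F : IsIso F (equivOfRange _ (F.injective_of_mem h₁F) hr₁) :=
          isIso_equivOfRange F h₁F hr₁
        have he₂F : IsIso F (equivOfRange _ (F.injective_of_mem h₂F) hr₂) :=
          isIso_equivOfRange F h₂F hr₂
        have he₁E : IsIso D (equivOfRange _ (F.injective_of_mem h₁F) hr₁) :=
          (isIso_iff D _ (fun _ => rfl)).mpr (restrict_mem D hψ₁E (le_normalizerIn hPT))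
        have he₂E : IsIso D (equivOfRange _ (F.injective_of_mem h₂F) hr₂) :=
          (isIso_iff D _ (fun _ => rfl)).mpr (restrict_mem D hψ₂E (le_normalizerIn hQT))
        have hαF := isIso_trans F (isIso_symm F he₁F) (isIso_trans F he he₂F)
        have hαE := (mem_autGroup_iff D hRT _).mp (hAR ((mem_autGroup_iff F hRn.1 _).mpr hαF))
        have heE := isIso_trans D he₁E (isIso_trans D hαE (isIso_symm D he₂E))
        have heq : (equivOfRange _ (F.injective_of_mem h₁F) hr₁).trans
            (((equivOfRange _ (F.injective_of_mem h₁F) hr₁).symm.trans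
              ((equivOfRange φ (F.injective_of_mem hφ) rfl).trans
                (equivOfRange _ (F.injective_of_mem h₂F) hr₂))).trans
              (equivOfRange _ (F.injective_of_mem h₂F) hr₂).symm)
            = equivOfRange φ (F.injective_of_mem hφ) rfl := by
          ext x
          simp
        rw [heq] at heE
        exact (isIso_iff D _ (fun _ => rfl)).mp heE
  intro P hPT
  exact key _ P hPT rfl

/-- An automorphism of a receptive subgroup extends to any subgroup of its extender. -/
theorem exists_extension_of_receptive (F : FusionSystem S) {Q N : Subgroup Ω}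
    (hr : F.IsReceptive Q) {ν : MulAut Q} (hν : ν ∈ F.autGroup Q) (hQN : Q ≤ N)
    (hN : N ≤ FusionSystem.extender S Q (Q.subtype.comp ν.toMonoidHom)) :
    ∃ ψ ∈ F.Hom N, ∀ x : Q, ψ (Subgroup.inclusion hQN x) = ν x := by
  have hQS := hr.1
  have hν' : IsIso F ν := (mem_autGroup_iff F hQS ν).mp hν
  obtain ⟨ψ, hψ, hext⟩ := hr.2 Q _ hν' (range_of_isIso ν)
  refine ⟨ψ.comp (Subgroup.inclusion hN), restrict_mem F hψ hN, fun x => ?_⟩
  exact hext x x.2 (hN (hQN x.2))

theorem mem_extender_of_conj_mem (S : Subgroup Ω) {Q : Subgroup Ω} (ν : MulAut Q) {g : Ω}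
    (hgS : g ∈ S) (hgN : g ∈ Subgroup.normalizer (Q : Set Ω))
    (h : ν * conjAut Q g hgN * ν⁻¹ ∈ autInducedBy S Q) :
    g ∈ FusionSystem.extender S Q (Q.subtype.comp ν.toMonoidHom) := by
  obtain ⟨h', hh', H⟩ := (mem_autInducedBy_iff S Q _).mp h
  refine mem_extender_of S Q _ hgS hgN hh' (fun x => ?_)
  have h1 := H (ν x)
  rw [MulAut.mul_apply, MulAut.mul_apply, MulAut.inv_apply_self] at h1
  exact h1

/-- Frattini argument inside a subgroup `A` with Sylow subgroup `R` and normal subgroup `K`. -/
theorem frattini_decomp {G : Type*} [Group G] [Finite G] {p : ℕ} [Fact p.Prime]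
    {A R K : Subgroup G} (hR : ∃ R' : Sylow p A, (R' : Subgroup A) = R.subgroupOf A)
    (hRp : IsPGroup p R) (hKA : K ≤ A)
    (hK : ∀ a ∈ A, ∀ k ∈ K, a * k * a⁻¹ ∈ K) {β : G} (hβ : β ∈ A) :
    ∃ κ ∈ K, ∃ ν ∈ A, β = κ * ν ∧ ∀ x ∈ R ⊓ K, ν * x * ν⁻¹ ∈ R ⊓ K := by
  have hXp : IsPGroup p (R ⊓ K : Subgroup G) := hRp.to_le inf_le_left
  have hcjK : ∀ a ∈ A, ∀ Y : Subgroup G, Y ≤ K → cj a Y ≤ K := by
    rintro a ha Y hY _ ⟨y, hy, rfl⟩
    exact hK a ha y (hY hy)
  have hX : ∃ X' : Sylow p K, (X' : Subgroup K) = (R ⊓ K).subgroupOf K := by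
    rw [isSylowIn_iff inf_le_right hXp]
    intro Y hYK hY
    obtain ⟨n, hn, hle⟩ := exists_cj_le_of_isSylowIn hR (hYK.trans hKA) hY
    have h1 : cj n Y ≤ R ⊓ K := le_inf hle (hcjK n hn Y hYK)
    rw [← card_cj n Y]
    exact Subgroup.card_le_of_le h1
  obtain ⟨k, hk, hle⟩ := exists_cj_le_of_isSylowIn hX (hcjK β hβ _ inf_le_right)
    (isPGroup_cj β hXp)
  refine ⟨k⁻¹, inv_mem hk, k * β, mul_mem (hKA hk) hβ, by group, fun x hx => ?_⟩
  have h1 : k * (β * x * β⁻¹) * k⁻¹ ∈ R ⊓ K := hle (conj_mem_cj (conj_mem_cj hx))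
  have h2 : k * β * x * (k * β)⁻¹ = k * (β * x * β⁻¹) * k⁻¹ := by group
  rw [h2]
  exact h1

end Cfsg.Agent.Helper8
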