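import Cfsg.Agent.Helper8.FusionMorph
import Cfsg.Agent.Helper8.FusionNorm

set_option autoImplicit false

namespace Cfsg.Agent.Helper8

open Cfsg

variable {Ω : Type*} [Group Ω] {S : Subgroup Ω}

/-- `N_S^K(X)`: the elements of `S` normalizing `X` and inducing on it an automorphism in `K`. -/
def kNormalizerIn (S X : Subgroup Ω) (K : Subgroup (MulAut X)) : Subgroup Ω :=
  S ⊓ ((K.comap X.normalizerMonoidHom).map (Subgroup.normalizer (X : Set Ω)).subtype)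

theorem mem_kNormalizerIn {S X : Subgroup Ω} {K : Subgroup (MulAut X)} {g : Ω} :
    g ∈ kNormalizerIn S X K ↔
      g ∈ S ∧ ∃ hg : g ∈ Subgroup.normalizer (X : Set Ω), conjAut X g hg ∈ K := by
  constructor
  · rintro ⟨hgS, n, hn, rfl⟩
    exact ⟨hgS, n.2, hn⟩
  · rintro ⟨hgS, hg, hK⟩
    exact ⟨hgS, ⟨g, hg⟩, hK, rfl⟩

theorem eq_conjAut {X : Subgroup Ω} {α : MulAut X} {g : Ω}
    (h : ∀ x : X, ((α x : X) : Ω) = g * (x : Ω) * g⁻¹) (hg : g ∈ Subgroup.normalizer (X : Set Ω)) :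
    α = conjAut X g hg := by
  apply MulEquiv.ext
  intro x
  exact Subtype.ext (h x)

theorem autInducedBy_kNormalizerIn {S X : Subgroup Ω} {K : Subgroup (MulAut X)}
    (hK : K ≤ autInducedBy S X) : autInducedBy (kNormalizerIn S X K) X = K := by
  apply le_antisymm
  · intro α hα
    obtain ⟨g, hg, h⟩ := (mem_autInducedBy_iff _ X α).mp hα
    obtain ⟨hgS, hgN, hgK⟩ := mem_kNormalizerIn.mp hg
    rw [eq_conjAut h hgN]
    exact hgK
  · intro α hα
    obtain ⟨g, hg, h⟩ := (mem_autInducedBy_iff S X α).mp (hK hα)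
    have hgN := mem_normalizer_of_conj_eq h
    rw [mem_autInducedBy_iff]
    refine ⟨g, mem_kNormalizerIn.mpr ⟨hg, hgN, ?_⟩, h⟩
    rw [← eq_conjAut h hgN]
    exact hα

theorem conjAut_eq_one {X : Subgroup Ω} {g : Ω} (hg : g ∈ Subgroup.centralizer (X : Set Ω))
    (hgN : g ∈ Subgroup.normalizer (X : Set Ω)) : conjAut X g hgN = 1 := by
  apply MulEquiv.ext
  intro x
  apply Subtype.ext
  show g * (x : Ω) * g⁻¹ = x
  rw [← Subgroup.mem_centralizer_iff.mp hg (x : Ω) x.2]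
  group

theorem centralizerIn_kNormalizerIn {S X : Subgroup Ω} {K : Subgroup (MulAut X)} :
    FusionSystem.centralizerIn (kNormalizerIn S X K) X = FusionSystem.centralizerIn S X := by
  apply le_antisymm
  · exact inf_le_inf_right _ inf_le_left
  · intro g hg
    have hgN : g ∈ Subgroup.normalizer (X : Set Ω) := Subgroup.centralizer_le_normalizer _ hg.2
    refine ⟨mem_kNormalizerIn.mpr ⟨hg.1, hgN, ?_⟩, hg.2⟩
    rw [conjAut_eq_one hg.2 hgN]
    exact K.one_mem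

theorem card_kNormalizerIn {S X : Subgroup Ω} {K : Subgroup (MulAut X)}
    (hK : K ≤ autInducedBy S X) :
    Nat.card (kNormalizerIn S X K) = Nat.card K * Nat.card (FusionSystem.centralizerIn S X) := by
  have h := card_autInducedBy_mul (kNormalizerIn S X K) X
  rw [autInducedBy_kNormalizerIn hK, centralizerIn_kNormalizerIn] at h
  have h2 : FusionSystem.normalizerIn (kNormalizerIn S X K) X = kNormalizerIn S X K :=
    inf_eq_left.mpr (fun g hg => (mem_kNormalizerIn.mp hg).2.1)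
  rw [h2] at h
  exact h.symm

theorem mem_normalizer_sup {P Q : Subgroup Ω} {g : Ω} (hP : g ∈ Subgroup.normalizer (P : Set Ω))
    (hQ : g ∈ Subgroup.normalizer (Q : Set Ω)) : g ∈ Subgroup.normalizer ((P ⊔ Q : Subgroup Ω) : Set Ω) := by
  apply mem_normalizer_of_cj_eq
  rw [cj_sup, cj_eq_of_mem_normalizer hP, cj_eq_of_mem_normalizer hQ]

/-- The data of a `K`-normalizer system `E = N_F^K(Q)` over `N = N_S^K(Q)`. -/
structure KNormSetup (F : FusionSystem S) (Q : Subgroup Ω) (K : Subgroup (MulAut Q))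
    (N : Subgroup Ω) (E : FusionSystem N) : Prop where
  hQS : Q ≤ S
  mem_N : ∀ g : Ω, g ∈ N ↔
    g ∈ S ∧ ∃ hg : g ∈ Subgroup.normalizer (Q : Set Ω), conjAut Q g hg ∈ K
  mem_E : ∀ (P : Subgroup Ω) (φ : P →* Ω), φ ∈ E.Hom P ↔ (φ ∈ F.Hom P ∧ P ≤ N ∧
    (∀ x : P, φ x ∈ N) ∧ ∃ ψ ∈ F.Hom (P ⊔ Q),
      (∀ x : P, ψ (Subgroup.inclusion le_sup_left x) = φ x) ∧
        ∃ κ ∈ K, ∀ x : Q, ψ (Subgroup.inclusion le_sup_right x) = ((κ x : Q) : Ω))

namespace KNormSetup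

variable {F : FusionSystem S} {Q : Subgroup Ω} {K : Subgroup (MulAut Q)} {N : Subgroup Ω}
  {E : FusionSystem N}

theorem N_le (h : KNormSetup F Q K N E) : N ≤ S := fun g hg => ((h.mem_N g).mp hg).1

theorem N_le_normalizer (h : KNormSetup F Q K N E) : N ≤ Subgroup.normalizer (Q : Set Ω) :=
  fun g hg => ((h.mem_N g).mp hg).2.1

theorem sup_le_S (h : KNormSetup F Q K N E) {P : Subgroup Ω} (hP : P ≤ N) : P ⊔ Q ≤ S :=
  sup_le (hP.trans h.N_le) h.hQS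

/-- A map of `F` whose restriction to (a copy of) `Q` lies in `K` carries the elements acting on
that copy through `K` into `N`. -/
theorem map_mem (h : KNormSetup F Q K N E) {Y Q₁ : Subgroup Ω} {ψ : Y →* Ω} (hψ : ψ ∈ F.Hom Y)
    (hQ₁Y : Q₁ ≤ Y) (θ : Q ≃* Q₁) {κ₀ : MulAut Q} (hκ₀ : κ₀ ∈ K)
    (hψθ : ∀ x : Q, ψ ⟨θ x, hQ₁Y (θ x).2⟩ = ((κ₀ x : Q) : Ω)) (d : Y)
    (hd : (d : Ω) ∈ Subgroup.normalizer (Q₁ : Set Ω))
    (hdK : MulAut.congr θ.symm (conjAut Q₁ d hd) ∈ K) : ψ d ∈ N := by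
  rw [h.mem_N]
  refine ⟨hom_mem F hψ d, ?_⟩
  have hθ : ∀ x : Q, ((θ (MulAut.congr θ.symm (conjAut Q₁ d hd) x) : Q₁) : Ω)
      = (d : Ω) * (θ x : Q₁) * (d : Ω)⁻¹ := by
    intro x
    have h1 : θ (MulAut.congr θ.symm (conjAut Q₁ d hd) x) = conjAut Q₁ d hd (θ x) := by
      show θ (θ.symm (conjAut Q₁ d hd (θ.symm.symm x))) = _
      rw [MulEquiv.apply_symm_apply]
      rfl
    rw [h1]
    rfl
  have key : ∀ x : Q, (((κ₀ * MulAut.congr θ.symm (conjAut Q₁ d hd) * κ₀⁻¹) x : Q) : Ω)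
      = ψ d * (x : Ω) * (ψ d)⁻¹ := by
    intro x
    rw [MulAut.mul_apply, MulAut.mul_apply, ← hψθ]
    have h2 : (x : Ω) = ψ ⟨θ (κ₀⁻¹ x), hQ₁Y (θ (κ₀⁻¹ x)).2⟩ := by
      rw [hψθ, MulAut.apply_inv_self]
    rw [h2, ← map_inv, ← map_mul, ← map_mul]
    congr 1
    apply Subtype.ext
    exact hθ (κ₀⁻¹ x)
  have hN := mem_normalizer_of_conj_eq key
  refine ⟨hN, ?_⟩
  rw [← eq_conjAut key hN]
  exact K.mul_mem (K.mul_mem hκ₀ hdK) (K.inv_mem hκ₀)

end KNormSetup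

/-- The automorphisms of `P ⊔ Q` in the system that stabilize `P` and restrict on `Q` to an
element of `K`. -/
def stabL (F : FusionSystem S) (Q : Subgroup Ω) (K : Subgroup (MulAut Q)) (P : Subgroup Ω) :
    Subgroup (MulAut ↥(P ⊔ Q)) where
  carrier := {α | α ∈ F.autGroup (P ⊔ Q) ∧
    (∀ x : ↥(P ⊔ Q), (x : Ω) ∈ P ↔ ((α x : ↥(P ⊔ Q)) : Ω) ∈ P) ∧
    ∃ κ ∈ K, ∀ x : Q, ((α (Subgroup.inclusion le_sup_right x) : ↥(P ⊔ Q)) : Ω) = ((κ x : Q) : Ω)}
  one_mem' := ⟨one_mem _, fun x => Iff.rfl, 1, K.one_mem, fun x => rfl⟩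
  mul_mem' := by
    rintro a b ⟨ha, haP, κa, hκa, haQ⟩ ⟨hb, hbP, κb, hκb, hbQ⟩
    refine ⟨mul_mem ha hb, fun x => (hbP x).trans (haP (b x)), κa * κb, K.mul_mem hκa hκb,
      fun x => ?_⟩
    have h1 : b (Subgroup.inclusion le_sup_right x) = Subgroup.inclusion le_sup_right (κb x) :=
      Subtype.ext (hbQ x)
    rw [MulAut.mul_apply, h1, haQ, MulAut.mul_apply]
  inv_mem' := by
    rintro a ⟨ha, haP, κa, hκa, haQ⟩
    refine ⟨inv_mem ha, fun x => ?_, κa⁻¹, K.inv_mem hκa, fun x => ?_⟩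
    · have h1 := haP (a⁻¹ x)
      rw [MulAut.apply_inv_self] at h1
      exact h1.symm
    · have h1 : a (Subgroup.inclusion le_sup_right (κa⁻¹ x)) = Subgroup.inclusion le_sup_right x := by
        apply Subtype.ext
        rw [haQ, MulAut.apply_inv_self]
        rfl
      rw [← h1, MulAut.inv_apply_self]
      rfl

theorem mem_stabL {F : FusionSystem S} {Q : Subgroup Ω} {K : Subgroup (MulAut Q)} {P : Subgroup Ω}
    {α : MulAut ↥(P ⊔ Q)} : α ∈ stabL F Q K P ↔ (α ∈ F.autGroup (P ⊔ Q) ∧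
    (∀ x : ↥(P ⊔ Q), (x : Ω) ∈ P ↔ ((α x : ↥(P ⊔ Q)) : Ω) ∈ P) ∧
    ∃ κ ∈ K, ∀ x : Q, ((α (Subgroup.inclusion le_sup_right x) : ↥(P ⊔ Q)) : Ω) = ((κ x : Q) : Ω)) :=
  Iff.rfl

theorem stabL_le (F : FusionSystem S) (Q : Subgroup Ω) (K : Subgroup (MulAut Q)) (P : Subgroup Ω) :
    stabL F Q K P ≤ F.autGroup (P ⊔ Q) := fun _ h => h.1

namespace KNormSetup

variable {F : FusionSystem S} {Q : Subgroup Ω} {K : Subgroup (MulAut Q)} {N : Subgroup Ω}
  {E : FusionSystem N}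

theorem conjAut_mem_stabL (h : KNormSetup F Q K N E) {P : Subgroup Ω} (hP : P ≤ N) {g : Ω}
    (hg : g ∈ FusionSystem.normalizerIn N P)
    (hgR : g ∈ Subgroup.normalizer ((P ⊔ Q : Subgroup Ω) : Set Ω)) :
    conjAut (P ⊔ Q) g hgR ∈ stabL F Q K P := by
  obtain ⟨hgS, hgQ, hgK⟩ := (h.mem_N g).mp hg.1
  refine ⟨autInducedBy_le_autGroup F (h.sup_le_S hP) (conjAut_mem_autInducedBy _ hgS hgR),
    fun x => Subgroup.mem_normalizer_iff.mp hg.2 x, conjAut Q g hgQ, hgK, fun x => rfl⟩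

theorem normalizerIn_le_normalizer_sup (h : KNormSetup F Q K N E) (P : Subgroup Ω) :
    FusionSystem.normalizerIn N P ≤ Subgroup.normalizer ((P ⊔ Q : Subgroup Ω) : Set Ω) :=
  fun _ hg => mem_normalizer_sup hg.2 (h.N_le_normalizer hg.1)

theorem autInducedBy_le_stabL (h : KNormSetup F Q K N E) {P : Subgroup Ω} (hP : P ≤ N) :
    autInducedBy (FusionSystem.normalizerIn N P) (P ⊔ Q) ≤ stabL F Q K P := by
  intro α hα
  obtain ⟨g, hg, hgα⟩ := (mem_autInducedBy_iff _ _ α).mp hα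
  have hgR := h.normalizerIn_le_normalizer_sup P hg
  rw [eq_conjAut hgα hgR]
  exact h.conjAut_mem_stabL hP hg hgR

end KNormSetup

/-- Restriction to `P` of the automorphisms in `stabL`. -/
theorem exists_resHom (F : FusionSystem S) (Q : Subgroup Ω) (K : Subgroup (MulAut Q))
    {P : Subgroup Ω} (hR : P ⊔ Q ≤ S) :
    ∃ r : ↥(stabL F Q K P) →* MulAut P, ∀ (α : ↥(stabL F Q K P)) (x : P),
      ((r α x : P) : Ω)
        = (((α : MulAut ↥(P ⊔ Q)) (Subgroup.inclusion le_sup_left x) : ↥(P ⊔ Q)) : Ω) := by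
  have hex : ∀ α : ↥(stabL F Q K P), ∃ β : MulAut P, ∀ x : P, ((β x : P) : Ω)
      = (((α : MulAut ↥(P ⊔ Q)) (Subgroup.inclusion le_sup_left x) : ↥(P ⊔ Q)) : Ω) := by
    rintro ⟨α, hαF, hαP, -⟩
    have hαI := (mem_autGroup_iff F hR α).mp hαF
    have hφ := restrict_mem F hαI (le_sup_left : P ≤ P ⊔ Q)
    have hrange : (((P ⊔ Q).subtype.comp α.toMonoidHom).comp
        (Subgroup.inclusion (le_sup_left : P ≤ P ⊔ Q))).range = P := by
      apply le_antisymm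
      · rintro _ ⟨x, rfl⟩
        exact (hαP (Subgroup.inclusion le_sup_left x)).mp x.2
      · intro y hy
        have h1 := (hαP (α⁻¹ ⟨y, le_sup_left (b := Q) hy⟩))
        rw [MulAut.apply_inv_self] at h1
        have h2 : ((α⁻¹ ⟨y, le_sup_left (b := Q) hy⟩ : ↥(P ⊔ Q)) : Ω) ∈ P := h1.mpr hy
        refine ⟨⟨_, h2⟩, ?_⟩
        have h3 : Subgroup.inclusion (le_sup_left : P ≤ P ⊔ Q)
            ⟨((α⁻¹ ⟨y, le_sup_left (b := Q) hy⟩ : ↥(P ⊔ Q)) : Ω), h2⟩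
            = α⁻¹ ⟨y, le_sup_left (b := Q) hy⟩ := Subtype.ext rfl
        show ((α (Subgroup.inclusion (le_sup_left : P ≤ P ⊔ Q)
          ⟨((α⁻¹ ⟨y, le_sup_left (b := Q) hy⟩ : ↥(P ⊔ Q)) : Ω), h2⟩) : ↥(P ⊔ Q)) : Ω) = y
        rw [h3, MulAut.apply_inv_self]
    exact ⟨equivOfRange _ (F.injective_of_mem hφ) hrange, fun x => rfl⟩
  choose f hf using hex
  refine ⟨MonoidHom.mk' f (fun a b => ?_), hf⟩
  apply MulEquiv.ext
  intro x
  apply Subtype.ext
  rw [hf, MulAut.mul_apply, hf]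
  have h1 : (b : MulAut ↥(P ⊔ Q)) (Subgroup.inclusion le_sup_left x)
      = Subgroup.inclusion le_sup_left (f b x) := Subtype.ext (hf b x).symm
  show (((a : MulAut ↥(P ⊔ Q)) ((b : MulAut ↥(P ⊔ Q)) (Subgroup.inclusion le_sup_left x)) :
    ↥(P ⊔ Q)) : Ω) = _
  rw [h1]

namespace KNormSetup

variable {F : FusionSystem S} {Q : Subgroup Ω} {K : Subgroup (MulAut Q)} {N : Subgroup Ω}
  {E : FusionSystem N}

/-- The range of a map of `F` on `P ⊔ Q` extending `φ` on `P` and `κ` on `Q`. -/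
theorem range_ext {P : Subgroup Ω} {ψ : ↥(P ⊔ Q) →* Ω} {φ : P →* Ω}
    (hψP : ∀ x : P, ψ (Subgroup.inclusion le_sup_left x) = φ x) {κ : MulAut Q}
    (hψQ : ∀ x : Q, ψ (Subgroup.inclusion le_sup_right x) = ((κ x : Q) : Ω)) :
    ψ.range = φ.range ⊔ Q := by
  rw [range_sup, map_subgroupOf_sup_left ψ φ hψP]
  congr 1
  apply le_antisymm
  · rintro _ ⟨x, hx, rfl⟩
    have h1 : x = Subgroup.inclusion le_sup_right ⟨(x : Ω), hx⟩ := rfl
    rw [h1, hψQ]
    exact (κ _).2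
  · intro y hy
    refine ⟨Subgroup.inclusion le_sup_right (κ⁻¹ ⟨y, hy⟩), (κ⁻¹ ⟨y, hy⟩).2, ?_⟩
    rw [hψQ, MulAut.apply_inv_self]

theorem res_range (h : KNormSetup F Q K N E) {P : Subgroup Ω} (hP : P ≤ N)
    (r : ↥(stabL F Q K P) →* MulAut P)
    (hr : ∀ (α : ↥(stabL F Q K P)) (x : P), ((r α x : P) : Ω)
      = (((α : MulAut ↥(P ⊔ Q)) (Subgroup.inclusion le_sup_left x) : ↥(P ⊔ Q)) : Ω)) :
    E.autGroup P = r.range := by
  have hR := h.sup_le_S hP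
  apply le_antisymm
  · intro β hβ
    have hβE := (mem_autGroup_iff E hP β).mp hβ
    obtain ⟨-, -, -, ψ, hψ, hψP, κ, hκ, hψQ⟩ := (h.mem_E P _).mp hβE
    have hrange : ψ.range = P ⊔ Q := by
      rw [range_ext hψP hψQ, range_of_isIso β]
    have hαF : equivOfRange ψ (F.injective_of_mem hψ) hrange ∈ F.autGroup (P ⊔ Q) :=
      (mem_autGroup_iff F hR _).mpr (isIso_equivOfRange F hψ hrange)
    have hαL : equivOfRange ψ (F.injective_of_mem hψ) hrange ∈ stabL F Q K P := by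
      refine ⟨hαF, fun x => ?_, κ, hκ, fun x => hψQ x⟩
      constructor
      · intro hx
        have h1 : x = Subgroup.inclusion le_sup_left ⟨(x : Ω), hx⟩ := rfl
        show ψ x ∈ P
        rw [h1, hψP]
        exact (β _).2
      · intro hx
        have hx' : ψ x ∈ P := hx
        have h1 : ψ (Subgroup.inclusion le_sup_left (β⁻¹ ⟨ψ x, hx'⟩)) = ψ x := by
          rw [hψP]
          show ((β (β⁻¹ ⟨ψ x, hx'⟩) : P) : Ω) = ψ x
          rw [MulAut.apply_inv_self]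
        have h2 := F.injective_of_mem hψ h1
        rw [← h2]
        exact (β⁻¹ ⟨ψ x, hx'⟩).2
    refine ⟨⟨_, hαL⟩, ?_⟩
    apply MulEquiv.ext
    intro x
    apply Subtype.ext
    rw [hr]
    exact hψP x
  · rintro _ ⟨α, rfl⟩
    rw [mem_autGroup_iff E hP]
    show P.subtype.comp (r α).toMonoidHom ∈ E.Hom P
    rw [h.mem_E]
    obtain ⟨hαF, hαP, κ, hκ, hαQ⟩ := α.2
    have hαI := (mem_autGroup_iff F hR _).mp hαF
    exact ⟨restrict_mem' F hαI le_sup_left (fun x => hr α x), hP, fun x => hP (r α x).2,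
      (P ⊔ Q).subtype.comp (α : MulAut ↥(P ⊔ Q)).toMonoidHom, hαI, fun x => (hr α x).symm,
      κ, hκ, hαQ⟩

theorem res_map_autInducedBy (h : KNormSetup F Q K N E) {P : Subgroup Ω} (hP : P ≤ N)
    (r : ↥(stabL F Q K P) →* MulAut P)
    (hr : ∀ (α : ↥(stabL F Q K P)) (x : P), ((r α x : P) : Ω)
      = (((α : MulAut ↥(P ⊔ Q)) (Subgroup.inclusion le_sup_left x) : ↥(P ⊔ Q)) : Ω)) :
    ((autInducedBy (FusionSystem.normalizerIn N P) (P ⊔ Q)).subgroupOf (stabL F Q K P)).map r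
      = autInducedBy N P := by
  apply le_antisymm
  · rintro _ ⟨α, hα, rfl⟩
    obtain ⟨g, hg, hgα⟩ := (mem_autInducedBy_iff _ _ _).mp hα
    rw [mem_autInducedBy_iff]
    refine ⟨g, hg.1, fun x => ?_⟩
    rw [hr]
    exact hgα (Subgroup.inclusion le_sup_left x)
  · intro β hβ
    obtain ⟨g, hg, hgβ⟩ := (mem_autInducedBy_iff N P β).mp hβ
    have hgP := mem_normalizer_of_conj_eq hgβ
    have hgM : g ∈ FusionSystem.normalizerIn N P := ⟨hg, hgP⟩
    have hgR := h.normalizerIn_le_normalizer_sup P hgM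
    refine ⟨⟨conjAut (P ⊔ Q) g hgR, h.conjAut_mem_stabL hP hgM hgR⟩,
      conjAut_mem_autInducedBy _ hgM hgR, ?_⟩
    apply MulEquiv.ext
    intro x
    apply Subtype.ext
    rw [hr, hgβ]
    rfl

/-- If `Aut_{N_N(P)}(P ⊔ Q)` is a `p`-subgroup of maximal order of `stabL`, then `P` is fully
automized in the `K`-normalizer system. -/
theorem fullyAutomized [Finite S] (p : ℕ) [Fact p.Prime] (hS : IsPGroup p S)
    (h : KNormSetup F Q K N E) {P : Subgroup Ω} (hP : P ≤ N)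
    (hSyl : ∀ T : Subgroup (MulAut ↥(P ⊔ Q)), T ≤ stabL F Q K P → IsPGroup p T →
      Nat.card T ≤ Nat.card (autInducedBy (FusionSystem.normalizerIn N P) (P ⊔ Q))) :
    E.IsFullyAutomized p P := by
  have hR := h.sup_le_S hP
  have : Finite ↥(P ⊔ Q) := finite_of_le_finite hR
  have : Finite (MulAut ↥(P ⊔ Q)) := MulEquiv.finite_left
  obtain ⟨r, hr⟩ := exists_resHom F Q K hR
  have hMS : FusionSystem.normalizerIn N P ≤ S := inf_le_left.trans h.N_le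
  obtain ⟨R₀, hR₀⟩ := (isSylowIn_iff (h.autInducedBy_le_stabL hP)
    (isPGroup_autInducedBy (hS.to_le hMS) (P ⊔ Q))).mpr hSyl
  obtain ⟨R₁, hR₁⟩ := exists_sylow_map_eq r R₀ _ (h.res_range hP r hr)
  refine ⟨hP, R₁, ?_⟩
  rw [hR₁, hR₀, h.res_map_autInducedBy hP r hr]

end KNormSetup

end Cfsg.Agent.Helper8
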