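import Cfsg.Agent.Helper8.FusionKNorm1

set_option autoImplicit false

namespace Cfsg.Agent.Helper8

open Cfsg

variable {Ω : Type*} [Group Ω] {S : Subgroup Ω}

/-- Extension modulo `K₁`, relative form: `Q` receptive, `B ≤ Aut_S(Q)` a `p`-subgroup of maximal
order of `B K₁`, `e : R ≃ Q` an isomorphism of the system and `N ≤ N_S(R)` with
`e Aut_N(R) e⁻¹ ≤ B K₁`: then for some `χ ∈ K₁` the isomorphism `χ ∘ e` extends to `N R`. -/
theorem exists_extension_mod' [Finite S] (p : ℕ) [Fact p.Prime] (hS : IsPGroup p S)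
    (F : FusionSystem S) {R Q : Subgroup Ω} (hQr : F.IsReceptive Q)
    {e : R ≃* Q} (he : IsIso F e) (B K₁ : Subgroup (MulAut Q)) (hB : B ≤ autInducedBy S Q)
    (hK₁ : K₁ ≤ F.autGroup Q) (hBK : B ≤ Subgroup.normalizer (K₁ : Set (MulAut Q)))
    (hSyl : ∀ T : Subgroup (MulAut Q), T ≤ B ⊔ K₁ → IsPGroup p T → Nat.card T ≤ Nat.card B)
    (N : Subgroup Ω) (hNS : N ≤ S) (hNR : N ≤ Subgroup.normalizer (R : Set Ω))
    (hN : (autInducedBy N R).map (MulAut.congr e).toMonoidHom ≤ B ⊔ K₁) :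
    ∃ χ ∈ K₁, ∃ ψ ∈ F.Hom (N ⊔ R),
      ∀ x : R, ψ ⟨x, le_sup_right (a := N) x.2⟩ = ((χ (e x) : Q) : Ω) := by
  have hQS := hQr.1
  have hRS := isIso_le_left F he
  have : Finite Q := finite_of_le_finite hQS
  have : Finite (MulAut Q) := MulEquiv.finite_left
  have hUp : IsPGroup p ↥((autInducedBy N R).map (MulAut.congr e).toMonoidHom) :=
    (isPGroup_autInducedBy (hS.to_le hNS) R).map _
  have hBp : IsPGroup p B := (isPGroup_autInducedBy hS Q).to_le hB
  have hSyl' : ∃ R₁ : Sylow p ↥(B ⊔ K₁), (R₁ : Subgroup ↥(B ⊔ K₁)) = B.subgroupOf (B ⊔ K₁) :=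
    (isSylowIn_iff le_sup_left hBp).mpr hSyl
  obtain ⟨m, hm, hmU⟩ := exists_cj_le_of_isSylowIn hSyl' hN hUp
  obtain ⟨a, ha, χ, hχ, rfl⟩ := mem_sup_of_le_normalizer hBK hm
  have hχU : ∀ u ∈ (autInducedBy N R).map (MulAut.congr e).toMonoidHom,
      χ * u * χ⁻¹ ∈ autInducedBy S Q := by
    intro u hu
    have h1 : (a * χ) * u * (a * χ)⁻¹ ∈ B := hmU (conj_mem_cj hu)
    have h2 : χ * u * χ⁻¹ = a⁻¹ * ((a * χ) * u * (a * χ)⁻¹) * a := by group
    rw [h2]
    exact hB (Subgroup.mul_mem _ (Subgroup.mul_mem _ (Subgroup.inv_mem _ ha) h1) ha)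
  have hχF : IsIso F χ := (mem_autGroup_iff F hQS χ).mp (hK₁ hχ)
  have he₁ : IsIso F (e.trans χ) := isIso_trans F he hχF
  have hNle : N ≤ FusionSystem.extender S R (Q.subtype.comp (e.trans χ).toMonoidHom) := by
    intro g hg
    have hgN := hNR hg
    have hβ : conjAut R g hgN ∈ autInducedBy N R := conjAut_mem_autInducedBy R hg hgN
    obtain ⟨h, hhS, hh⟩ := (mem_autInducedBy_iff S Q _).mp (hχU _ ⟨_, hβ, rfl⟩)
    apply mem_extender_of S R _ (hNS hg) hgN hhS
    intro x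
    have h1 := hh (χ (e x))
    rw [MulAut.mul_apply, MulAut.mul_apply, MulAut.inv_apply_self] at h1
    have h2 : (MulAut.congr e (conjAut R g hgN)) (e x) = e (conjAut R g hgN x) := by
      show e (conjAut R g hgN (e.symm (e x))) = _
      rw [MulEquiv.symm_apply_apply]
    have h3 : (MulAut.congr e).toMonoidHom (conjAut R g hgN) = MulAut.congr e (conjAut R g hgN) :=
      rfl
    rw [h3, h2] at h1
    exact h1
  have hRle : R ≤ FusionSystem.extender S R (Q.subtype.comp (e.trans χ).toMonoidHom) :=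
    le_extender S R _ hRS (fun x => hQS ((e.trans χ) x).2)
  obtain ⟨ψ, hψ, hψext⟩ := hQr.2 R _ he₁ (range_of_isIso (e.trans χ))
  have hle := sup_le hNle hRle
  refine ⟨χ, hχ, ψ.comp (Subgroup.inclusion hle), restrict_mem F hψ hle, fun x => ?_⟩
  exact hψext x x.2 (hRle x.2)

/-- The elements of `stabL` restricting to the identity on `P`. -/
def stabL0 (F : FusionSystem S) (Q : Subgroup Ω) (K : Subgroup (MulAut Q)) (P : Subgroup Ω) :
    Subgroup (MulAut ↥(P ⊔ Q)) where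
  carrier := {χ | χ ∈ stabL F Q K P ∧ ∀ x : P,
    χ (Subgroup.inclusion le_sup_left x) = Subgroup.inclusion le_sup_left x}
  one_mem' := ⟨one_mem _, fun x => rfl⟩
  mul_mem' := by
    rintro a b ⟨ha, ha'⟩ ⟨hb, hb'⟩
    exact ⟨mul_mem ha hb, fun x => by rw [MulAut.mul_apply, hb', ha']⟩
  inv_mem' := by
    rintro a ⟨ha, ha'⟩
    refine ⟨inv_mem ha, fun x => ?_⟩
    have h1 : a⁻¹ (a (Subgroup.inclusion le_sup_left x)) = Subgroup.inclusion le_sup_left x :=
      MulAut.inv_apply_self _ _ _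
    rw [ha'] at h1
    exact h1

theorem stabL0_le (F : FusionSystem S) (Q : Subgroup Ω) (K : Subgroup (MulAut Q)) (P : Subgroup Ω) :
    stabL0 F Q K P ≤ stabL F Q K P := fun _ h => h.1

theorem stabL0_normal {F : FusionSystem S} {Q : Subgroup Ω} {K : Subgroup (MulAut Q)}
    {P : Subgroup Ω} {a χ : MulAut ↥(P ⊔ Q)} (ha : a ∈ stabL F Q K P) (hχ : χ ∈ stabL0 F Q K P) :
    a * χ * a⁻¹ ∈ stabL0 F Q K P := by
  refine ⟨mul_mem (mul_mem ha hχ.1) (inv_mem ha), fun x => ?_⟩
  have h1 := (ha.2.1 (a⁻¹ (Subgroup.inclusion le_sup_left x)))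
  rw [MulAut.apply_inv_self] at h1
  have h2 : ((a⁻¹ (Subgroup.inclusion le_sup_left x) : ↥(P ⊔ Q)) : Ω) ∈ P := h1.mpr x.2
  have h3 : a⁻¹ (Subgroup.inclusion le_sup_left x)
      = Subgroup.inclusion le_sup_left ⟨_, h2⟩ := Subtype.ext rfl
  rw [MulAut.mul_apply, MulAut.mul_apply, h3, hχ.2, ← h3, MulAut.apply_inv_self]

theorem le_normalizer_stabL0 {F : FusionSystem S} {Q : Subgroup Ω} {K : Subgroup (MulAut Q)}
    {P : Subgroup Ω} {B : Subgroup (MulAut ↥(P ⊔ Q))} (hB : B ≤ stabL F Q K P) :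
    B ≤ Subgroup.normalizer (stabL0 F Q K P : Set (MulAut ↥(P ⊔ Q))) := by
  intro a ha
  rw [Subgroup.mem_normalizer_iff]
  intro χ
  constructor
  · intro hχ
    exact stabL0_normal (hB ha) hχ
  · intro hχ
    have h1 := stabL0_normal (inv_mem (hB ha)) hχ
    have h2 : a⁻¹ * (a * χ * a⁻¹) * a⁻¹⁻¹ = χ := by group
    rw [h2] at h1
    exact h1

/-- Transport of `stabL` along an isomorphism of the system extending `φ : P' → P` and an
element `κ` of `K`. -/
theorem congr_mem_stabL {F : FusionSystem S} {Q : Subgroup Ω} {K : Subgroup (MulAut Q)}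
    {P' P : Subgroup Ω} {ψ : ↥(P' ⊔ Q) →* Ω} (hψ : ψ ∈ F.Hom (P' ⊔ Q)) {φ : P' →* Ω}
    (hφrange : φ.range = P) (hψP : ∀ x : P', ψ (Subgroup.inclusion le_sup_left x) = φ x)
    {κ : MulAut Q} (hκ : κ ∈ K)
    (hψQ : ∀ x : Q, ψ (Subgroup.inclusion le_sup_right x) = ((κ x : Q) : Ω))
    (hrange : ψ.range = P ⊔ Q) {β : MulAut ↥(P' ⊔ Q)} (hβ : β ∈ stabL F Q K P') :
    MulAut.congr (equivOfRange ψ (F.injective_of_mem hψ) hrange) β ∈ stabL F Q K P := by
  have he_apply : ∀ z : ↥(P' ⊔ Q),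
      ((equivOfRange ψ (F.injective_of_mem hψ) hrange z : ↥(P ⊔ Q)) : Ω) = ψ z := fun z => rfl
  obtain ⟨hβF, hβP, κβ, hκβ, hβQ⟩ := hβ
  have heI : IsIso F (equivOfRange ψ (F.injective_of_mem hψ) hrange) :=
    isIso_equivOfRange F hψ hrange
  refine ⟨congr_mem_autGroup F heI hβF, fun y => ?_, κ * κβ * κ⁻¹,
    K.mul_mem (K.mul_mem hκ hκβ) (K.inv_mem hκ), fun x => ?_⟩
  · have hPiff : ∀ z : ↥(P' ⊔ Q), (z : Ω) ∈ P' ↔ ψ z ∈ P := by
      intro z
      constructor
      · intro hz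
        have h0 : z = Subgroup.inclusion le_sup_left ⟨(z : Ω), hz⟩ := rfl
        rw [h0, hψP, ← hφrange]
        exact ⟨_, rfl⟩
      · intro hz
        rw [← hφrange] at hz
        obtain ⟨w, hw⟩ := hz
        have h1 : ψ (Subgroup.inclusion le_sup_left w) = ψ z := by rw [hψP, hw]
        have h2 := F.injective_of_mem hψ h1
        rw [← h2]
        exact w.2
    have h1 : ((MulAut.congr (equivOfRange ψ (F.injective_of_mem hψ) hrange) β y : ↥(P ⊔ Q)) : Ω)
        = ψ (β ((equivOfRange ψ (F.injective_of_mem hψ) hrange).symm y)) := rfl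
    have h2 : (y : Ω) = ψ ((equivOfRange ψ (F.injective_of_mem hψ) hrange).symm y) := by
      have h3 := he_apply ((equivOfRange ψ (F.injective_of_mem hψ) hrange).symm y)
      rw [MulEquiv.apply_symm_apply] at h3
      exact h3
    rw [h1, ← hPiff, ← hβP, hPiff, ← h2]
  · have h3 : (equivOfRange ψ (F.injective_of_mem hψ) hrange).symm
        (Subgroup.inclusion le_sup_right x) = Subgroup.inclusion le_sup_right (κ⁻¹ x) := by
      apply (equivOfRange ψ (F.injective_of_mem hψ) hrange).injective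
      rw [MulEquiv.apply_symm_apply]
      apply Subtype.ext
      rw [he_apply, hψQ, MulAut.apply_inv_self]
      rfl
    show ψ (β ((equivOfRange ψ (F.injective_of_mem hψ) hrange).symm
      (Subgroup.inclusion le_sup_right x))) = _
    rw [h3]
    have h4 : β (Subgroup.inclusion le_sup_right (κ⁻¹ x))
        = Subgroup.inclusion le_sup_right (κβ (κ⁻¹ x)) := Subtype.ext (hβQ _)
    rw [h4, hψQ]
    rfl

namespace KNormSetup

variable {F : FusionSystem S} {Q : Subgroup Ω} {K : Subgroup (MulAut Q)} {N : Subgroup Ω}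
  {E : FusionSystem N}

/-- If `P ⊔ Q` is receptive in `F` and `Aut_{N_N(P)}(P ⊔ Q)` is a `p`-subgroup of maximal order of
`stabL`, then `P` is receptive in the `K`-normalizer system. -/
theorem receptive [Finite S] (p : ℕ) [Fact p.Prime] (hS : IsPGroup p S)
    (h : KNormSetup F Q K N E) {P : Subgroup Ω} (hP : P ≤ N) (hRr : F.IsReceptive (P ⊔ Q))
    (hSyl : ∀ T : Subgroup (MulAut ↥(P ⊔ Q)), T ≤ stabL F Q K P → IsPGroup p T →
      Nat.card T ≤ Nat.card (autInducedBy (FusionSystem.normalizerIn N P) (P ⊔ Q))) :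
    E.IsReceptive P := by
  refine ⟨hP, fun P' φ hφ hφrange => ?_⟩
  obtain ⟨hφF, hP'N, hφN, ψ, hψ, hψP, κ, hκ, hψQ⟩ := (h.mem_E P' φ).mp hφ
  have hR'S := h.sup_le_S hP'N
  have hRS := h.sup_le_S hP
  have hrange : ψ.range = P ⊔ Q := by rw [range_ext hψP hψQ, hφrange]
  have he : IsIso F (equivOfRange ψ (F.injective_of_mem hψ) hrange) :=
    isIso_equivOfRange F hψ hrange
  have he_apply : ∀ z : ↥(P' ⊔ Q),
      ((equivOfRange ψ (F.injective_of_mem hψ) hrange z : ↥(P ⊔ Q)) : Ω) = ψ z := fun z => rfl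
  have hMS : FusionSystem.normalizerIn N P ≤ S := inf_le_left.trans h.N_le
  have hBL := h.autInducedBy_le_stabL hP
  have hN₁N : FusionSystem.extender N P' φ ≤ FusionSystem.normalizerIn N P' :=
    extender_le_normalizerIn N P' φ
  have hkey : (autInducedBy (FusionSystem.extender N P' φ) (P' ⊔ Q)).map
      (MulAut.congr (equivOfRange ψ (F.injective_of_mem hψ) hrange)).toMonoidHom
      ≤ autInducedBy (FusionSystem.normalizerIn N P) (P ⊔ Q) ⊔ stabL0 F Q K P := by
    rintro _ ⟨β, hβ, rfl⟩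
    obtain ⟨g, hg, hgβ⟩ := (mem_autInducedBy_iff _ _ β).mp hβ
    obtain ⟨hgN, hgP', h', hh'N, hh'⟩ := (mem_extender_iff N P' φ g).mp hg
    have hgM : g ∈ FusionSystem.normalizerIn N P' := ⟨hgN, hgP'⟩
    have hgR' := h.normalizerIn_le_normalizer_sup P' hgM
    have hβeq := eq_conjAut hgβ hgR'
    have hβL : β ∈ stabL F Q K P' := by
      rw [hβeq]
      exact h.conjAut_mem_stabL hP'N hgM hgR'
    have huL := congr_mem_stabL hψ hφrange hψP hκ hψQ hrange hβL
    have hh'P : h' ∈ Subgroup.normalizer (P : Set Ω) := by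
      apply mem_normalizer_of_conj_eq
        (α := MulAut.congr (equivOfRange φ (F.injective_of_mem hφF) hφrange)
          (conjAut P' g hgP'))
      intro y
      have h1 := hh' ((equivOfRange φ (F.injective_of_mem hφF) hφrange).symm y)
      have h2 : φ ((equivOfRange φ (F.injective_of_mem hφF) hφrange).symm y) = y := by
        rw [← equivOfRange_apply φ (F.injective_of_mem hφF) hφrange,
          MulEquiv.apply_symm_apply]
      rw [h2] at h1
      rw [← h1]
      rfl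
    have hh'M : h' ∈ FusionSystem.normalizerIn N P := ⟨hh'N, hh'P⟩
    have hh'R := h.normalizerIn_le_normalizer_sup P hh'M
    have haL := h.conjAut_mem_stabL hP hh'M hh'R
    have haB : conjAut (P ⊔ Q) h' hh'R ∈ autInducedBy (FusionSystem.normalizerIn N P) (P ⊔ Q) :=
      conjAut_mem_autInducedBy _ hh'M hh'R
    have h0 : MulAut.congr (equivOfRange ψ (F.injective_of_mem hψ) hrange) β
          * (conjAut (P ⊔ Q) h' hh'R)⁻¹ ∈ stabL0 F Q K P := by
      refine ⟨mul_mem huL (inv_mem haL), fun y => ?_⟩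
      have hz : h'⁻¹ * (y : Ω) * h' ∈ P := by
        have h3 := (Subgroup.mem_normalizer_iff.mp (Subgroup.inv_mem _ hh'P) (y : Ω)).mp y.2
        rw [inv_inv] at h3
        exact h3
      have h4 : (conjAut (P ⊔ Q) h' hh'R)⁻¹ (Subgroup.inclusion le_sup_left y)
          = Subgroup.inclusion le_sup_left ⟨h'⁻¹ * (y : Ω) * h', hz⟩ := by
        apply (conjAut (P ⊔ Q) h' hh'R).injective
        rw [MulAut.apply_inv_self]
        apply Subtype.ext
        rw [conjAut_apply]
        show (y : Ω) = h' * (h'⁻¹ * (y : Ω) * h') * h'⁻¹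
        group
      rw [MulAut.mul_apply, h4]
      have hzr : h'⁻¹ * (y : Ω) * h' ∈ φ.range := by
        rw [hφrange]
        exact hz
      obtain ⟨w, hw⟩ := hzr
      have h5 : (equivOfRange ψ (F.injective_of_mem hψ) hrange).symm
          (Subgroup.inclusion le_sup_left ⟨h'⁻¹ * (y : Ω) * h', hz⟩)
          = Subgroup.inclusion le_sup_left w := by
        apply (equivOfRange ψ (F.injective_of_mem hψ) hrange).injective
        rw [MulEquiv.apply_symm_apply]
        apply Subtype.ext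
        rw [he_apply, hψP, hw]
        rfl
      apply Subtype.ext
      show ψ (β ((equivOfRange ψ (F.injective_of_mem hψ) hrange).symm
        (Subgroup.inclusion le_sup_left ⟨h'⁻¹ * (y : Ω) * h', hz⟩))) = (y : Ω)
      rw [h5]
      have h6 : β (Subgroup.inclusion le_sup_left w)
          = Subgroup.inclusion le_sup_left (conjAut P' g hgP' w) := Subtype.ext (hgβ _)
      rw [h6, hψP, hh', hw]
      group
    have h7 : (MulAut.congr (equivOfRange ψ (F.injective_of_mem hψ) hrange)).toMonoidHom β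
        = conjAut (P ⊔ Q) h' hh'R * ((conjAut (P ⊔ Q) h' hh'R)⁻¹
          * (MulAut.congr (equivOfRange ψ (F.injective_of_mem hψ) hrange) β
            * (conjAut (P ⊔ Q) h' hh'R)⁻¹) * (conjAut (P ⊔ Q) h' hh'R)⁻¹⁻¹) := by
      show MulAut.congr (equivOfRange ψ (F.injective_of_mem hψ) hrange) β = _
      group
    rw [h7]
    exact Subgroup.mul_mem _ (le_sup_left (b := stabL0 F Q K P) haB)
      (le_sup_right (a := autInducedBy (FusionSystem.normalizerIn N P) (P ⊔ Q))
        (stabL0_normal (inv_mem haL) h0))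
  obtain ⟨χ, hχ, ψh, hψh, hψhext⟩ := exists_extension_mod' p hS F hRr he
    (autInducedBy (FusionSystem.normalizerIn N P) (P ⊔ Q)) (stabL0 F Q K P)
    (autInducedBy_mono hMS _) ((stabL0_le F Q K P).trans (stabL_le F Q K P))
    (le_normalizer_stabL0 hBL)
    (fun T hT hTp => hSyl T (hT.trans (sup_le hBL (stabL0_le F Q K P))) hTp)
    (FusionSystem.extender N P' φ) ((hN₁N.trans inf_le_left).trans h.N_le)
    (hN₁N.trans (h.normalizerIn_le_normalizer_sup P')) hkey
  obtain ⟨-, -, κχ, hκχ, hχQ⟩ := hχ.1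
  have hQle : Q ≤ FusionSystem.extender N P' φ ⊔ (P' ⊔ Q) := le_sup_right.trans le_sup_right
  have hψhQ : ∀ x : Q, ψh ⟨x, hQle x.2⟩ = (((κχ * κ) x : Q) : Ω) := by
    intro x
    have h1 := hψhext (Subgroup.inclusion le_sup_right x)
    have h2 : (equivOfRange ψ (F.injective_of_mem hψ) hrange) (Subgroup.inclusion le_sup_right x)
        = Subgroup.inclusion le_sup_right (κ x) := Subtype.ext (hψQ x)
    rw [h2, hχQ] at h1
    exact h1
  have hle1 : FusionSystem.extender N P' φ ≤ FusionSystem.extender N P' φ ⊔ (P' ⊔ Q) := le_sup_left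
  have hle2 : FusionSystem.extender N P' φ ⊔ Q ≤ FusionSystem.extender N P' φ ⊔ (P' ⊔ Q) :=
    sup_le_sup_left le_sup_right _
  refine ⟨ψh.comp (Subgroup.inclusion hle1), ?_, fun x hxP hxN => ?_⟩
  · rw [h.mem_E]
    refine ⟨restrict_mem F hψh hle1, hN₁N.trans inf_le_left, fun x => ?_,
      ψh.comp (Subgroup.inclusion hle2), restrict_mem F hψh hle2, fun x => rfl, κχ * κ,
      K.mul_mem hκχ hκ, fun x => hψhQ x⟩
    have hxN : (x : Ω) ∈ N := (hN₁N x.2).1
    obtain ⟨-, hxQ, hxK⟩ := (h.mem_N _).mp hxN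
    have hxQ' : ((Subgroup.inclusion hle1 x : ↥(FusionSystem.extender N P' φ ⊔ (P' ⊔ Q))) : Ω)
        ∈ Subgroup.normalizer (Q : Set Ω) := hxQ
    refine h.map_mem hψh hQle (MulEquiv.refl Q) (K.mul_mem hκχ hκ) hψhQ
      (Subgroup.inclusion hle1 x) hxQ' ?_
    have h3 : MulAut.congr (MulEquiv.refl Q).symm (conjAut Q _ hxQ') = conjAut Q (x : Ω) hxQ := by
      apply MulEquiv.ext
      intro y
      rfl
    rw [h3]
    exact hxK
  · have h1 := hψhext ⟨x, le_sup_left (b := Q) hxP⟩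
    have hφx : φ ⟨x, hxP⟩ ∈ P := by
      rw [← hφrange]
      exact ⟨_, rfl⟩
    have h2 : (equivOfRange ψ (F.injective_of_mem hψ) hrange) ⟨x, le_sup_left (b := Q) hxP⟩
        = Subgroup.inclusion le_sup_left ⟨φ ⟨x, hxP⟩, hφx⟩ := Subtype.ext (hψP ⟨x, hxP⟩)
    rw [h2, hχ.2] at h1
    exact h1

end KNormSetup

end Cfsg.Agent.Helper8
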