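import Cfsg.Agent.Helper8.FusionKNorm2

set_option autoImplicit false

namespace Cfsg.Agent.Helper8

open Cfsg

variable {Ω : Type*} [Group Ω] {S : Subgroup Ω}

/-- The extension property of a fully `K`-normalized subgroup `Q`: for every isomorphism
`θ : Q ≃ Q₁` of the system and every subgroup `X ≤ S` acting on `Q₁` through `θ K θ⁻¹`, some map
of the system on `X Q₁` composes with `θ` to an element of `K`. -/
def KExt (F : FusionSystem S) (Q : Subgroup Ω) (K : Subgroup (MulAut Q)) : Prop :=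
  ∀ (Q₁ : Subgroup Ω) (θ : Q ≃* Q₁), IsIso F θ → ∀ X : Subgroup Ω, X ≤ S →
    (∀ d ∈ X, ∃ hd : d ∈ Subgroup.normalizer (Q₁ : Set Ω),
      MulAut.congr θ.symm (conjAut Q₁ d hd) ∈ K) →
    ∃ ρ ∈ F.Hom (X ⊔ Q₁), ∃ κ ∈ K,
      ∀ x : Q, ρ ⟨θ x, le_sup_right (a := X) (θ x).2⟩ = ((κ x : Q) : Ω)

theorem le_normalizer_of_forall_conj_mem {G : Type*} [Group G] {H D : Subgroup G}
    (h : ∀ d ∈ D, ∀ z ∈ H, d * z * d⁻¹ ∈ H) : D ≤ Subgroup.normalizer (H : Set G) := by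
  intro d hd
  rw [Subgroup.mem_normalizer_iff]
  intro z
  constructor
  · exact h d hd z
  · intro hz
    have h1 := h d⁻¹ (D.inv_mem hd) _ hz
    have h2 : d⁻¹ * (d * z * d⁻¹) * d⁻¹⁻¹ = z := by group
    rw [h2] at h1
    exact h1

theorem congr_symm_congr {P Q : Type*} [Group P] [Group Q] (θ : P ≃* Q) (k : MulAut P) :
    MulAut.congr θ.symm (MulAut.congr θ k) = k := by
  apply MulEquiv.ext
  intro y
  simp [MulAut.congr]

namespace KNormSetup

variable {F : FusionSystem S} {Q : Subgroup Ω} {K : Subgroup (MulAut Q)} {N : Subgroup Ω}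
  {E : FusionSystem N}

theorem exists_conj_card_le [Finite S] (h : KNormSetup F Q K N E) (hext : KExt F Q K)
    {P : Subgroup Ω} (hP : P ≤ N) {ψθ : ↥(P ⊔ Q) →* Ω} (hψθ : ψθ ∈ F.Hom (P ⊔ Q))
    (D : Subgroup Ω) (hDS : D ≤ S)
    (hD : ∀ d ∈ D, ∃ t ∈ stabL F Q K P, ∀ x : ↥(P ⊔ Q), d * ψθ x * d⁻¹ = ψθ (t x)) :
    ∃ P₂ : Subgroup Ω, E.IsConj P P₂ ∧
      Nat.card D ≤ Nat.card (FusionSystem.normalizerIn N P₂) := by
  have hθq : ψθ.comp (Subgroup.inclusion (le_sup_right : Q ≤ P ⊔ Q)) ∈ F.Hom Q :=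
    restrict_mem F hψθ le_sup_right
  obtain ⟨Q₁, hQ₁⟩ : ∃ Q₁ : Subgroup Ω,
      (ψθ.comp (Subgroup.inclusion (le_sup_right : Q ≤ P ⊔ Q))).range = Q₁ := ⟨_, rfl⟩
  obtain ⟨θQ, hθQ_def⟩ : ∃ θQ : Q ≃* Q₁, θQ = equivOfRange _ (F.injective_of_mem hθq) hQ₁ :=
    ⟨_, rfl⟩
  have hθQ : IsIso F θQ := by
    rw [hθQ_def]
    exact isIso_equivOfRange F hθq hQ₁
  have hθQ_apply : ∀ x : Q, ((θQ x : Q₁) : Ω) = ψθ (Subgroup.inclusion le_sup_right x) := by
    intro x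
    rw [hθQ_def]
    rfl
  have hXS : kNormalizerIn S Q₁ (K.map (MulAut.congr θQ).toMonoidHom) ≤ S := inf_le_left
  have hXK : ∀ d ∈ kNormalizerIn S Q₁ (K.map (MulAut.congr θQ).toMonoidHom),
      ∃ hd : d ∈ Subgroup.normalizer (Q₁ : Set Ω),
        MulAut.congr θQ.symm (conjAut Q₁ d hd) ∈ K := by
    intro d hd
    obtain ⟨-, hdN, k, hk, hkeq⟩ := mem_kNormalizerIn.mp hd
    refine ⟨hdN, ?_⟩
    rw [← hkeq]
    show MulAut.congr θQ.symm (MulAut.congr θQ k) ∈ K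
    rw [congr_symm_congr]
    exact hk
  have hX_of : ∀ d ∈ S, ∀ κ' ∈ K,
      (∀ x : Q, d * ψθ (Subgroup.inclusion le_sup_right x) * d⁻¹
        = ψθ (Subgroup.inclusion le_sup_right (κ' x))) →
      d ∈ kNormalizerIn S Q₁ (K.map (MulAut.congr θQ).toMonoidHom) := by
    intro d hdS κ' hκ' hd
    have hα : ∀ z : Q₁, ((MulAut.congr θQ κ' z : Q₁) : Ω) = d * (z : Ω) * d⁻¹ := by
      intro z
      have h1 : ((MulAut.congr θQ κ' z : Q₁) : Ω) = ((θQ (κ' (θQ.symm z)) : Q₁) : Ω) := rfl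
      have h2 : (z : Ω) = ((θQ (θQ.symm z) : Q₁) : Ω) := by rw [MulEquiv.apply_symm_apply]
      rw [h1, hθQ_apply, ← hd, ← hθQ_apply, ← h2]
    have hdN := mem_normalizer_of_conj_eq hα
    refine mem_kNormalizerIn.mpr ⟨hdS, hdN, κ', hκ', ?_⟩
    exact eq_conjAut hα hdN
  have hDX : D ≤ kNormalizerIn S Q₁ (K.map (MulAut.congr θQ).toMonoidHom) := by
    intro d hd
    obtain ⟨t, ⟨-, -, κt, hκt, htQ⟩, htd⟩ := hD d hd
    apply hX_of d (hDS hd) κt hκt
    intro x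
    rw [htd]
    congr 1
    exact Subtype.ext (htQ x)
  have hPX : ∀ y : P, ψθ (Subgroup.inclusion le_sup_left y)
      ∈ kNormalizerIn S Q₁ (K.map (MulAut.congr θQ).toMonoidHom) := by
    intro y
    obtain ⟨-, hyQ, hyK⟩ := (h.mem_N _).mp (hP y.2)
    apply hX_of _ (hom_mem F hψθ _) (conjAut Q (y : Ω) hyQ) hyK
    intro x
    rw [← map_inv, ← map_mul, ← map_mul]
    congr 1
  obtain ⟨ρ, hρ, κ₀, hκ₀, hρθ⟩ := hext Q₁ θQ hθQ _ hXS hXK
  have hval : ∀ x : ↥(P ⊔ Q), ψθ x ∈ kNormalizerIn S Q₁ (K.map (MulAut.congr θQ).toMonoidHom) ⊔ Q₁ := by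
    apply sup_induction_map ψθ
    · intro x hx
      exact le_sup_left (b := Q₁) (hPX ⟨x, hx⟩)
    · intro x hx
      apply le_sup_right (a := kNormalizerIn S Q₁ (K.map (MulAut.congr θQ).toMonoidHom))
      rw [← hQ₁]
      exact ⟨⟨x, hx⟩, rfl⟩
  have hσ := F.comp_mem hψθ hρ hval
  have hσQ : ∀ x : Q, (ρ.comp (ψθ.codRestrict _ hval)) (Subgroup.inclusion le_sup_right x)
      = ((κ₀ x : Q) : Ω) := by
    intro x
    rw [← hρθ x]
    show ρ ⟨ψθ (Subgroup.inclusion le_sup_right x), _⟩ = ρ ⟨θQ x, _⟩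
    congr 1
    exact Subtype.ext (hθQ_apply x).symm
  have hρN : ∀ d : ↥(kNormalizerIn S Q₁ (K.map (MulAut.congr θQ).toMonoidHom) ⊔ Q₁),
      (d : Ω) ∈ kNormalizerIn S Q₁ (K.map (MulAut.congr θQ).toMonoidHom) → ρ d ∈ N := by
    intro d hdX
    obtain ⟨hd, hdK⟩ := hXK d hdX
    exact h.map_mem hρ le_sup_right θQ hκ₀ hρθ d hd hdK
  have hφ₂E : (ρ.comp (ψθ.codRestrict _ hval)).comp (Subgroup.inclusion (le_sup_left : P ≤ P ⊔ Q))
      ∈ E.Hom P := by
    rw [h.mem_E]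
    exact ⟨restrict_mem F hσ le_sup_left, hP, fun y => hρN _ (hPX y), _, hσ, fun x => rfl,
      κ₀, hκ₀, hσQ⟩
  refine ⟨_, ⟨_, hφ₂E, rfl⟩, ?_⟩
  have hnorm : ∀ d (hd : d ∈ D), ∀ z ∈ ((ρ.comp (ψθ.codRestrict _ hval)).comp
      (Subgroup.inclusion (le_sup_left : P ≤ P ⊔ Q))).range,
      ρ ⟨d, le_sup_left (b := Q₁) (hDX hd)⟩ * z * (ρ ⟨d, le_sup_left (b := Q₁) (hDX hd)⟩)⁻¹
        ∈ ((ρ.comp (ψθ.codRestrict _ hval)).comp
          (Subgroup.inclusion (le_sup_left : P ≤ P ⊔ Q))).range := by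
    rintro d hd _ ⟨y, rfl⟩
    obtain ⟨t, ⟨-, htP, -⟩, htd⟩ := hD d hd
    have hty : ((t (Subgroup.inclusion le_sup_left y) : ↥(P ⊔ Q)) : Ω) ∈ P :=
      (htP (Subgroup.inclusion le_sup_left y)).mp y.2
    refine ⟨⟨_, hty⟩, ?_⟩
    show ρ ⟨ψθ (Subgroup.inclusion le_sup_left ⟨_, hty⟩), _⟩
      = ρ ⟨d, _⟩ * ρ ⟨ψθ (Subgroup.inclusion le_sup_left y), _⟩ * (ρ ⟨d, _⟩)⁻¹
    rw [← map_inv, ← map_mul, ← map_mul]
    congr 1
    apply Subtype.ext
    show ψθ (Subgroup.inclusion le_sup_left ⟨_, hty⟩) = d * ψθ (Subgroup.inclusion le_sup_left y) * d⁻¹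
    rw [htd]
    rfl
  have hMS : FusionSystem.normalizerIn N (((ρ.comp (ψθ.codRestrict _ hval)).comp
      (Subgroup.inclusion (le_sup_left : P ≤ P ⊔ Q))).range) ≤ S := inf_le_left.trans h.N_le
  have : Finite ↥(FusionSystem.normalizerIn N (((ρ.comp (ψθ.codRestrict _ hval)).comp
      (Subgroup.inclusion (le_sup_left : P ≤ P ⊔ Q))).range)) := finite_of_le_finite hMS
  have hmem : ∀ d : D, ρ ⟨d, le_sup_left (b := Q₁) (hDX d.2)⟩
      ∈ FusionSystem.normalizerIn N (((ρ.comp (ψθ.codRestrict _ hval)).comp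
        (Subgroup.inclusion (le_sup_left : P ≤ P ⊔ Q))).range) := by
    intro d
    refine ⟨hρN _ (hDX d.2), ?_⟩
    have hle : (ρ.comp (Subgroup.inclusion (hDX.trans le_sup_left))).range
        ≤ Subgroup.normalizer (((((ρ.comp (ψθ.codRestrict _ hval)).comp
          (Subgroup.inclusion (le_sup_left : P ≤ P ⊔ Q))).range : Subgroup Ω)) : Set Ω) := by
      apply le_normalizer_of_forall_conj_mem
      rintro _ ⟨d', rfl⟩ z hz
      exact hnorm d'.1 d'.2 z hz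
    exact hle ⟨d, rfl⟩
  apply Nat.card_le_card_of_injective (fun d : D => (⟨_, hmem d⟩ :
    ↥(FusionSystem.normalizerIn N (((ρ.comp (ψθ.codRestrict _ hval)).comp
      (Subgroup.inclusion (le_sup_left : P ≤ P ⊔ Q))).range))))
  intro d₁ d₂ h12
  have h1 : ρ ⟨d₁, le_sup_left (b := Q₁) (hDX d₁.2)⟩ = ρ ⟨d₂, le_sup_left (b := Q₁) (hDX d₂.2)⟩ :=
    congrArg Subtype.val h12
  have h2 := F.injective_of_mem hρ h1
  exact Subtype.ext (Subtype.mk.inj h2)

end KNormSetup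

theorem exists_iso_conj_into [Finite S] (p : ℕ) [Fact p.Prime] (hS : IsPGroup p S)
    (F : FusionSystem S) (hF : F.IsSaturated p) {R R₁ : Subgroup Ω} (hR₁ : F.IsConj R R₁)
    (hR₁n : F.IsFullyNormalized R₁) (T : Subgroup (MulAut R)) (hT : T ≤ F.autGroup R)
    (hTp : IsPGroup p T) :
    ∃ θ : R ≃* R₁, IsIso F θ ∧ ∀ t ∈ T, MulAut.congr θ t ∈ autInducedBy S R₁ := by
  obtain ⟨e₀, he₀⟩ := (isConj_iff_exists_isIso F).mp hR₁
  have hR₁S := hR₁n.1
  have hR₁a := (fullyNormalized_props p hS F hF hR₁n).2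
  have hT₁ : T.map (MulAut.congr e₀).toMonoidHom ≤ F.autGroup R₁ := by
    rintro _ ⟨t, ht, rfl⟩
    exact congr_mem_autGroup F he₀ (hT ht)
  obtain ⟨χ, hχ, hχle⟩ := exists_conj_le_autInducedBy F p hR₁a hT₁ (hTp.map _)
  have hχI := (mem_autGroup_iff F hR₁S χ).mp hχ
  refine ⟨e₀.trans χ, isIso_trans F he₀ hχI, fun t ht => ?_⟩
  have h1 : χ * MulAut.congr e₀ t * χ⁻¹ ∈ autInducedBy S R₁ := hχle (conj_mem_cj ⟨t, ht, rfl⟩)
  have h2 : MulAut.congr (e₀.trans χ) t = χ * MulAut.congr e₀ t * χ⁻¹ := by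
    apply MulEquiv.ext
    intro y
    rfl
  rw [h2]
  exact h1

namespace KNormSetup

variable {F : FusionSystem S} {Q : Subgroup Ω} {K : Subgroup (MulAut Q)} {N : Subgroup Ω}
  {E : FusionSystem N}

theorem card_mul_le [Finite S] (p : ℕ) [Fact p.Prime] (hS : IsPGroup p S) (hF : F.IsSaturated p)
    (h : KNormSetup F Q K N E) (hext : KExt F Q K) {P : Subgroup Ω} (hP : E.IsFullyNormalized P)
    {R₁ : Subgroup Ω} (hR₁ : F.IsConj (P ⊔ Q) R₁) (hR₁n : F.IsFullyNormalized R₁)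
    (T : Subgroup (MulAut ↥(P ⊔ Q))) (hT : T ≤ stabL F Q K P) (hTp : IsPGroup p T) :
    Nat.card T * Nat.card (FusionSystem.centralizerIn S R₁)
      ≤ Nat.card (autInducedBy (FusionSystem.normalizerIn N P) (P ⊔ Q))
        * Nat.card (FusionSystem.centralizerIn S (P ⊔ Q)) := by
  have hPN := hP.1
  have hRS := h.sup_le_S hPN
  obtain ⟨θ, hθ, hθT⟩ := exists_iso_conj_into p hS F hF hR₁ hR₁n T
    (hT.trans (stabL_le F Q K P)) hTp
  have hT₁ : T.map (MulAut.congr θ).toMonoidHom ≤ autInducedBy S R₁ := by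
    rintro _ ⟨t, ht, rfl⟩
    exact hθT t ht
  have hDcard := card_kNormalizerIn hT₁
  have hTcard : Nat.card (T.map (MulAut.congr θ).toMonoidHom) = Nat.card T :=
    Subgroup.card_map_of_injective (MulAut.congr θ).injective
  obtain ⟨P₂, hPP₂, hcard⟩ := h.exists_conj_card_le hext hPN hθ
    (kNormalizerIn S R₁ (T.map (MulAut.congr θ).toMonoidHom)) inf_le_left (by
      intro d hd
      obtain ⟨-, hdN, t, ht, hteq⟩ := mem_kNormalizerIn.mp hd
      refine ⟨t, hT ht, fun x => ?_⟩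
      have h1 : conjAut R₁ d hdN (θ x) = MulAut.congr θ t (θ x) := by
        rw [← hteq]
        rfl
      have h2 : MulAut.congr θ t (θ x) = θ (t x) := by
        show θ (t (θ.symm (θ x))) = _
        rw [MulEquiv.symm_apply_apply]
      rw [h2] at h1
      exact congrArg Subtype.val h1)
  have h3 := hP.2 P₂ hPP₂
  have hM := card_autInducedBy_mul (FusionSystem.normalizerIn N P) (P ⊔ Q)
  have hMn : FusionSystem.normalizerIn (FusionSystem.normalizerIn N P) (P ⊔ Q)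
      = FusionSystem.normalizerIn N P := inf_eq_left.mpr (h.normalizerIn_le_normalizer_sup P)
  rw [hMn] at hM
  have hMS : FusionSystem.normalizerIn N P ≤ S := inf_le_left.trans h.N_le
  have : Finite ↥(FusionSystem.centralizerIn S (P ⊔ Q)) :=
    finite_of_le_finite (centralizerIn_le_left S _)
  have hC : Nat.card (FusionSystem.centralizerIn (FusionSystem.normalizerIn N P) (P ⊔ Q))
      ≤ Nat.card (FusionSystem.centralizerIn S (P ⊔ Q)) :=
    Subgroup.card_le_of_le (inf_le_inf_right _ hMS)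
  calc Nat.card T * Nat.card (FusionSystem.centralizerIn S R₁)
      = Nat.card (kNormalizerIn S R₁ (T.map (MulAut.congr θ).toMonoidHom)) := by
        rw [hDcard, hTcard]
    _ ≤ Nat.card (FusionSystem.normalizerIn N P₂) := hcard
    _ ≤ Nat.card (FusionSystem.normalizerIn N P) := h3
    _ = Nat.card (autInducedBy (FusionSystem.normalizerIn N P) (P ⊔ Q))
        * Nat.card (FusionSystem.centralizerIn (FusionSystem.normalizerIn N P) (P ⊔ Q)) := hM.symm
    _ ≤ _ := Nat.mul_le_mul_left _ hC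

/-- A `K`-normalizer system of a saturated system, at a subgroup with the extension property, is
saturated. -/
theorem saturated [Finite S] (p : ℕ) [Fact p.Prime] (hS : IsPGroup p S) (hF : F.IsSaturated p)
    (h : KNormSetup F Q K N E) (hext : KExt F Q K) : E.IsSaturated p := by
  have : Finite N := finite_of_le_finite h.N_le
  intro P hPN
  obtain ⟨P', hPP', hP'n⟩ := exists_fullyNormalized E hPN
  have hP'N := hP'n.1
  have hR'S := h.sup_le_S hP'N
  obtain ⟨R₁, hR₁, hR₁n⟩ := exists_fullyNormalized F hR'S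
  have hR₁c := (fullyNormalized_props p hS F hF hR₁n).1
  have hMS : FusionSystem.normalizerIn N P' ≤ S := inf_le_left.trans h.N_le
  have hBL := h.autInducedBy_le_stabL hP'N
  have hBp : IsPGroup p ↥(autInducedBy (FusionSystem.normalizerIn N P') (P' ⊔ Q)) :=
    isPGroup_autInducedBy (hS.to_le hMS) _
  have : Finite ↥(P' ⊔ Q) := finite_of_le_finite hR'S
  have : Finite (MulAut ↥(P' ⊔ Q)) := MulEquiv.finite_left
  have : Finite ↥(FusionSystem.centralizerIn S R₁) :=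
    finite_of_le_finite (centralizerIn_le_left S _)
  have h1 := h.card_mul_le p hS hF hext hP'n hR₁ hR₁n _ hBL hBp
  have hc : Nat.card (FusionSystem.centralizerIn S R₁)
      ≤ Nat.card (FusionSystem.centralizerIn S (P' ⊔ Q)) :=
    Nat.le_of_mul_le_mul_left h1 Nat.card_pos
  have hR'c : F.IsFullyCentralized (P' ⊔ Q) :=
    ⟨hR'S, fun R'' hR'' => (hR₁c.2 R'' (isConj_trans F (isConj_symm F hR₁) hR'')).trans hc⟩
  have hR'r := receptive_of_fullyCentralized p hS F hF hR'c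
  have hSyl : ∀ T : Subgroup (MulAut ↥(P' ⊔ Q)), T ≤ stabL F Q K P' → IsPGroup p T →
      Nat.card T ≤ Nat.card (autInducedBy (FusionSystem.normalizerIn N P') (P' ⊔ Q)) := by
    intro T hT hTp
    have h2 := h.card_mul_le p hS hF hext hP'n hR₁ hR₁n T hT hTp
    have h3 : Nat.card (FusionSystem.centralizerIn S (P' ⊔ Q))
        ≤ Nat.card (FusionSystem.centralizerIn S R₁) := hR₁c.2 _ (isConj_symm F hR₁)
    exact Nat.le_of_mul_le_mul_right (h2.trans (Nat.mul_le_mul_left _ h3)) Nat.card_pos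
  exact ⟨P', hPP', h.fullyAutomized p hS hP'N hSyl, h.receptive p hS hP'N hR'r hSyl⟩

end KNormSetup

end Cfsg.Agent.Helper8
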