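import Cfsg.Agent.Helper8.FusionKNorm3

set_option autoImplicit false

namespace Cfsg.Agent.Helper8

open Cfsg

variable {Ω : Type*} [Group Ω] {S : Subgroup Ω}

/-- S5098: the normalizer system of a fully normalized subgroup of a saturated system is
saturated. -/
theorem normalizerSystem_saturated [Finite S] (p : ℕ) [Fact p.Prime] (hS : IsPGroup p S)
    (F : FusionSystem S) (hF : F.IsSaturated p) (Q : Subgroup Ω) (hQ : F.IsFullyNormalized Q)
    (E : FusionSystem (FusionSystem.normalizerIn S Q)) (hE : F.IsNormalizerSystem Q E) :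
    E.IsSaturated p := by
  have hQS := hQ.1
  have props := fullyNormalized_props p hS F hF hQ
  have hQr := receptive_of_fullyCentralized p hS F hF props.1
  have hsetup : KNormSetup F Q ⊤ (FusionSystem.normalizerIn S Q) E := by
    refine ⟨hQS, fun g => ?_, fun P φ => ?_⟩
    · constructor
      · rintro ⟨hgS, hgN⟩
        exact ⟨hgS, hgN, Subgroup.mem_top _⟩
      · rintro ⟨hgS, hgN, -⟩
        exact ⟨hgS, hgN⟩
    · rw [hE P]
      constructor
      · rintro ⟨hφ, hPN, hφN, ψ, hψ, hψP, hψQ⟩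
        refine ⟨hφ, hPN, hφN, ψ, hψ, hψP, ?_⟩
        have hψq := restrict_mem F hψ (le_sup_right : Q ≤ P ⊔ Q)
        have hr : (ψ.comp (Subgroup.inclusion (le_sup_right : Q ≤ P ⊔ Q))).range = Q := by
          rw [range_comp_inclusion, hψQ]
        exact ⟨equivOfRange _ (F.injective_of_mem hψq) hr, Subgroup.mem_top _, fun x => rfl⟩
      · rintro ⟨hφ, hPN, hφN, ψ, hψ, hψP, κ, -, hψQ⟩
        refine ⟨hφ, hPN, hφN, ψ, hψ, hψP, ?_⟩
        apply le_antisymm
        · rintro _ ⟨x, hx, rfl⟩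
          have h1 : x = Subgroup.inclusion le_sup_right ⟨(x : Ω), hx⟩ := rfl
          rw [h1, hψQ]
          exact (κ _).2
        · intro y hy
          refine ⟨Subgroup.inclusion le_sup_right (κ⁻¹ ⟨y, hy⟩), (κ⁻¹ ⟨y, hy⟩).2, ?_⟩
          rw [hψQ, MulAut.apply_inv_self]
  have hext : KExt F Q ⊤ := by
    intro Q₁ θ hθ X hXS hX
    have hconj : F.IsConj Q₁ Q := ⟨_, isIso_symm F hθ, range_of_isIso θ.symm⟩
    obtain ⟨φ, hφ, -, hφQ⟩ := exists_normalizer_map p hS F props.2 hQr hconj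
    have hQ₁S := isIso_le_right F hθ
    have hle : X ⊔ Q₁ ≤ FusionSystem.normalizerIn S Q₁ := by
      apply sup_le _ (le_normalizerIn hQ₁S)
      intro d hd
      obtain ⟨hdN, -⟩ := hX d hd
      exact ⟨hXS hd, hdN⟩
    have hmem : ∀ x : Q, φ ⟨θ x, hle (le_sup_right (a := X) (θ x).2)⟩ ∈ Q :=
      fun x => mem_of_map_eq hφQ (θ x).2
    have hbij : Function.Bijective (fun x : Q => (⟨φ ⟨θ x, hle (le_sup_right (a := X) (θ x).2)⟩,
        hmem x⟩ : Q)) := by
      constructor
      · intro x y hxy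
        have h1 : φ ⟨θ x, hle (le_sup_right (a := X) (θ x).2)⟩
            = φ ⟨θ y, hle (le_sup_right (a := X) (θ y).2)⟩ := congrArg Subtype.val hxy
        have h2 := F.injective_of_mem hφ h1
        exact θ.injective (Subtype.ext (Subtype.mk.inj h2))
      · intro y
        obtain ⟨z, hz, hzy⟩ := exists_of_map_eq hφQ y.2
        refine ⟨θ.symm ⟨(z : Ω), hz⟩, ?_⟩
        apply Subtype.ext
        show φ ⟨θ (θ.symm ⟨(z : Ω), hz⟩), _⟩ = (y : Ω)
        rw [← hzy]
        congr 1
        apply Subtype.ext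
        rw [MulEquiv.apply_symm_apply]
    refine ⟨φ.comp (Subgroup.inclusion hle), restrict_mem F hφ hle,
      MulEquiv.ofBijective (MonoidHom.mk' (fun x : Q => (⟨φ ⟨θ x,
        hle (le_sup_right (a := X) (θ x).2)⟩, hmem x⟩ : Q)) (fun a b => ?_)) hbij,
      Subgroup.mem_top _, fun x => rfl⟩
    apply Subtype.ext
    show φ ⟨θ (a * b), _⟩ = φ ⟨θ a, _⟩ * φ ⟨θ b, _⟩
    rw [← map_mul]
    congr 1
    apply Subtype.ext
    rw [map_mul]
    rfl
  exact hsetup.saturated p hS hF hext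

/-- S5099: the centralizer system of a fully centralized subgroup of a saturated system is
saturated. -/
theorem centralizerSystem_saturated [Finite S] (p : ℕ) [Fact p.Prime] (hS : IsPGroup p S)
    (F : FusionSystem S) (hF : F.IsSaturated p) (Q : Subgroup Ω) (hQ : F.IsFullyCentralized Q)
    (E : FusionSystem (FusionSystem.centralizerIn S Q)) (hE : F.IsCentralizerSystem Q E) :
    E.IsSaturated p := by
  have hQS := hQ.1
  have hQr := receptive_of_fullyCentralized p hS F hF hQ
  have hcent : ∀ g : Ω, ∀ hgN : g ∈ Subgroup.normalizer (Q : Set Ω), conjAut Q g hgN = 1 →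
      g ∈ Subgroup.centralizer (Q : Set Ω) := by
    intro g hgN hg1
    rw [Subgroup.mem_centralizer_iff]
    intro x hx
    have h1 : ((conjAut Q g hgN ⟨x, hx⟩ : Q) : Ω) = x := by
      rw [hg1]
      rfl
    rw [conjAut_apply] at h1
    have h2 : g * x * g⁻¹ = x := h1
    calc x * g = (g * x * g⁻¹) * g := by rw [h2]
      _ = g * x := by group
  have hsetup : KNormSetup F Q ⊥ (FusionSystem.centralizerIn S Q) E := by
    refine ⟨hQS, fun g => ?_, fun P φ => ?_⟩
    · constructor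
      · rintro ⟨hgS, hgC⟩
        have hgN := Subgroup.centralizer_le_normalizer _ hgC
        exact ⟨hgS, hgN, Subgroup.mem_bot.mpr (conjAut_eq_one hgC hgN)⟩
      · rintro ⟨hgS, hgN, hgK⟩
        exact ⟨hgS, hcent g hgN (Subgroup.mem_bot.mp hgK)⟩
    · rw [hE P]
      constructor
      · rintro ⟨hφ, hPN, hφN, ψ, hψ, hψP, hψQ⟩
        exact ⟨hφ, hPN, hφN, ψ, hψ, hψP, 1, Subgroup.one_mem _, fun x => hψQ x⟩
      · rintro ⟨hφ, hPN, hφN, ψ, hψ, hψP, κ, hκ, hψQ⟩
        rw [Subgroup.mem_bot] at hκ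
        subst hκ
        exact ⟨hφ, hPN, hφN, ψ, hψ, hψP, fun x => hψQ x⟩
  have hext : KExt F Q ⊥ := by
    intro Q₁ θ hθ X hXS hX
    have hθs := isIso_symm F hθ
    obtain ⟨ψ, hψ, hψext⟩ := hQr.2 Q₁ _ hθs (range_of_isIso θ.symm)
    have hQ₁S := isIso_le_right F hθ
    have hXC : X ≤ FusionSystem.centralizerIn S Q₁ := by
      intro d hd
      obtain ⟨hdN, hdK⟩ := hX d hd
      rw [Subgroup.mem_bot] at hdK
      have hc : conjAut Q₁ d hdN = 1 := by
        have h1 := congr_symm_congr θ.symm (conjAut Q₁ d hdN)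
        rw [hdK, map_one] at h1
        exact h1.symm
      refine ⟨hXS hd, ?_⟩
      show d ∈ Subgroup.centralizer (Q₁ : Set Ω)
      rw [Subgroup.mem_centralizer_iff]
      intro x hx
      have h1 : ((conjAut Q₁ d hdN ⟨x, hx⟩ : Q₁) : Ω) = x := by
        rw [hc]
        rfl
      rw [conjAut_apply] at h1
      have h2 : d * x * d⁻¹ = x := h1
      calc x * d = (d * x * d⁻¹) * d := by rw [h2]
        _ = d * x := by group
    have hle : X ⊔ Q₁ ≤ FusionSystem.extender S Q₁ (Q.subtype.comp θ.symm.toMonoidHom) :=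
      sup_le (hXC.trans (centralizerIn_le_extender S Q₁ _))
        (le_extender S Q₁ _ hQ₁S (fun x => hQS (θ.symm x).2))
    refine ⟨ψ.comp (Subgroup.inclusion hle), restrict_mem F hψ hle, 1, Subgroup.one_mem _,
      fun x => ?_⟩
    have h1 := hψext (θ x) (θ x).2 (hle (le_sup_right (a := X) (θ x).2))
    have h2 : (Q.subtype.comp θ.symm.toMonoidHom) ⟨((θ x : Q₁) : Ω), (θ x).2⟩ = (x : Ω) := by
      show ((θ.symm (θ x) : Q) : Ω) = x
      rw [MulEquiv.symm_apply_apply]
    rw [h2] at h1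
    exact h1
  exact hsetup.saturated p hS hF hext

end Cfsg.Agent.Helper8
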