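import Cfsg.Agent.Helper8.FusionMorph
import Cfsg.Agent.Helper8.FusionChain3
import Cfsg.Agent.S5076

set_option autoImplicit false

namespace Cfsg.Agent.Helper8

open Cfsg

variable {Ω : Type*} [Group Ω] {S : Subgroup Ω} {G : Type*} [Group G]

theorem exists_conj_of_hom (F : FusionSystem S) {ι : S →* G} (hι : F.IsRealizedBy ι)
    {P : Subgroup Ω} {φ : P →* Ω} (hφ : φ ∈ F.Hom P) :
    ∃ g : G, ∀ x : P, ι ⟨φ x, hom_mem F hφ x⟩ = g * ι ⟨x, hom_le F hφ x.2⟩ * g⁻¹ :=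
  (hι.2 P (hom_le F hφ) φ (hom_mem F hφ)).mp hφ

theorem exists_hom_of_conj (F : FusionSystem S) {ι : S →* G} (hι : F.IsRealizedBy ι)
    {P : Subgroup Ω} (hP : P ≤ S) (g : G) (hg : ∀ x : P, g * ι ⟨x, hP x.2⟩ * g⁻¹ ∈ ι.range) :
    ∃ φ ∈ F.Hom P, ∃ hφS : ∀ x : P, φ x ∈ S,
      ∀ x : P, ι ⟨φ x, hφS x⟩ = g * ι ⟨x, hP x.2⟩ * g⁻¹ := by
  have hφS : ∀ x : P, (S.subtype.comp ((MonoidHom.ofInjective hι.1).symm.toMonoidHom.comp
      (((MulAut.conj g).toMonoidHom.comp (ι.comp (Subgroup.inclusion hP))).codRestrict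
        ι.range hg))) x ∈ S := fun x => Subtype.property _
  have hφι : ∀ x : P, ι ⟨(S.subtype.comp ((MonoidHom.ofInjective hι.1).symm.toMonoidHom.comp
      (((MulAut.conj g).toMonoidHom.comp (ι.comp (Subgroup.inclusion hP))).codRestrict
        ι.range hg))) x, hφS x⟩ = g * ι ⟨x, hP x.2⟩ * g⁻¹ := by
    intro x
    have h2 := (MonoidHom.ofInjective hι.1).apply_symm_apply
      ((((MulAut.conj g).toMonoidHom.comp (ι.comp (Subgroup.inclusion hP))).codRestrict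
        ι.range hg) x)
    exact congrArg Subtype.val h2
  exact ⟨_, (hι.2 P hP _ hφS).mpr ⟨g, hφι⟩, hφS, hφι⟩

/-- The inverse of `ι` on its range, as a homomorphism into the ambient group of `S`. -/
noncomputable def invAlong (ι : S →* G) (hι : Function.Injective ι) : ↥ι.range →* Ω :=
  S.subtype.comp (MonoidHom.ofInjective hι).symm.toMonoidHom

theorem invAlong_mem (ι : S →* G) (hι : Function.Injective ι) (y : ↥ι.range) :
    invAlong ι hι y ∈ S := Subtype.property _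

theorem map_invAlong (ι : S →* G) (hι : Function.Injective ι) (y : ↥ι.range) :
    ι ⟨invAlong ι hι y, invAlong_mem ι hι y⟩ = (y : G) :=
  congrArg Subtype.val ((MonoidHom.ofInjective hι).apply_symm_apply y)

theorem invAlong_map (ι : S →* G) (hι : Function.Injective ι) (s : S) (hs : ι s ∈ ι.range) :
    invAlong ι hι ⟨ι s, hs⟩ = (s : Ω) := by
  have h1 : (⟨ι s, hs⟩ : ↥ι.range) = MonoidHom.ofInjective hι s := rfl
  show (((MonoidHom.ofInjective hι).symm ⟨ι s, hs⟩ : S) : Ω) = s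
  rw [h1, MulEquiv.symm_apply_apply]

theorem invAlong_isSurjectiveMorphism (F : FusionSystem S) {ι : S →* G} (hι : F.IsRealizedBy ι) :
    (groupFusionSystem ι.range).IsSurjectiveMorphism F (invAlong ι hι.1) := by
  refine ⟨⟨invAlong_mem ι hι.1, ?_⟩, ?_, ?_⟩
  · rintro P' φ' ⟨hP', hφ'S, g, hg⟩
    have hPS : FusionSystem.imageAlong (invAlong ι hι.1) P' ≤ S := by
      intro y hy
      obtain ⟨s, -, rfl⟩ := (mem_imageAlong _ P' y).mp hy
      exact invAlong_mem ι hι.1 s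
    have hgr : ∀ y : ↥(FusionSystem.imageAlong (invAlong ι hι.1) P'),
        g * ι ⟨y, hPS y.2⟩ * g⁻¹ ∈ ι.range := by
      intro y
      obtain ⟨s, hs, hsy⟩ := (mem_imageAlong _ P' (y : Ω)).mp y.2
      have h1 : ι ⟨y, hPS y.2⟩ = (s : G) := by
        rw [← map_invAlong ι hι.1 s]
        congr 1
        exact Subtype.ext hsy.symm
      rw [h1, ← hg ⟨(s : G), hs⟩]
      exact hφ'S _
    obtain ⟨φ, hφ, hφS, hφι⟩ := exists_hom_of_conj F hι hPS g hgr
    have hmem : ∀ x : P', invAlong ι hι.1 ⟨x, hP' x.2⟩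
        ∈ FusionSystem.imageAlong (invAlong ι hι.1) P' :=
      fun x => (mem_imageAlong _ P' _).mpr ⟨⟨x, hP' x.2⟩, x.2, rfl⟩
    refine ⟨φ, hφ, hP', hφ'S, hmem, fun x => ?_⟩
    have h2 := hφι ⟨_, hmem x⟩
    have h3 : ι ⟨invAlong ι hι.1 ⟨x, hP' x.2⟩, hPS (hmem x)⟩ = (x : G) :=
      map_invAlong ι hι.1 ⟨x, hP' x.2⟩
    rw [h3, ← hg x] at h2
    have h4 : (⟨φ ⟨_, hmem x⟩, hφS _⟩ : S)
        = ⟨invAlong ι hι.1 ⟨φ' x, hφ'S x⟩, invAlong_mem ι hι.1 _⟩ := by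
      apply hι.1
      rw [h2, map_invAlong]
    exact congrArg Subtype.val h4
  · apply le_antisymm
    · rintro _ ⟨y, rfl⟩
      exact invAlong_mem ι hι.1 y
    · intro s hs
      exact ⟨⟨ι ⟨s, hs⟩, ⟨_, rfl⟩⟩, invAlong_map ι hι.1 ⟨s, hs⟩ _⟩
  · intro P hPS φ hφ
    obtain ⟨g, hg⟩ := exists_conj_of_hom F hι hφ
    have hP'r := preimageAlong_le (invAlong ι hι.1) P
    have hP'mem : ∀ x : ↥(FusionSystem.preimageAlong (invAlong ι hι.1) P),
        invAlong ι hι.1 ⟨x, hP'r x.2⟩ ∈ P := fun x => map_mem_preimageAlong (invAlong ι hι.1) x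
    have hconj : ∀ x : ↥(FusionSystem.preimageAlong (invAlong ι hι.1) P),
        g * (x : G) * g⁻¹ = ι ⟨φ ⟨_, hP'mem x⟩, hom_mem F hφ _⟩ := by
      intro x
      rw [hg ⟨_, hP'mem x⟩]
      have h1 : ι ⟨invAlong ι hι.1 ⟨x, hP'r x.2⟩, hom_le F hφ (hP'mem x)⟩ = (x : G) :=
        map_invAlong ι hι.1 ⟨x, hP'r x.2⟩
      rw [h1]
    have hvals : ∀ x : ↥(FusionSystem.preimageAlong (invAlong ι hι.1) P),
        conjHom (FusionSystem.preimageAlong (invAlong ι hι.1) P) g x ∈ ι.range := by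
      intro x
      show g * (x : G) * g⁻¹ ∈ ι.range
      rw [hconj x]
      exact ⟨_, rfl⟩
    refine ⟨conjHom _ g, ⟨hP'r, hvals, g, fun x => rfl⟩, hP'r, hvals, hP'mem, fun x => ?_⟩
    have h2 : (⟨conjHom (FusionSystem.preimageAlong (invAlong ι hι.1) P) g x, hvals x⟩ : ↥ι.range)
        = ⟨ι ⟨φ ⟨_, hP'mem x⟩, hom_mem F hφ _⟩, ⟨_, rfl⟩⟩ := Subtype.ext (hconj x)
    have h5 : invAlong ι hι.1 ⟨conjHom (FusionSystem.preimageAlong (invAlong ι hι.1) P) g x,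
        hvals x⟩ = invAlong ι hι.1 ⟨ι ⟨φ ⟨_, hP'mem x⟩, hom_mem F hφ _⟩, ⟨_, rfl⟩⟩ :=
      congrArg _ h2
    exact (invAlong_map ι hι.1 ⟨φ ⟨_, hP'mem x⟩, hom_mem F hφ _⟩ _).symm.trans h5.symm

/-- A fusion system realized by a finite group on a Sylow subgroup is saturated. -/
theorem saturated_of_realized [Finite G] (p : ℕ) [Fact p.Prime]
    (F : FusionSystem S) (ι : S →* G) (hι : F.IsRealizedBy ι) (T : Sylow p G)
    (hT : (T : Subgroup G) = ι.range) : F.IsSaturated p := by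
  have h1 := Cfsg.Agent.S5076.result p T
  rw [hT] at h1
  have hp : IsPGroup p ↥ι.range := by
    rw [← hT]
    exact T.isPGroup'
  exact saturated_image p hp (groupFusionSystem ι.range) h1 F (invAlong ι hι.1)
    (invAlong_isSurjectiveMorphism F hι)

/-- The preimage in `S` of the `p`-core of `G`, as a subgroup of the ambient group. -/
def coreAlong (p : ℕ) (ι : S →* G) : Subgroup Ω := ((pCore p G).comap ι).map S.subtype

theorem mem_coreAlong (p : ℕ) (ι : S →* G) (x : Ω) :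
    x ∈ coreAlong p ι ↔ ∃ hx : x ∈ S, ι ⟨x, hx⟩ ∈ pCore p G := by
  constructor
  · rintro ⟨s, hs, rfl⟩
    exact ⟨s.2, hs⟩
  · rintro ⟨hx, h⟩
    exact ⟨⟨x, hx⟩, h, rfl⟩

theorem coreAlong_le (p : ℕ) (ι : S →* G) : coreAlong p ι ≤ S := by
  intro x hx
  exact ((mem_coreAlong p ι x).mp hx).1

theorem pCore_le_range [Finite G] (p : ℕ) [Fact p.Prime] (ι : S →* G) (T : Sylow p G)
    (hT : (T : Subgroup G) = ι.range) : pCore p G ≤ ι.range := by
  haveI := pCore_normal p G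
  rw [← hT]
  exact (pCore_isPGroup p G).le_sylow_of_normal T

theorem coreAlong_normal [Finite G] (p : ℕ) [Fact p.Prime] (F : FusionSystem S) (ι : S →* G)
    (hι : F.IsRealizedBy ι) (T : Sylow p G) (hT : (T : Subgroup G) = ι.range) :
    F.IsNormal (coreAlong p ι) := by
  have hn := pCore_normal p G
  have hOr := pCore_le_range p ι T hT
  refine ⟨coreAlong_le p ι, fun P φ hφ => ?_⟩
  obtain ⟨g, hg⟩ := exists_conj_of_hom F hι hφ
  have hPS := hom_le F hφ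
  have hsup : P ⊔ coreAlong p ι ≤ S := sup_le hPS (coreAlong_le p ι)
  have hH : P ⊔ coreAlong p ι
      ≤ ((ι.range.comap (MulAut.conj g).toMonoidHom).comap ι).map S.subtype := by
    apply sup_le
    · intro x hx
      refine ⟨⟨x, hPS hx⟩, ?_, rfl⟩
      show g * ι ⟨x, hPS hx⟩ * g⁻¹ ∈ ι.range
      rw [← hg ⟨x, hx⟩]
      exact ⟨_, rfl⟩
    · intro x hx
      obtain ⟨hxS, hxO⟩ := (mem_coreAlong p ι x).mp hx
      refine ⟨⟨x, hxS⟩, ?_, rfl⟩
      show g * ι ⟨x, hxS⟩ * g⁻¹ ∈ ι.range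
      exact hOr (hn.conj_mem _ hxO g)
  have hgr : ∀ x : ↥(P ⊔ coreAlong p ι), g * ι ⟨x, hsup x.2⟩ * g⁻¹ ∈ ι.range := by
    intro x
    obtain ⟨s, hs, hsx⟩ := hH x.2
    have h1 : (⟨(x : Ω), hsup x.2⟩ : S) = s := Subtype.ext hsx.symm
    rw [h1]
    exact hs
  obtain ⟨ψ, hψ, hψS, hψι⟩ := exists_hom_of_conj F hι hsup g hgr
  refine ⟨ψ, hψ, fun x => ?_, ?_⟩
  · have h1 : (⟨ψ (Subgroup.inclusion le_sup_left x), hψS _⟩ : S) = ⟨φ x, hom_mem F hφ x⟩ := by
      apply hι.1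
      rw [hψι, hg]
      rfl
    exact congrArg Subtype.val h1
  · apply le_antisymm
    · rintro _ ⟨x, hx, rfl⟩
      obtain ⟨hxS, hxO⟩ := (mem_coreAlong p ι _).mp (Subgroup.mem_subgroupOf.mp hx)
      refine (mem_coreAlong p ι _).mpr ⟨hψS x, ?_⟩
      rw [hψι]
      exact hn.conj_mem _ hxO g
    · intro y hy
      obtain ⟨hyS, hyO⟩ := (mem_coreAlong p ι y).mp hy
      have h1 : g⁻¹ * ι ⟨y, hyS⟩ * g ∈ pCore p G := by
        have := hn.conj_mem _ hyO g⁻¹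
        rwa [inv_inv] at this
      obtain ⟨s, hs⟩ := hOr h1
      have hsQ : (s : Ω) ∈ coreAlong p ι := (mem_coreAlong p ι _).mpr ⟨s.2, by
        have : (⟨(s : Ω), s.2⟩ : S) = s := rfl
        rw [this, hs]
        exact h1⟩
      refine ⟨⟨(s : Ω), (le_sup_right : coreAlong p ι ≤ P ⊔ coreAlong p ι) hsQ⟩,
        Subgroup.mem_subgroupOf.mpr hsQ, ?_⟩
      have h2 : (⟨ψ ⟨(s : Ω), (le_sup_right : coreAlong p ι ≤ P ⊔ coreAlong p ι) hsQ⟩, hψS _⟩ : S)
          = ⟨y, hyS⟩ := by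
        apply hι.1
        rw [hψι]
        have : (⟨(s : Ω), hsup ((le_sup_right : coreAlong p ι ≤ P ⊔ coreAlong p ι) hsQ)⟩ : S) = s :=
          rfl
        rw [this, hs]
        group
      exact congrArg Subtype.val h2

/-- A fusion system with a model is constrained. -/
theorem constrained_of_model [Finite S] (p : ℕ) [Fact p.Prime]
    (F : FusionSystem S) (ι : S →* G) (hG : F.IsModel p G ι) : F.IsConstrained p := by
  obtain ⟨hfin, hι, ⟨T, hT⟩, hcent⟩ := hG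
  haveI := hfin
  have hnorm := coreAlong_normal p F ι hι T hT
  have hOr := pCore_le_range p ι T hT
  refine ⟨saturated_of_realized p F ι hι T hT, coreAlong p ι, hnorm, coreAlong_le p ι, ?_⟩
  intro Q' hQ'
  obtain ⟨φ, hφ, hφr⟩ := hQ'
  have hw := weaklyClosed_of_stronglyClosed F (stronglyClosed_of_normal F hnorm)
  have hQQ : Q' = coreAlong p ι := by rw [← hφr]; exact hw.2 φ hφ
  rw [hQQ]
  intro s hs
  have hsS : s ∈ S := hs.1
  have hsC := hs.2
  refine (mem_coreAlong p ι s).mpr ⟨hsS, hcent ?_⟩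
  rw [Subgroup.mem_centralizer_iff]
  intro u hu
  obtain ⟨q, rfl⟩ := hOr hu
  have hqQ : (q : Ω) ∈ coreAlong p ι := (mem_coreAlong p ι _).mpr ⟨q.2, hu⟩
  have h1 := (Subgroup.mem_centralizer_iff.mp hsC) (q : Ω) hqQ
  rw [← map_mul, ← map_mul]
  congr 1
  exact Subtype.ext h1

end Cfsg.Agent.Helper8
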