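import Cfsg.Agent.Helper8.FusionModel
import Cfsg.Agent.Helper8.FusionKNorm4

set_option autoImplicit false

namespace Cfsg.Agent.Helper8

open Cfsg

variable {Ω : Type*} [Group Ω] {S : Subgroup Ω} {G : Type*} [Group G]

theorem le_normalizerIn_self {R : Subgroup Ω} (hR : R ≤ S) : R ≤ FusionSystem.normalizerIn S R :=
  fun _ hx => ⟨hR hx, Subgroup.le_normalizer hx⟩

/-- `R` is normal in its normalizer system. -/
theorem normal_in_normalizerSystem (F : FusionSystem S) {R : Subgroup Ω} (hR : R ≤ S)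
    (E : FusionSystem (FusionSystem.normalizerIn S R)) (hE : F.IsNormalizerSystem R E) :
    E.IsNormal R := by
  refine ⟨le_normalizerIn_self hR, fun P φ hφ => ?_⟩
  rw [hE P] at hφ
  obtain ⟨hφF, hPN, hφN, ψ, hψ, hext, hψR⟩ := hφ
  have hsupN : P ⊔ R ≤ FusionSystem.normalizerIn S R := sup_le hPN (le_normalizerIn_self hR)
  have hψN : ∀ x : ↥(P ⊔ R), ψ x ∈ FusionSystem.normalizerIn S R := by
    apply sup_induction_map
    · intro x hx
      have := hext ⟨x, hx⟩
      have h2 : Subgroup.inclusion le_sup_left (⟨(x : Ω), hx⟩ : P) = x := Subtype.ext rfl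
      rw [h2] at this
      rw [this]
      exact hφN _
    · intro x hx
      exact le_normalizerIn_self hR (mem_of_map_eq hψR hx)
  refine ⟨ψ, ?_, hext, hψR⟩
  rw [hE (P ⊔ R)]
  have hle : (P ⊔ R) ⊔ R ≤ P ⊔ R := sup_le le_rfl le_sup_right
  refine ⟨hψ, hsupN, hψN, ψ.comp (Subgroup.inclusion hle), restrict_mem' F hψ hle (fun x => rfl),
    fun x => ?_, ?_⟩
  · show ψ _ = ψ x
    congr 1
  · apply le_antisymm
    · rintro _ ⟨x, hx, rfl⟩
      exact mem_of_map_eq hψR (x := Subgroup.inclusion hle x) hx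
    · intro y hy
      obtain ⟨x, hx, hxy⟩ := exists_of_map_eq hψR hy
      refine ⟨⟨(x : Ω), le_sup_left (b := R) x.2⟩, hx, ?_⟩
      rw [← hxy]
      show ψ _ = ψ x
      congr 1

/-- Automorphisms of `R` in `F` are maps of the normalizer system. -/
theorem autGroup_mem_normalizerSystem (F : FusionSystem S) {R : Subgroup Ω} (hR : R ≤ S)
    (E : FusionSystem (FusionSystem.normalizerIn S R)) (hE : F.IsNormalizerSystem R E)
    {β : MulAut R} (hβ : β ∈ F.autGroup R) : R.subtype.comp β.toMonoidHom ∈ E.Hom R := by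
  have h1 := (mem_autGroup_iff F hR β).mp hβ
  rw [hE R]
  have hle : R ⊔ R ≤ R := sup_le le_rfl le_rfl
  refine ⟨h1, le_normalizerIn_self hR, fun x => le_normalizerIn_self hR (β x).2,
    (R.subtype.comp β.toMonoidHom).comp (Subgroup.inclusion hle),
    restrict_mem' F h1 hle (fun x => rfl), fun x => ?_, ?_⟩
  · show ((β _ : R) : Ω) = ((β x : R) : Ω)
    congr 2
  · apply le_antisymm
    · rintro _ ⟨x, -, rfl⟩
      exact (β _).2
    · intro y hy
      refine ⟨⟨((β.symm ⟨y, hy⟩ : R) : Ω), le_sup_left (b := R) (β.symm ⟨y, hy⟩).2⟩,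
        Subgroup.mem_subgroupOf.mpr (β.symm ⟨y, hy⟩).2, ?_⟩
      show ((β (Subgroup.inclusion hle ⟨((β.symm ⟨y, hy⟩ : R) : Ω), _⟩) : R) : Ω) = y
      have h2 : Subgroup.inclusion hle ⟨((β.symm ⟨y, hy⟩ : R) : Ω),
          le_sup_left (b := R) (β.symm ⟨y, hy⟩).2⟩ = β.symm ⟨y, hy⟩ := Subtype.ext rfl
      rw [h2, MulEquiv.apply_symm_apply]

/-- The normalizer system of a centric subgroup `R`: `R` is centric in it. -/
theorem centric_in_normalizerSystem (F : FusionSystem S) {R : Subgroup Ω} (hRc : F.IsCentric R)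
    (E : FusionSystem (FusionSystem.normalizerIn S R)) (hE : F.IsNormalizerSystem R E) :
    E.IsCentric R := by
  have hR := hRc.1
  refine ⟨le_normalizerIn_self hR, ?_⟩
  rintro Q' ⟨φ, hφ, hφr⟩
  rw [hE R] at hφ
  obtain ⟨hφF, -, -, ψ, hψ, hext, hψR⟩ := hφ
  have hQ' : Q' = R := by
    rw [← hφr]
    apply le_antisymm
    · rintro _ ⟨x, rfl⟩
      rw [← hext x]
      exact mem_of_map_eq hψR x.2
    · intro y hy
      obtain ⟨x, hx, hxy⟩ := exists_of_map_eq hψR hy
      have hxR : (x : Ω) ∈ R := hx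
      refine ⟨⟨(x : Ω), hxR⟩, ?_⟩
      rw [← hext, ← hxy]
      congr 1
  rw [hQ']
  intro s hs
  exact hRc.2 R (isConj_refl F hR) ⟨hs.1.1, hs.2⟩

/-- In a model of a fusion system `E` in which `R` is normal, the image of `R` is a normal subgroup. -/
theorem map_normal_of_model [Finite S] (p : ℕ) [Fact p.Prime] (E : FusionSystem S) (ι : S →* G)
    (hM : E.IsModel p G ι) {R : Subgroup Ω} (hRn : E.IsNormal R) :
    ((R.subgroupOf S).map ι).Normal := by
  obtain ⟨hfin, hι, ⟨T, hT⟩, hcent⟩ := hM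
  haveI := hfin
  have hn := pCore_normal p G
  have hOr := pCore_le_range p ι T hT
  have hQS := coreAlong_le (S := S) p ι
  have hRS := hRn.1
  have hRnS : ∀ s ∈ S, s ∈ Subgroup.normalizer (R : Set Ω) := by
    intro s hs
    obtain ⟨ψ, hψ, hext, hψR⟩ := hRn.2 S (conjHom S s) (E.conj_mem le_rfl hs)
    rw [Subgroup.mem_normalizer_iff]
    have key : ∀ t ∈ S, ∀ y ∈ R, t * y * t⁻¹ ∈ R := by
      intro t ht y hy
      obtain ⟨ψ, hψ, hext, hψR⟩ := hRn.2 S (conjHom S t) (E.conj_mem le_rfl ht)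
      have h1 := hext ⟨y, hRS hy⟩
      have h2 : ψ (Subgroup.inclusion le_sup_left ⟨y, hRS hy⟩) ∈ R :=
        mem_of_map_eq hψR (x := Subgroup.inclusion le_sup_left ⟨y, hRS hy⟩) hy
      rw [h1] at h2
      exact h2
    intro y
    constructor
    · exact key s hs y
    · intro hy
      have := key s⁻¹ (S.inv_mem hs) _ hy
      simpa [mul_assoc] using this
  constructor
  rintro _ ⟨r, hr, rfl⟩ g
  have hrR : (r : Ω) ∈ R := hr
  -- conjugation by g on the core
  have hgr : ∀ x : ↥(coreAlong p ι), g * ι ⟨x, hQS x.2⟩ * g⁻¹ ∈ ι.range := by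
    intro x
    obtain ⟨hxS, hxO⟩ := (mem_coreAlong p ι (x : Ω)).mp x.2
    exact hOr (hn.conj_mem _ hxO g)
  obtain ⟨φ, hφ, hφS, hφι⟩ := exists_hom_of_conj E hι hQS g hgr
  obtain ⟨ψ, hψ, hext, hψR⟩ := hRn.2 _ φ hφ
  obtain ⟨h, hh⟩ := exists_conj_of_hom E hι hψ
  have hsup := hom_le E hψ
  -- h⁻¹ g centralizes the core
  have hc : h⁻¹ * g ∈ Subgroup.centralizer ((pCore p G : Subgroup G) : Set G) := by
    rw [Subgroup.mem_centralizer_iff]
    intro u hu
    obtain ⟨q, rfl⟩ := hOr hu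
    have hqQ : (q : Ω) ∈ coreAlong p ι := (mem_coreAlong p ι _).mpr ⟨q.2, hu⟩
    have h1 := hφι ⟨(q : Ω), hqQ⟩
    have h2 := hh (Subgroup.inclusion le_sup_left ⟨(q : Ω), hqQ⟩)
    have h3 : (⟨ψ (Subgroup.inclusion le_sup_left ⟨(q : Ω), hqQ⟩), hom_mem E hψ _⟩ : S)
        = ⟨φ ⟨(q : Ω), hqQ⟩, hφS _⟩ := Subtype.ext (hext _)
    rw [h3, h1] at h2
    have h4 : ι q = ι ⟨(q : Ω), hQS hqQ⟩ := rfl
    have h5 : (⟨((Subgroup.inclusion le_sup_left (⟨(q : Ω), hqQ⟩ : ↥(coreAlong p ι)) :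
        ↥(coreAlong p ι ⊔ R)) : Ω), hsup (Subgroup.inclusion le_sup_left
          (⟨(q : Ω), hqQ⟩ : ↥(coreAlong p ι))).2⟩ : S) = ⟨(q : Ω), hQS hqQ⟩ := rfl
    rw [h5] at h2
    rw [h4]
    calc ι ⟨(q : Ω), hQS hqQ⟩ * (h⁻¹ * g)
        = h⁻¹ * (h * ι ⟨(q : Ω), hQS hqQ⟩ * h⁻¹) * g := by group
      _ = h⁻¹ * (g * ι ⟨(q : Ω), hQS hqQ⟩ * g⁻¹) * g := by rw [h2]
      _ = h⁻¹ * g * ι ⟨(q : Ω), hQS hqQ⟩ := by group
  obtain ⟨q₀, hq₀⟩ := hOr (hcent hc)
  -- q₀ r q₀⁻¹ ∈ R
  have hcr : (q₀ : Ω) * r * (q₀ : Ω)⁻¹ ∈ R :=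
    (Subgroup.mem_normalizer_iff.mp (hRnS q₀ q₀.2) r).mp hrR
  have hcrsup : (q₀ : Ω) * r * (q₀ : Ω)⁻¹ ∈ coreAlong p ι ⊔ R := le_sup_right (a := coreAlong p ι) hcr
  have h6 := hh ⟨_, hcrsup⟩
  have h7 : ψ ⟨_, hcrsup⟩ ∈ R := mem_of_map_eq hψR (x := ⟨_, hcrsup⟩) hcr
  refine ⟨⟨ψ ⟨_, hcrsup⟩, hom_mem E hψ _⟩, Subgroup.mem_subgroupOf.mpr h7, ?_⟩
  rw [h6]
  have h8 : (⟨(q₀ : Ω) * r * (q₀ : Ω)⁻¹, hsup hcrsup⟩ : S) = q₀ * r * q₀⁻¹ := rfl
  rw [h8, map_mul, map_mul, map_inv, hq₀]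
  group

theorem le_normalizer_of_normal (E : FusionSystem S) {R : Subgroup Ω} (hRn : E.IsNormal R) :
    S ≤ Subgroup.normalizer (R : Set Ω) := by
  have hRS := hRn.1
  have key : ∀ t ∈ S, ∀ y ∈ R, t * y * t⁻¹ ∈ R := by
    intro t ht y hy
    obtain ⟨ψ, hψ, hext, hψR⟩ := hRn.2 S (conjHom S t) (E.conj_mem le_rfl ht)
    have h1 := hext ⟨y, hRS hy⟩
    have h2 : ψ (Subgroup.inclusion le_sup_left ⟨y, hRS hy⟩) ∈ R :=
      mem_of_map_eq hψR (x := Subgroup.inclusion le_sup_left ⟨y, hRS hy⟩) hy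
    rw [h1] at h2
    exact h2
  intro s hs
  rw [Subgroup.mem_normalizer_iff]
  intro y
  constructor
  · exact key s hs y
  · intro hy
    have := key s⁻¹ (S.inv_mem hs) _ hy
    simpa [mul_assoc] using this

/-- In a model of a fusion system `E` in which `R` is normal and self-centralizing, with
`O_p(Aut_E(R)) = Inn(R)`, the `p`-core of the model is the image of `R`. -/
theorem pCore_eq_map_of_model [Finite S] (p : ℕ) [Fact p.Prime] (E : FusionSystem S)
    (ι : S →* G) (hM : E.IsModel p G ι) {R : Subgroup Ω} (hRn : E.IsNormal R)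
    (hRc : FusionSystem.centralizerIn S R ≤ R)
    (hRr : (pCore p (E.autGroup R)).map (E.autGroup R).subtype = Inn R) :
    pCore p G = (R.subgroupOf S).map ι := by
  have hnorm := map_normal_of_model p E ι hM hRn
  obtain ⟨hfin, hι, ⟨T, hT⟩, hcent⟩ := hM
  haveI := hfin
  have hn := pCore_normal p G
  have hOr := pCore_le_range p ι T hT
  have hRS := hRn.1
  have hSN := le_normalizer_of_normal E hRn
  apply le_antisymm
  · intro u hu
    obtain ⟨s, rfl⟩ := hOr hu
    by_contra hsR'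
    have hsR : (s : Ω) ∉ R := fun h => hsR' ⟨s, Subgroup.mem_subgroupOf.mpr h, rfl⟩
    have h1 := conjAut_not_mem_inn hRc hRS s.2 (hSN s.2) hsR
    apply h1
    rw [← hRr]
    -- the image of the core in Aut(R)
    have hVA : ((pCore p G).comap ι).map (R.normalizerMonoidHom.comp (Subgroup.inclusion hSN))
        ≤ E.autGroup R := by
      rintro _ ⟨s', -, rfl⟩
      exact autInducedBy_le_autGroup E hRS (conjAut_mem_autInducedBy R s'.2 (hSN s'.2))
    have hVp : IsPGroup p ↥((((pCore p G).comap ι).map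
        (R.normalizerMonoidHom.comp (Subgroup.inclusion hSN))).subgroupOf (E.autGroup R)) :=
      (((pCore_isPGroup p G).comap_of_injective ι hι.1).map _).comap_subtype
    have hVn : ((((pCore p G).comap ι).map
        (R.normalizerMonoidHom.comp (Subgroup.inclusion hSN))).subgroupOf (E.autGroup R)).Normal := by
      constructor
      intro α hα β
      obtain ⟨s', hs', hs'α⟩ := Subgroup.mem_subgroupOf.mp hα
      obtain ⟨g, hg⟩ := exists_conj_of_hom E hι ((mem_autGroup_iff E hRS β).mp β.2)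
      obtain ⟨s'', hs''⟩ := hOr (hn.conj_mem _ hs' g)
      rw [Subgroup.mem_subgroupOf]
      refine ⟨s'', ?_, ?_⟩
      · show ι s'' ∈ pCore p G
        rw [hs'']
        exact hn.conj_mem _ hs' g
      · apply MulEquiv.ext
        intro x
        apply Subtype.ext
        have hβS : ∀ y : R, ((β : MulAut R) y : Ω) ∈ S := fun y => hRS ((β : MulAut R) y).2
        have hgβ : ∀ y : R, ι ⟨((β : MulAut R) y : Ω), hβS y⟩ = g * ι ⟨y, hRS y.2⟩ * g⁻¹ := hg
        have hginv : ι ⟨(((β : MulAut R)⁻¹ x : R) : Ω), hRS ((β : MulAut R)⁻¹ x).2⟩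
            = g⁻¹ * ι ⟨x, hRS x.2⟩ * g := by
          have h2 := hgβ ((β : MulAut R)⁻¹ x)
          have h3 : ((β : MulAut R) ((β : MulAut R)⁻¹ x)) = x := MulAut.apply_inv_self _ _ _
          have h4 : ι ⟨(x : Ω), hRS x.2⟩
              = g * ι ⟨(((β : MulAut R)⁻¹ x : R) : Ω), hRS ((β : MulAut R)⁻¹ x).2⟩ * g⁻¹ := by
            rw [← h2]
            congr 2
            rw [h3]
          rw [h4]
          group
        have hα' : ((α : MulAut R) ((β : MulAut R)⁻¹ x) : Ω)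
            = (s' : Ω) * (((β : MulAut R)⁻¹ x : R) : Ω) * (s' : Ω)⁻¹ := by
          rw [← hs'α]
          rfl
        have hLHS : (((R.normalizerMonoidHom.comp (Subgroup.inclusion hSN)) s'' x : R) : Ω)
            = (s'' : Ω) * (x : Ω) * (s'' : Ω)⁻¹ := rfl
        have hRHS : (((((β * α * β⁻¹ : ↥(E.autGroup R)) : MulAut R)) x : R) : Ω)
            = ((β : MulAut R) ((α : MulAut R) ((β : MulAut R)⁻¹ x)) : Ω) := rfl
        rw [hLHS, hRHS]
        have hmemS : (s'' : Ω) * (x : Ω) * (s'' : Ω)⁻¹ ∈ S :=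
          S.mul_mem (S.mul_mem s''.2 (hRS x.2)) (S.inv_mem s''.2)
        have hinj : (⟨(s'' : Ω) * (x : Ω) * (s'' : Ω)⁻¹, hmemS⟩ : S)
            = ⟨((β : MulAut R) ((α : MulAut R) ((β : MulAut R)⁻¹ x)) : Ω), hβS _⟩ := by
          apply hι.1
          rw [hgβ]
          have h5 : (⟨(s'' : Ω) * (x : Ω) * (s'' : Ω)⁻¹, hmemS⟩ : S)
              = s'' * ⟨x, hRS x.2⟩ * s''⁻¹ := rfl
          have h6 : (⟨((α : MulAut R) ((β : MulAut R)⁻¹ x) : Ω),
              hRS ((α : MulAut R) ((β : MulAut R)⁻¹ x)).2⟩ : S)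
              = s' * ⟨(((β : MulAut R)⁻¹ x : R) : Ω), hRS ((β : MulAut R)⁻¹ x).2⟩ * s'⁻¹ :=
            Subtype.ext hα'
          rw [h5, h6, map_mul, map_mul, map_inv, map_mul, map_mul, map_inv, hginv, hs'']
          group
        exact congrArg Subtype.val hinj
    have hle := le_pCore hVn hVp
    have hmem : (⟨conjAut R s (hSN s.2), autInducedBy_le_autGroup E hRS
        (conjAut_mem_autInducedBy R s.2 (hSN s.2))⟩ : ↥(E.autGroup R))
        ∈ (((pCore p G).comap ι).map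
          (R.normalizerMonoidHom.comp (Subgroup.inclusion hSN))).subgroupOf (E.autGroup R) := by
      rw [Subgroup.mem_subgroupOf]
      exact ⟨s, hu, rfl⟩
    exact ⟨_, hle hmem, rfl⟩
  · apply le_pCore hnorm
    have : (R.subgroupOf S).map ι ≤ (T : Subgroup G) := by
      rw [hT]
      rintro _ ⟨r, -, rfl⟩
      exact ⟨r, rfl⟩
    exact T.isPGroup'.to_le this

theorem autGroup_normalizerSystem (F : FusionSystem S) {R : Subgroup Ω} (hR : R ≤ S)
    (E : FusionSystem (FusionSystem.normalizerIn S R)) (hE : F.IsNormalizerSystem R E) :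
    E.autGroup R = F.autGroup R := by
  apply le_antisymm
  · intro β hβ
    have h1 : R.subtype.comp β.toMonoidHom ∈ E.Hom R :=
      (mem_autGroup_iff E (le_normalizerIn_self hR) β).mp hβ
    rw [hE R] at h1
    exact (mem_autGroup_iff F hR β).mpr h1.1
  · intro β hβ
    exact (mem_autGroup_iff E (le_normalizerIn_self hR) β).mpr
      (autGroup_mem_normalizerSystem F hR E hE hβ)

theorem pCore_map_congr {A : Type*} [Group A] (p : ℕ) {H K : Subgroup A} (h : H = K) :
    (pCore p H).map H.subtype = (pCore p K).map K.subtype := by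
  subst h
  rfl

/-- The normalizer system of a fully normalized centric radical subgroup is constrained, and the
`p`-core of any of its models is the image of `R`. -/
theorem normalizerSystem_centric_radical [Finite S] (p : ℕ) [Fact p.Prime] (hS : IsPGroup p S)
    (F : FusionSystem S) (hF : F.IsSaturated p) (R : Subgroup Ω) (hRn : F.IsFullyNormalized R)
    (hRc : F.IsCentric R) (hRr : F.IsRadical p R)
    (E : FusionSystem (FusionSystem.normalizerIn S R)) (hE : F.IsNormalizerSystem R E)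
    (ι : ↥(FusionSystem.normalizerIn S R) →* G) :
    E.IsConstrained p ∧ (E.IsModel p G ι →
      (pCore p G : Subgroup G) = (R.subgroupOf (FusionSystem.normalizerIn S R)).map ι) := by
  have hR := hRc.1
  have hnormal := normal_in_normalizerSystem F hR E hE
  have hcentric := centric_in_normalizerSystem F hRc E hE
  haveI : Finite ↥(FusionSystem.normalizerIn S R) := finite_of_le_finite (fun _ hx => hx.1)
  refine ⟨⟨normalizerSystem_saturated p hS F hF R hRn E hE, R, hnormal, hcentric⟩, fun hM => ?_⟩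
  apply pCore_eq_map_of_model p E ι hM hnormal
  · exact hcentric.2 R (isConj_refl E hcentric.1)
  · rw [pCore_map_congr p (autGroup_normalizerSystem F hR E hE)]
    exact hRr.2

end Cfsg.Agent.Helper8
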