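import Mathlib

set_option autoImplicit false

namespace Cfsg.Agent.Helper8

open scoped BigOperators IsMulCommutative

section Cres

variable {P : Type*} [Group P]

/-- Restriction of an automorphism to the centre. -/
def cres (α : MulAut P) : Subgroup.center P →* Subgroup.center P :=
  (α.toMonoidHom.comp (Subgroup.center P).subtype).codRestrict (Subgroup.center P) (by
    intro z
    rw [Subgroup.mem_center_iff]
    intro g
    have h := Subgroup.mem_center_iff.mp z.2 (α⁻¹ g)
    have h2 := congrArg α h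
    rw [map_mul, map_mul, MulAut.apply_inv_self] at h2
    exact h2)

theorem cres_apply (α : MulAut P) (z : Subgroup.center P) :
    ((cres α z : Subgroup.center P) : P) = α (z : P) := rfl

theorem cres_mul (α β : MulAut P) (z : Subgroup.center P) :
    cres (α * β) z = cres α (cres β z) := Subtype.ext rfl

theorem cres_one (z : Subgroup.center P) : cres (1 : MulAut P) z = z := Subtype.ext rfl

theorem cres_inv_of_fixed {α : MulAut P} {z : Subgroup.center P} (h : cres α z = z) :
    cres α⁻¹ z = z := by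
  have h1 : cres α⁻¹ (cres α z) = z := by
    rw [← cres_mul, inv_mul_cancel, cres_one]
  rw [h] at h1
  exact h1

/-- `x ↦ x⁻¹ h(x)` as a homomorphism into the centre (when its values are central). -/
def zh (h : MulAut P) (hh : ∀ x : P, x⁻¹ * h x ∈ Subgroup.center P) : P →* Subgroup.center P where
  toFun x := ⟨x⁻¹ * h x, hh x⟩
  map_one' := by
    apply Subtype.ext
    show (1 : P)⁻¹ * h 1 = 1
    rw [map_one, inv_one, one_mul]
  map_mul' x y := by
    apply Subtype.ext
    show (x * y)⁻¹ * h (x * y) = (x⁻¹ * h x) * (y⁻¹ * h y)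
    rw [map_mul]
    have hc := Subgroup.mem_center_iff.mp (hh x) y⁻¹
    calc (x * y)⁻¹ * (h x * h y) = y⁻¹ * (x⁻¹ * h x) * h y := by group
      _ = (x⁻¹ * h x) * y⁻¹ * h y := by rw [hc]
      _ = (x⁻¹ * h x) * (y⁻¹ * h y) := by group

theorem zh_apply (h : MulAut P) (hh : ∀ x : P, x⁻¹ * h x ∈ Subgroup.center P) (x : P) :
    ((zh h hh x : Subgroup.center P) : P) = x⁻¹ * h x := rfl

variable (H : Subgroup (MulAut P)) [Fintype H]
  (h3 : ∀ h ∈ H, ∀ x : P, x⁻¹ * h x ∈ Subgroup.center P)

/-- The product over `H` of the maps `x ↦ x⁻¹ h(x)`. -/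
noncomputable def nu : P →* Subgroup.center P :=
  ∏ h : H, zh (h : MulAut P) (h3 h h.2)

theorem nu_apply (x : P) : nu H h3 x = ∏ h : H, zh (h : MulAut P) (h3 h h.2) x := by
  unfold nu
  rw [MonoidHom.finsetProd_apply]

omit [Fintype H] in
theorem cres_zh (h' h : H) (x : P) :
    cres (h' : MulAut P) (zh (h : MulAut P) (h3 h h.2) x) =
      (zh (h' : MulAut P) (h3 h' h'.2) x)⁻¹ * zh ((h' * h : H) : MulAut P) (h3 _ (h' * h).2) x := by
  apply Subtype.ext
  show (h' : MulAut P) (x⁻¹ * (h : MulAut P) x) =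
    (x⁻¹ * (h' : MulAut P) x)⁻¹ * (x⁻¹ * ((h' : MulAut P) * (h : MulAut P)) x)
  rw [map_mul, map_inv, MulAut.mul_apply]
  group

/-- (F3) -/
theorem cres_nu (h' : H) (x : P) :
    cres (h' : MulAut P) (nu H h3 x) =
      ((zh (h' : MulAut P) (h3 h' h'.2) x)⁻¹) ^ Fintype.card H * nu H h3 x := by
  rw [nu_apply, map_prod]
  simp only [cres_zh H h3 h']
  rw [Finset.prod_mul_distrib, Finset.prod_const, Finset.card_univ]
  congr 1
  exact Equiv.prod_comp (Equiv.mulLeft h') (fun h : H => zh (h : MulAut P) (h3 h h.2) x)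

/-- (F4) -/
theorem prod_cres_nu (x : P) : ∏ h : H, cres (h : MulAut P) (nu H h3 x) = 1 := by
  simp only [cres_nu H h3]
  rw [Finset.prod_mul_distrib, Finset.prod_const, Finset.card_univ, Finset.prod_pow,
    Finset.prod_inv_distrib, ← nu_apply H h3 x, inv_pow, inv_mul_cancel]

/-- (F5) -/
theorem nu_of_norm_one (z : Subgroup.center P) (hz : ∏ h : H, cres (h : MulAut P) z = 1) :
    nu H h3 (z : P) = (z⁻¹) ^ Fintype.card H := by
  rw [nu_apply]
  have h1 : ∀ h : H, zh (h : MulAut P) (h3 h h.2) (z : P) = z⁻¹ * cres (h : MulAut P) z := by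
    intro h
    apply Subtype.ext
    rfl
  simp only [h1]
  rw [Finset.prod_mul_distrib, Finset.prod_const, Finset.card_univ, hz, mul_one]

/-- (F2) equivariance under an automorphism normalizing `H`. -/
theorem nu_equivariant (γ : MulAut P) (hγ : ∀ h ∈ H, γ * h * γ⁻¹ ∈ H) (x : P) :
    nu H h3 (γ x) = cres γ (nu H h3 x) := by
  rw [nu_apply, nu_apply, map_prod]
  let f : H → H := fun h => ⟨γ * (h : MulAut P) * γ⁻¹, hγ h h.2⟩
  have hf : Function.Injective f := by
    intro a b hab
    have h1 : γ * (a : MulAut P) * γ⁻¹ = γ * (b : MulAut P) * γ⁻¹ := congrArg Subtype.val hab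
    apply Subtype.ext
    have h2 : γ⁻¹ * (γ * (a : MulAut P) * γ⁻¹) * γ = γ⁻¹ * (γ * (b : MulAut P) * γ⁻¹) * γ := by
      rw [h1]
    have ha : γ⁻¹ * (γ * (a : MulAut P) * γ⁻¹) * γ = (a : MulAut P) := by group
    have hb : γ⁻¹ * (γ * (b : MulAut P) * γ⁻¹) * γ = (b : MulAut P) := by group
    rw [ha, hb] at h2
    exact h2
  have hfb : Function.Bijective f := hf.bijective_of_finite
  have h1 : ∀ h : H, cres γ (zh (h : MulAut P) (h3 h h.2) x) =
      zh ((f h : H) : MulAut P) (h3 _ (f h).2) (γ x) := by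
    intro h
    apply Subtype.ext
    show γ (x⁻¹ * (h : MulAut P) x) = (γ x)⁻¹ * (γ * (h : MulAut P) * γ⁻¹) (γ x)
    rw [map_mul, map_inv, MulAut.mul_apply, MulAut.mul_apply, MulAut.inv_apply_self]
  simp only [h1]
  exact (Equiv.prod_comp (Equiv.ofBijective f hfb)
    (fun h : H => zh (h : MulAut P) (h3 h h.2) (γ x))).symm

end Cres

end Cfsg.Agent.Helper8
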