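import Mathlib
import Cfsg.Agent.Helper5.Frattini

set_option autoImplicit false

namespace Cfsg.Agent.Helper8

open scoped BigOperators

/-- The transfer into a normal subgroup `N`, evaluated on an element of `N`: the product of the
values at the conjugates by coset representatives. -/
theorem transfer_eq_prod_of_mem_normal {G : Type*} [Group G] {A : Type*} [CommGroup A]
    (N : Subgroup G) [hN : N.Normal] [N.FiniteIndex] (ϕ : N →* A) (g : G) (hg : g ∈ N) :
    MonoidHom.transfer ϕ g =
      @Finset.prod (G ⧸ N) A _ (@Finset.univ _ N.fintypeQuotientOfFiniteIndex)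
        (fun q => ϕ ⟨q.out⁻¹ * g * q.out, by
          have := hN.conj_mem g hg q.out⁻¹
          rwa [inv_inv] at this⟩) := by
  classical
  rw [MonoidHom.transfer_def ϕ (default : N.LeftTransversal)]
  unfold Subgroup.leftTransversals.diff
  apply Finset.prod_congr rfl
  intro q _
  congr 1
  apply Subtype.ext
  have h1 : ∀ q' : G ⧸ N, ((default : N.LeftTransversal).2.leftQuotientEquiv q' : G) = q'.out :=
    fun q' => Subgroup.IsComplement.leftQuotientEquiv_apply Quotient.out_eq' q'
  have h2 : g⁻¹ • q = q := by
    induction q using QuotientGroup.induction_on with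
    | H a =>
      show ((g⁻¹ * a : G) : G ⧸ N) = (a : G ⧸ N)
      rw [QuotientGroup.eq]
      have h3 : (g⁻¹ * a)⁻¹ * a = a⁻¹ * g * a := by group
      rw [h3]
      have := hN.conj_mem g hg a⁻¹
      rwa [inv_inv] at this
  show ((default : N.LeftTransversal).2.leftQuotientEquiv q : G)⁻¹ *
      ((g • (default : N.LeftTransversal)).2.leftQuotientEquiv q : G) = q.out⁻¹ * g * q.out
  rw [Subgroup.smul_apply_eq_smul_apply_inv_smul, h2, h1, smul_eq_mul, mul_assoc]

/-- A homomorphism into an abelian group of exponent `p` kills the Frattini subgroup. -/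
theorem frattini_le_ker_of_exponent {S : Type*} [Group S] [Finite S] {p : ℕ} (hp : p.Prime)
    {V : Type*} [CommGroup V] (hV : ∀ v : V, v ^ p = 1) (τ : S →* V) : frattini S ≤ τ.ker := by
  apply Cfsg.Agent.Helper5.frattini_le_of_elementary_quotient hp
  · intro a b
    rw [MonoidHom.mem_ker, map_mul, map_mul, map_mul, map_inv, map_inv]
    rw [mul_comm (τ a) (τ b), mul_assoc (τ b), mul_inv_cancel, mul_one, mul_inv_cancel]
  · intro a
    rw [MonoidHom.mem_ker, map_pow, hV]

end Cfsg.Agent.Helper8
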