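import Mathlib
import Cfsg.Agent.Helper8.GroupCres
import Cfsg.Agent.Helper8.GroupTransferNormal
import Cfsg.Agent.Helper6.Gaschutz

set_option autoImplicit false

namespace Cfsg.Agent.Helper8

open scoped BigOperators IsMulCommutative

section FT

variable {S : Type*} [Group S] [Finite S] {Pt : Type*} [Group Pt] [Finite Pt]

omit [Finite S] [Finite Pt] in
/-- Orbit lemma: if `S / N` acts freely by conjugation on the nonidentity elements of `H`, then for
an `S`-fixed central element `w` the product of its `H`-translates is `w` times a norm. -/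
theorem orbit_norm (N : Subgroup S) [hNn : N.Normal] [Fintype (S ⧸ N)] (c : S →* MulAut Pt)
    (H : Subgroup (MulAut Pt)) [Fintype H]
    (h1 : ∀ s : S, ∀ h ∈ H, c s * h * (c s)⁻¹ ∈ H)
    (h2 : ∀ s : S, s ∉ N → ∀ h ∈ H, c s * h = h * c s → h = 1)
    (htriv : ∀ s ∈ N, ∀ h ∈ H, c s * h = h * c s)
    (w : Subgroup.center Pt) (hw : ∀ s : S, cres (c s) w = w)
    (𝒢 : Subgroup (Subgroup.center Pt)) (hG : ∀ h ∈ H, cres h w ∈ 𝒢) :
    ∃ u ∈ 𝒢, ∏ h : H, cres (h : MulAut Pt) w = w * ∏ q : S ⧸ N, cres (c q.out⁻¹) u := by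
  classical
  let cj : S → H → H := fun s h => ⟨c s * (h : MulAut Pt) * (c s)⁻¹, h1 s h h.2⟩
  have cj_mul : ∀ s t h, cj (s * t) h = cj s (cj t h) := by
    intro s t h
    apply Subtype.ext
    show c (s * t) * (h : MulAut Pt) * (c (s * t))⁻¹ =
      c s * (c t * (h : MulAut Pt) * (c t)⁻¹) * (c s)⁻¹
    rw [map_mul]; group
  have cj_triv : ∀ s ∈ N, ∀ h, cj s h = h := by
    intro s hs h
    apply Subtype.ext
    show c s * (h : MulAut Pt) * (c s)⁻¹ = h
    rw [htriv s hs h h.2]; group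
  have cj_inv : ∀ s h, cj s⁻¹ (cj s h) = h := by
    intro s h
    rw [← cj_mul, inv_mul_cancel]
    exact cj_triv 1 N.one_mem h
  have cres_cj : ∀ s (h : H), cres ((cj s h : H) : MulAut Pt) w =
      cres (c s) (cres (h : MulAut Pt) w) := by
    intro s h
    show cres (c s * (h : MulAut Pt) * (c s)⁻¹) w = _
    rw [cres_mul, cres_mul, cres_inv_of_fixed (hw s)]
  have key : ∀ n : ℕ, ∀ X : Finset H, X.card = n → (1 : H) ∉ X →
      (∀ s : S, ∀ h ∈ X, cj s h ∈ X) →
      ∃ u ∈ 𝒢, ∏ h ∈ X, cres (h : MulAut Pt) w = ∏ q : S ⧸ N, cres (c q.out⁻¹) u := by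
    intro n
    induction n using Nat.strong_induction_on with
    | _ n ih =>
      intro X hXn h1X hXinv
      by_cases hXe : X = ∅
      · refine ⟨1, 𝒢.one_mem, ?_⟩
        rw [hXe, Finset.prod_empty]
        simp only [map_one, Finset.prod_const_one]
      · obtain ⟨h₀, hh₀⟩ := Finset.nonempty_iff_ne_empty.mpr hXe
        let f : S ⧸ N → H := fun q => cj q.out⁻¹ h₀
        have hf : Function.Injective f := by
          intro q q' hqq'
          have hqq'' : cj q.out⁻¹ h₀ = cj q'.out⁻¹ h₀ := hqq'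
          have e1 : cj (q.out * q'.out⁻¹) h₀ = h₀ := by
            rw [cj_mul, ← hqq'']
            have := cj_inv q.out⁻¹ h₀
            rwa [inv_inv] at this
          have e3 : c (q.out * q'.out⁻¹) * (h₀ : MulAut Pt) * (c (q.out * q'.out⁻¹))⁻¹ = h₀ :=
            congrArg Subtype.val e1
          have e2 : c (q.out * q'.out⁻¹) * (h₀ : MulAut Pt) =
              (h₀ : MulAut Pt) * c (q.out * q'.out⁻¹) := by
            calc c (q.out * q'.out⁻¹) * (h₀ : MulAut Pt)
                = (c (q.out * q'.out⁻¹) * (h₀ : MulAut Pt) * (c (q.out * q'.out⁻¹))⁻¹) *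
                    c (q.out * q'.out⁻¹) := by group
              _ = (h₀ : MulAut Pt) * c (q.out * q'.out⁻¹) := by rw [e3]
          have e4 : q.out * q'.out⁻¹ ∈ N := by
            by_contra hn
            have h5 := h2 _ hn h₀ h₀.2 e2
            have h6 : h₀ = 1 := Subtype.ext h5
            rw [h6] at hh₀
            exact h1X hh₀
          have e5 : q'.out⁻¹ * q.out ∈ N := by
            have h7 := hNn.conj_mem _ e4 q'.out⁻¹
            have h8 : q'.out⁻¹ * (q.out * q'.out⁻¹) * q'.out⁻¹⁻¹ = q'.out⁻¹ * q.out := by group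
            rwa [h8] at h7
          have e6 : ((q'.out : S) : S ⧸ N) = ((q.out : S) : S ⧸ N) := QuotientGroup.eq.mpr e5
          rw [QuotientGroup.out_eq', QuotientGroup.out_eq'] at e6
          exact e6.symm
        let O : Finset H := Finset.univ.image f
        have hOX : O ⊆ X := by
          intro h hh
          obtain ⟨q, -, rfl⟩ := Finset.mem_image.mp hh
          exact hXinv _ h₀ hh₀
        have hOinv : ∀ s : S, ∀ h ∈ O, cj s h ∈ O := by
          intro s h hh
          obtain ⟨q, -, rfl⟩ := Finset.mem_image.mp hh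
          let q' : S ⧸ N := ((q.out * s⁻¹ : S) : S ⧸ N)
          have e1 : (q.out * s⁻¹)⁻¹ * q'.out ∈ N := by
            rw [← QuotientGroup.eq, QuotientGroup.out_eq']
          have e2 : cj s (cj q.out⁻¹ h₀) = cj q'.out⁻¹ h₀ := by
            rw [← cj_mul]
            have e3 : s * q.out⁻¹ = ((q.out * s⁻¹)⁻¹ * q'.out) * q'.out⁻¹ := by group
            rw [e3, cj_mul, cj_triv _ e1]
          have e4 : cj s (f q) = f q' := e2
          rw [e4]
          exact Finset.mem_image_of_mem f (Finset.mem_univ q')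
        have hcard : (X \ O).card < n := by
          rw [← hXn]
          apply Finset.card_lt_card
          refine ⟨Finset.sdiff_subset, fun hsub => ?_⟩
          have h9 : f ((1 : S) : S ⧸ N) ∈ X \ O :=
            hsub (hOX (Finset.mem_image_of_mem f (Finset.mem_univ _)))
          exact (Finset.mem_sdiff.mp h9).2 (Finset.mem_image_of_mem f (Finset.mem_univ _))
        obtain ⟨u', hu', hprod'⟩ := ih (X \ O).card hcard (X \ O) rfl
          (fun h => h1X (Finset.mem_sdiff.mp h).1)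
          (by
            intro s h hh
            rw [Finset.mem_sdiff] at hh ⊢
            refine ⟨hXinv s h hh.1, fun hO => hh.2 ?_⟩
            have h10 := hOinv s⁻¹ _ hO
            rwa [cj_inv] at h10)
        refine ⟨u' * cres (h₀ : MulAut Pt) w, 𝒢.mul_mem hu' (hG h₀ h₀.2), ?_⟩
        rw [← Finset.prod_sdiff hOX, hprod', Finset.prod_image (fun a _ b _ hab => hf hab)]
        rw [← Finset.prod_mul_distrib]
        apply Finset.prod_congr rfl
        intro q _
        rw [map_mul]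
        congr 1
        exact cres_cj q.out⁻¹ h₀
  obtain ⟨u, hu, hprod⟩ := key _ (Finset.univ.erase (1 : H)) rfl (Finset.notMem_erase _ _) (by
    intro s h hh
    rw [Finset.mem_erase] at hh ⊢
    refine ⟨fun h1' => hh.1 ?_, Finset.mem_univ _⟩
    have h11 := cj_inv s h
    rw [h1'] at h11
    have h12 : cj s⁻¹ 1 = 1 := by
      apply Subtype.ext
      show c s⁻¹ * 1 * (c s⁻¹)⁻¹ = 1
      group
    rw [h12] at h11
    exact h11.symm)
  refine ⟨u, hu, ?_⟩
  rw [← Finset.mul_prod_erase Finset.univ _ (Finset.mem_univ (1 : H)), hprod]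
  congr 1

omit [Finite S] in
/-- A nontrivial invariant `p`-subgroup of the centre has a nontrivial fixed point. -/
theorem exists_fixed_ne_one {p : ℕ} [Fact p.Prime] (hS : IsPGroup p S) (c : S →* MulAut Pt)
    (R : Subgroup (Subgroup.center Pt)) (hRp : IsPGroup p R) (hRne : R ≠ ⊥)
    (hRinv : ∀ s : S, ∀ z ∈ R, cres (c s) z ∈ R) :
    ∃ w ∈ R, w ≠ 1 ∧ ∀ s : S, cres (c s) w = w := by
  classical
  let _ : MulAction S R :=
    { smul := fun s z => ⟨cres (c s) z, hRinv s z z.2⟩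
      one_smul := fun z => by
        apply Subtype.ext
        show cres (c 1) (z : Subgroup.center Pt) = z
        rw [map_one, cres_one]
      mul_smul := fun s t z => by
        apply Subtype.ext
        show cres (c (s * t)) (z : Subgroup.center Pt) = cres (c s) (cres (c t) z)
        rw [map_mul, cres_mul] }
  have hdvd : p ∣ Nat.card R := by
    obtain ⟨n, hn⟩ := IsPGroup.iff_card.mp hRp
    have hn0 : n ≠ 0 := by
      rintro rfl
      rw [pow_zero] at hn
      exact hRne (Subgroup.card_eq_one.mp hn)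
    rw [hn]; exact dvd_pow_self p hn0
  have h1fix : (1 : R) ∈ MulAction.fixedPoints S R := by
    intro s
    apply Subtype.ext
    show cres (c s) (1 : Subgroup.center Pt) = 1
    exact map_one _
  obtain ⟨b, hb, hb1⟩ := hS.exists_fixed_point_of_prime_dvd_card_of_fixed_point R hdvd h1fix
  refine ⟨b, b.2, ?_, ?_⟩
  · intro h
    exact hb1 (Subtype.ext h.symm)
  · intro s
    exact congrArg Subtype.val (hb s)

/-- **Free transfer lemma.** `N` a normal subgroup of the finite `p`-group `S`, identified with `Pt`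
through `e`; `H` a `p'`-group of automorphisms of `Pt` normalized by `S`, on whose nonidentity
elements `S / N` acts freely, with `[Pt, H]` central in `Pt` and inside `Φ(S)`. Then `H = 1`. -/
theorem free_transfer {p : ℕ} [Fact p.Prime] (hS : IsPGroup p S) (N : Subgroup S) [hNn : N.Normal]
    (e : N ≃* Pt) (c : S →* MulAut Pt)
    (hc : ∀ (s : S) (x : N) (hx : s * (x : S) * s⁻¹ ∈ N), c s (e x) = e ⟨s * x * s⁻¹, hx⟩)
    (H : Subgroup (MulAut Pt)) (hH : (Nat.card H).Coprime p)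
    (h1 : ∀ s : S, ∀ h ∈ H, c s * h * (c s)⁻¹ ∈ H)
    (h2 : ∀ s : S, s ∉ N → ∀ h ∈ H, c s * h = h * c s → h = 1)
    (h3 : ∀ h ∈ H, ∀ x : Pt, x⁻¹ * h x ∈ Subgroup.center Pt)
    (h4 : ∀ h ∈ H, ∀ x : Pt, ((e.symm (x⁻¹ * h x) : N) : S) ∈ frattini S) : H = ⊥ := by
  classical
  have hp : p.Prime := Fact.out
  have hfH : Fintype H := Fintype.ofFinite H
  have hPt : IsPGroup p Pt := (hS.to_subgroup N).of_equiv e
  have hZp : IsPGroup p (Subgroup.center Pt) := hPt.to_subgroup _
  have hmcop : (Fintype.card H).Coprime p := by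
    rw [← Nat.card_eq_fintype_card]; exact hH
  -- `N` acts trivially on `H`
  have htriv : ∀ s ∈ N, ∀ h ∈ H, c s * h = h * c s := by
    intro s hs h hh
    have hcs : ∀ y : Pt, c s y = e ⟨s, hs⟩ * y * (e ⟨s, hs⟩)⁻¹ := by
      intro y
      obtain ⟨x', rfl⟩ := e.surjective y
      rw [hc s x' (N.mul_mem (N.mul_mem hs x'.2) (N.inv_mem hs)), ← map_inv, ← map_mul, ← map_mul]
      rfl
    ext x
    show c s (h x) = h (c s x)
    rw [hcs, hcs, map_mul, map_mul, map_inv]
    have hz := h3 h hh (e ⟨s, hs⟩)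
    have hcomm := Subgroup.mem_center_iff.mp hz (h x)
    calc e ⟨s, hs⟩ * h x * (e ⟨s, hs⟩)⁻¹
        = e ⟨s, hs⟩ * (h x * ((e ⟨s, hs⟩)⁻¹ * h (e ⟨s, hs⟩))) * (h (e ⟨s, hs⟩))⁻¹ := by group
      _ = e ⟨s, hs⟩ * (((e ⟨s, hs⟩)⁻¹ * h (e ⟨s, hs⟩)) * h x) * (h (e ⟨s, hs⟩))⁻¹ := by rw [hcomm]
      _ = h (e ⟨s, hs⟩) * h x * (h (e ⟨s, hs⟩))⁻¹ := by group
  -- the Frattini subgroup inside `Pt` and inside its centre
  let ΦP : Subgroup Pt := ((frattini S).comap N.subtype).map e.toMonoidHom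
  have hΦP : ∀ y : Pt, ((e.symm y : N) : S) ∈ frattini S → y ∈ ΦP := by
    intro y hy
    exact ⟨e.symm y, hy, e.apply_symm_apply y⟩
  let ΦZ : Subgroup (Subgroup.center Pt) := ΦP.comap (Subgroup.center Pt).subtype
  have hνΦ : ∀ x : Pt, nu H h3 x ∈ ΦZ := by
    intro x
    rw [nu_apply]
    exact Subgroup.prod_mem _ (fun h _ => hΦP _ (h4 h h.2 x))
  obtain ⟨m', hm'⟩ := Cfsg.Agent.Helper6.exists_root_exponent (Subgroup.center Pt)
    (Fintype.card H) (by
      obtain ⟨k, hk⟩ := IsPGroup.iff_card.mp hZp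
      rw [hk]
      exact Nat.Coprime.pow_left k hmcop.symm)
  by_cases hν1 : ∀ x, nu H h3 x = 1
  · rw [eq_bot_iff]
    intro h hh
    rw [Subgroup.mem_bot]
    ext x
    have e1 := cres_nu H h3 ⟨h, hh⟩ x
    rw [hν1 x, map_one, mul_one] at e1
    have e3 : (zh h (h3 h hh) x) ^ Fintype.card H = 1 := by
      rw [← inv_inj, ← inv_pow, inv_one]; exact e1.symm
    have e2 : zh h (h3 h hh) x = 1 := by
      have := hm' (zh h (h3 h hh) x)
      rw [pow_mul, e3, one_pow] at this
      exact this.symm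
    have e4 : x⁻¹ * h x = 1 := congrArg Subtype.val e2
    show h x = x
    calc h x = x * (x⁻¹ * h x) := by group
      _ = x := by rw [e4, mul_one]
  · exfalso
    obtain ⟨x₁, hx₁⟩ := not_forall.mp hν1
    have hex : ∃ k : ℕ, ∀ x, (nu H h3 x) ^ (p ^ k) = 1 := by
      obtain ⟨k, hk⟩ := IsPGroup.iff_card.mp hZp
      exact ⟨k, fun x => by rw [← hk]; exact pow_card_eq_one'⟩
    have hk₀ : ∀ x, (nu H h3 x) ^ (p ^ Nat.find hex) = 1 := Nat.find_spec hex
    have hk₀pos : Nat.find hex ≠ 0 := by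
      intro h0
      have := hk₀ x₁
      rw [h0, pow_zero, pow_one] at this
      exact hx₁ this
    obtain ⟨k', hk'⟩ := Nat.exists_eq_succ_of_ne_zero hk₀pos
    have hmin : ¬ ∀ x, (nu H h3 x) ^ (p ^ k') = 1 := Nat.find_min hex (by omega)
    obtain ⟨x₂, hx₂⟩ := not_forall.mp hmin
    let ϕ₀ : Pt →* Subgroup.center Pt := (powMonoidHom (p ^ k')).comp (nu H h3)
    have hϕ₀ : ∀ x, ϕ₀ x = (nu H h3 x) ^ (p ^ k') := fun x => rfl
    have hϕ₀p : ∀ x, (ϕ₀ x) ^ p = 1 := by
      intro x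
      rw [hϕ₀, ← pow_mul, ← pow_succ, ← Nat.succ_eq_add_one, ← hk']; exact hk₀ x
    let V : Subgroup (Subgroup.center Pt) :=
      (powMonoidHom p : Subgroup.center Pt →* Subgroup.center Pt).ker
    let ϕ : Pt →* V := ϕ₀.codRestrict V (fun x => MonoidHom.mem_ker.mpr (hϕ₀p x))
    have hVexp : ∀ v : V, v ^ p = 1 := by
      intro v
      apply Subtype.ext
      exact MonoidHom.mem_ker.mp v.2
    let τ : S →* V := MonoidHom.transfer (ϕ.comp e.toMonoidHom)
    have hτΦ : frattini S ≤ τ.ker := frattini_le_ker_of_exponent hp hVexp τ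
    let _ : Fintype (S ⧸ N) := N.fintypeQuotientOfFiniteIndex
    have hequiv : ∀ (s : S) (y : Pt), ϕ₀ (c s y) = cres (c s) (ϕ₀ y) := by
      intro s y
      rw [hϕ₀, hϕ₀, nu_equivariant H h3 (c s) (h1 s) y, map_pow]
    have hτ : ∀ n : N, (n : S) ∈ frattini S →
        ∏ q : S ⧸ N, cres (c q.out⁻¹) (ϕ₀ (e n)) = 1 := by
      intro n hn
      have e1 : τ (n : S) = 1 := MonoidHom.mem_ker.mp (hτΦ hn)
      rw [show τ = MonoidHom.transfer (ϕ.comp e.toMonoidHom) from rfl,
        transfer_eq_prod_of_mem_normal N _ (n : S) n.2] at e1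
      have e2 := congrArg V.subtype e1
      rw [map_prod, map_one] at e2
      rw [← e2]
      apply Finset.prod_congr rfl
      intro q _
      rw [← hequiv]
      have hmem : q.out⁻¹ * (n : S) * q.out⁻¹⁻¹ ∈ N := hNn.conj_mem _ n.2 _
      rw [hc q.out⁻¹ n hmem]
      show ϕ₀ (e ⟨q.out⁻¹ * (n : S) * q.out⁻¹⁻¹, hmem⟩) = ϕ₀ (e ⟨q.out⁻¹ * (n : S) * q.out, _⟩)
      congr 2
      apply Subtype.ext
      show q.out⁻¹ * (n : S) * q.out⁻¹⁻¹ = q.out⁻¹ * (n : S) * q.out
      rw [inv_inv]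
    -- a nontrivial `S`-fixed point in the image of `ϕ₀`
    have hRne : ϕ₀.range ≠ ⊥ := by
      intro hbot
      have : ϕ₀ x₂ ∈ ϕ₀.range := ⟨x₂, rfl⟩
      rw [hbot, Subgroup.mem_bot] at this
      exact hx₂ this
    obtain ⟨w, ⟨x₀, rfl⟩, hw1, hwfix⟩ := exists_fixed_ne_one hS c ϕ₀.range
      (hZp.to_subgroup _) hRne (by
        rintro s _ ⟨y, rfl⟩
        exact ⟨c s y, hequiv s y⟩)
    -- the good subgroup
    have hG : ∀ h ∈ H, cres h (ϕ₀ x₀) ∈ ΦP.map ϕ₀ := by
      intro h hh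
      have hzN : ∏ h' : H, cres (h' : MulAut Pt) (cres h (nu H h3 x₀)) = 1 := by
        have e5 : ∀ h' : H, cres (h' : MulAut Pt) (cres h (nu H h3 x₀)) =
            cres (((Equiv.mulRight (⟨h, hh⟩ : H)) h' : H) : MulAut Pt) (nu H h3 x₀) := by
          intro h'
          rw [← cres_mul]
          rfl
        simp only [e5]
        rw [Equiv.prod_comp (Equiv.mulRight (⟨h, hh⟩ : H))
          (fun h'' : H => cres (h'' : MulAut Pt) (nu H h3 x₀))]
        exact prod_cres_nu H h3 x₀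
      have hyN : ∏ h' : H, cres (h' : MulAut Pt) (((cres h (nu H h3 x₀))⁻¹) ^ m') = 1 := by
        simp only [map_pow, map_inv]
        rw [Finset.prod_pow, Finset.prod_inv_distrib, hzN, inv_one, one_pow]
      have e2 : nu H h3 (((((cres h (nu H h3 x₀))⁻¹) ^ m' : Subgroup.center Pt)) : Pt) =
          cres h (nu H h3 x₀) := by
        rw [nu_of_norm_one H h3 _ hyN, inv_pow, inv_pow, inv_pow, inv_inv, ← pow_mul, mul_comm, hm']
      have hz : cres h (nu H h3 x₀) ∈ ΦZ := by
        rw [← e2]; exact hνΦ _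
      have hyΦ : ((((cres h (nu H h3 x₀))⁻¹) ^ m' : Subgroup.center Pt) : Pt) ∈ ΦP :=
        ΦZ.pow_mem (ΦZ.inv_mem hz) m'
      refine ⟨_, hyΦ, ?_⟩
      rw [hϕ₀, hϕ₀, e2, map_pow]
    obtain ⟨u, hu, hprod⟩ := orbit_norm N c H h1 h2 htriv (ϕ₀ x₀) hwfix (ΦP.map ϕ₀) hG
    have hL : ∏ h : H, cres (h : MulAut Pt) (ϕ₀ x₀) = 1 := by
      simp only [hϕ₀, map_pow]
      rw [Finset.prod_pow, prod_cres_nu H h3 x₀, one_pow]
    obtain ⟨y', ⟨n, hn, rfl⟩, rfl⟩ := hu
    rw [hL] at hprod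
    have hprod2 : (1 : Subgroup.center Pt) =
        ϕ₀ x₀ * ∏ q : S ⧸ N, cres (c q.out⁻¹) (ϕ₀ (e n)) := hprod
    rw [hτ n hn, mul_one] at hprod2
    exact hw1 hprod2.symm

end FT

end Cfsg.Agent.Helper8
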