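import Mathlib
import Cfsg.Agent.Helper6.Tate

set_option autoImplicit false

namespace Cfsg.Agent.Helper8

open Cfsg

/-- Abstract normal `p`-complement lemma: Burnside's transfer theorem in the quotient by `J`,
followed by Tate's theorem. `T` is a Sylow `p`-subgroup that is its own normalizer, `J ≤ T` is a
normal subgroup of `G` consisting of nongenerators of `T` with `T / J` abelian. -/
theorem exists_normal_pprime_of_abelian_quotient_sylow {G : Type*} [Group G] [Finite G] {p : ℕ}
    [Fact p.Prime] (T : Subgroup G) (hT : IsPGroup p T) (hTi : ¬ p ∣ T.index)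
    (J : Subgroup G) [hJn : J.Normal] (hJT : J ≤ T)
    (hcomm : ∀ a ∈ T, ∀ b ∈ T, a * b * a⁻¹ * b⁻¹ ∈ J)
    (hNT : ∀ g : G, (∀ t, t ∈ T ↔ g * t * g⁻¹ ∈ T) → g ∈ T)
    (hΦ : ∀ C : Subgroup G, C ≤ T → T ≤ C ⊔ J → T ≤ C) :
    ∃ H : Subgroup G, H.Normal ∧ (Nat.card H).Coprime p ∧ (H = ⊥ → IsPGroup p G) := by
  classical
  let π : G →* G ⧸ J := QuotientGroup.mk' J
  have hπ : Function.Surjective π := QuotientGroup.mk'_surjective J
  have hker : π.ker = J := QuotientGroup.ker_mk' J
  have hThat : IsPGroup p (T.map π) := hT.map π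
  have hidx : (T.map π).index = T.index := Subgroup.index_map_eq _ hπ (by rw [hker]; exact hJT)
  let P : Sylow p (G ⧸ J) := hThat.toSylow (by rw [hidx]; exact hTi)
  have hPcoe : (P : Subgroup (G ⧸ J)) = T.map π := rfl
  have hmem : ∀ g : G, π g ∈ T.map π ↔ g ∈ T := by
    intro g
    constructor
    · rintro ⟨t, ht, hte⟩
      have h1 : t⁻¹ * g ∈ J := by
        rw [← hker, MonoidHom.mem_ker, map_mul, map_inv, hte, inv_mul_cancel]
      have h2 : g = t * (t⁻¹ * g) := by group
      rw [h2]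
      exact T.mul_mem ht (hJT h1)
    · intro hg
      exact ⟨g, hg, rfl⟩
  have hP : Subgroup.normalizer ((P : Subgroup (G ⧸ J)) : Set (G ⧸ J)) ≤
      Subgroup.centralizer ((P : Subgroup (G ⧸ J)) : Set (G ⧸ J)) := by
    intro x hx
    obtain ⟨g, rfl⟩ := hπ x
    rw [Subgroup.mem_normalizer_iff] at hx
    have hg : g ∈ T := by
      apply hNT
      intro t
      have h1 := hx (π t)
      rw [hPcoe, hmem] at h1
      rw [h1, ← map_inv, ← map_mul, ← map_mul, hmem]
    rw [Subgroup.mem_centralizer_iff]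
    rintro y ⟨t, ht, rfl⟩
    have h1 := hcomm t ht g hg
    have h2 : π (t * g * t⁻¹ * g⁻¹) = 1 := by
      rw [← MonoidHom.mem_ker, hker]; exact h1
    rw [map_mul, map_mul, map_mul, map_inv, map_inv] at h2
    calc π t * π g = (π t * π g * (π t)⁻¹ * (π g)⁻¹) * (π g * π t) := by group
      _ = π g * π t := by rw [h2, one_mul]
  have hcompl := MonoidHom.ker_transferSylow_isComplement' P hP
  set Khat : Subgroup (G ⧸ J) := (MonoidHom.transferSylow P hP).ker with hKhat
  let K : Subgroup G := Khat.comap π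
  have hKn : K.Normal := Subgroup.Normal.comap (MonoidHom.normal_ker _) π
  have hKT : K ⊓ T ≤ J := by
    intro x hx
    have h1 : π x ∈ Khat := hx.1
    have h2 : π x ∈ (P : Subgroup (G ⧸ J)) := by rw [hPcoe]; exact ⟨x, hx.2, rfl⟩
    have h3 : π x = 1 := by
      have := hcompl.disjoint
      rw [Subgroup.disjoint_def] at this
      exact this h1 h2
    rw [← hker]; exact h3
  have hKTtop : K ⊔ T = ⊤ := by
    rw [eq_top_iff]
    intro g _
    have h1 : π g ∈ Khat ⊔ (P : Subgroup (G ⧸ J)) := by rw [hcompl.sup_eq_top]; trivial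
    have : Khat.Normal := MonoidHom.normal_ker _
    rw [← SetLike.mem_coe, Subgroup.normal_mul] at h1
    obtain ⟨k, hk, y, hy, hky⟩ := h1
    have hy' : y ∈ T.map π := hy
    obtain ⟨t, ht, rfl⟩ := hy'
    have h2 : g * t⁻¹ ∈ K := by
      show π (g * t⁻¹) ∈ Khat
      have h3 : π (g * t⁻¹) = k := by
        rw [map_mul, map_inv, ← hky]; group
      rw [h3]; exact hk
    have h3 : g = (g * t⁻¹) * t := by group
    rw [h3]
    exact Subgroup.mul_mem _ (Subgroup.mem_sup_left h2) (Subgroup.mem_sup_right ht)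
  have htate : Cfsg.HasNormalPComplement p K := by
    apply Cfsg.Agent.Helper6.tate_nongen T hT hTi K
    intro C hC hTC
    apply hΦ C hC
    exact hTC.trans (sup_le_sup_left hKT C)
  obtain ⟨H₀, hH₀⟩ := Cfsg.Agent.Helper6.exists_isNPC_of_hasNormalPComplement htate
  refine ⟨H₀.map K.subtype, ?_, ?_, ?_⟩
  · constructor
    rintro _ ⟨k, hk, rfl⟩ g
    have hconj : g * (k : G) * g⁻¹ ∈ K := hKn.conj_mem _ k.2 g
    refine ⟨⟨g * (k : G) * g⁻¹, hconj⟩, ?_, rfl⟩
    have hk' := (hH₀.mem_iff k).mp hk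
    apply (hH₀.mem_iff _).mpr
    have h1 : orderOf (⟨g * (k : G) * g⁻¹, hconj⟩ : K) = orderOf k := by
      rw [← Subgroup.orderOf_coe, ← Subgroup.orderOf_coe]
      show orderOf (g * (k : G) * g⁻¹) = orderOf (k : G)
      have := MulEquiv.orderOf_eq (MulAut.conj g) (k : G)
      rw [MulAut.conj_apply] at this
      exact this
    rw [h1]; exact hk'
  · rw [Subgroup.card_map_of_injective K.subtype_injective]
    exact hH₀.2.1
  · intro hbot
    have hH₀bot : H₀ = ⊥ := by
      rw [eq_bot_iff]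
      intro k hk
      have h1 : (k : G) ∈ H₀.map K.subtype := ⟨k, hk, rfl⟩
      rw [hbot, Subgroup.mem_bot] at h1
      rw [Subgroup.mem_bot]
      exact Subtype.ext h1
    have hKp : IsPGroup p K := by
      intro k
      obtain ⟨i, hi⟩ := hH₀.2.2 k
      rw [hH₀bot, Subgroup.mem_bot] at hi
      exact ⟨i, hi⟩
    have h1 : IsPGroup p (K ⊔ T : Subgroup G) := hKp.to_sup_of_normal_left hT
    rw [hKTtop] at h1
    intro g
    obtain ⟨i, hi⟩ := h1 ⟨g, trivial⟩
    exact ⟨i, congrArg Subtype.val hi⟩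

end Cfsg.Agent.Helper8
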