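import Mathlib
import Cfsg.Agent.Helper8.FusionIso
import Cfsg.Agent.Helper8.Fusion
import Cfsg.Agent.Helper8.GroupFusion
import Cfsg.Agent.Helper8.FusionNormal
import Cfsg.Agent.Helper8.GroupNPC
import Cfsg.Agent.Helper8.GroupFreeTransfer

set_option autoImplicit false

namespace Cfsg.Agent.Helper8

open Cfsg

variable {Ω : Type*} [Group Ω]

/-- The conjugation homomorphism `S → Aut(P)` for `S` normalizing `P`. -/
noncomputable def conjOn {S P : Subgroup Ω} (hSN : S ≤ Subgroup.normalizer (P : Set Ω)) :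
    ↥S →* MulAut ↥P :=
  P.normalizerMonoidHom.comp (Subgroup.inclusion hSN)

theorem conjOn_apply {S P : Subgroup Ω} (hSN : S ≤ Subgroup.normalizer (P : Set Ω)) (s : S)
    (x : P) : ((conjOn hSN s x : P) : Ω) = (s : Ω) * (x : Ω) * (s : Ω)⁻¹ := rfl

theorem mem_autInducedBy_iff_conjOn {S P K : Subgroup Ω}
    (hSN : S ≤ Subgroup.normalizer (P : Set Ω)) (hKS : K ≤ S) (α : MulAut P) :
    α ∈ autInducedBy K P ↔ ∃ s : S, (s : Ω) ∈ K ∧ conjOn hSN s = α := by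
  rw [mem_autInducedBy_iff]
  constructor
  · rintro ⟨g, hg, h⟩
    refine ⟨⟨g, hKS hg⟩, hg, ?_⟩
    apply MulEquiv.ext
    intro x
    apply Subtype.ext
    rw [h x]
    rfl
  · rintro ⟨s, hs, rfl⟩
    exact ⟨s, hs, fun x => rfl⟩

/-- Conjugating a conjugation automorphism of `P` by an automorphism `h`. -/
theorem conj_conjOn {S P : Subgroup Ω} (hSN : S ≤ Subgroup.normalizer (P : Set Ω)) (hPS : P ≤ S)
    (h : MulAut P) (b : P) :
    h * conjOn hSN ⟨(b : Ω), hPS b.2⟩ * h⁻¹ = conjOn hSN ⟨((h b : P) : Ω), hPS (h b).2⟩ := by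
  apply MulEquiv.ext
  intro x
  have h1 : ∀ y : P, conjOn hSN ⟨(b : Ω), hPS b.2⟩ y = b * y * b⁻¹ := fun y => Subtype.ext rfl
  have h2 : ∀ y : P, conjOn hSN ⟨((h b : P) : Ω), hPS (h b).2⟩ y = h b * y * (h b)⁻¹ :=
    fun y => Subtype.ext rfl
  rw [MulAut.mul_apply, MulAut.mul_apply, h1, h2, map_mul, map_mul, map_inv, MulAut.apply_inv_self]

/-- Normal `p`-complement of the automizer in the local Tate situation. -/
theorem tate_local_npc {S P Q : Subgroup Ω} [Finite S] {p : ℕ} [Fact p.Prime]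
    (hPS : P ≤ S) (hSN : S ≤ Subgroup.normalizer (P : Set Ω)) (hQP : Q ≤ P)
    (hcomm : ∀ s ∈ S, ∀ t ∈ S, s * t * s⁻¹ * t⁻¹ ∈ Q)
    (hQΦ : Q ≤ (frattini ↥S).map S.subtype) (hPne : ¬ S ≤ P)
    (A : Subgroup (MulAut ↥P))
    (hTA : autInducedBy S P ≤ A)
    (hSyl : ∃ R : Sylow p A, (R : Subgroup A) = (autInducedBy S P).subgroupOf A)
    (hQinv : ∀ α ∈ A, ∀ x : P, (x : Ω) ∈ Q → ((α x : P) : Ω) ∈ Q)
    (hc : ∀ R : Subgroup Ω, P ≤ R → R ≤ S → ¬ R ≤ P → ∀ β ∈ A,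
      (∀ τ ∈ autInducedBy R P, β * τ * β⁻¹ ∈ autInducedBy R P) → ∃ k : ℕ, β ^ (p ^ k) = 1) :
    ∃ H : Subgroup A, H.Normal ∧ (Nat.card H).Coprime p ∧ (H = ⊥ → IsPGroup p A) := by
  classical
  have : Finite P := finite_of_le_finite hPS
  obtain ⟨R, hR⟩ := hSyl
  have hT : IsPGroup p ((autInducedBy S P).subgroupOf A) := hR ▸ R.isPGroup'
  have hTi : ¬ p ∣ ((autInducedBy S P).subgroupOf A).index := hR ▸ R.not_dvd_index
  have hQS : Q ≤ S := hQP.trans hPS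
  have hJn : ((autInducedBy Q P).subgroupOf A).Normal := by
    constructor
    intro n hn g
    rw [Subgroup.mem_subgroupOf] at hn ⊢
    obtain ⟨q, hq, hqn⟩ := (mem_autInducedBy_iff Q P _).mp hn
    rw [mem_autInducedBy_iff]
    refine ⟨(((g : MulAut P) ⟨q, hQP hq⟩ : P) : Ω), hQinv g g.2 ⟨q, hQP hq⟩ hq, fun x => ?_⟩
    show (((g : MulAut P) ((n : MulAut P) ((g : MulAut P)⁻¹ x)) : P) : Ω) = _
    have h1 : (n : MulAut P) ((g : MulAut P)⁻¹ x) =
        ⟨q, hQP hq⟩ * ((g : MulAut P)⁻¹ x) * (⟨q, hQP hq⟩ : P)⁻¹ := Subtype.ext (hqn _)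
    rw [h1, map_mul, map_mul, map_inv, MulAut.apply_inv_self]
    rfl
  have hJT : (autInducedBy Q P).subgroupOf A ≤ (autInducedBy S P).subgroupOf A := by
    intro x hx
    exact autInducedBy_mono hQS P hx
  have hcomm' : ∀ a ∈ (autInducedBy S P).subgroupOf A, ∀ b ∈ (autInducedBy S P).subgroupOf A,
      a * b * a⁻¹ * b⁻¹ ∈ (autInducedBy Q P).subgroupOf A := by
    intro a ha b hb
    obtain ⟨s, -, hs⟩ := (mem_autInducedBy_iff_conjOn hSN le_rfl _).mp (Subgroup.mem_subgroupOf.mp ha)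
    obtain ⟨t, -, ht⟩ := (mem_autInducedBy_iff_conjOn hSN le_rfl _).mp (Subgroup.mem_subgroupOf.mp hb)
    rw [Subgroup.mem_subgroupOf]
    have h1 : ((a * b * a⁻¹ * b⁻¹ : A) : MulAut P) = conjOn hSN (s * t * s⁻¹ * t⁻¹) := by
      rw [map_mul, map_mul, map_mul, map_inv, map_inv, hs, ht]
      rfl
    rw [h1, mem_autInducedBy_iff_conjOn hSN hQS]
    exact ⟨_, hcomm s s.2 t t.2, rfl⟩
  have hNT : ∀ g : A, (∀ t, t ∈ (autInducedBy S P).subgroupOf A ↔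
      g * t * g⁻¹ ∈ (autInducedBy S P).subgroupOf A) → g ∈ (autInducedBy S P).subgroupOf A := by
    intro g hg
    obtain ⟨k, hk⟩ := hc S hPS le_rfl hPne g g.2 (by
      intro τ hτ
      exact (hg ⟨τ, hTA hτ⟩).mp hτ)
    have hZ : IsPGroup p (Subgroup.zpowers g) := by
      rintro ⟨x, hx⟩
      obtain ⟨i, rfl⟩ := Subgroup.mem_zpowers_iff.mp hx
      refine ⟨k, Subtype.ext ?_⟩
      show (g ^ i) ^ (p ^ k) = 1
      have hgk : g ^ (p ^ k) = 1 := Subtype.ext hk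
      rw [← zpow_natCast, ← zpow_mul, mul_comm, zpow_mul, zpow_natCast, hgk, one_zpow]
    have hZN : Subgroup.zpowers g ≤
        Subgroup.normalizer (((autInducedBy S P).subgroupOf A : Subgroup A) : Set A) := by
      rw [Subgroup.zpowers_le, Subgroup.mem_normalizer_iff]
      exact hg
    have hsup := hT.to_sup_of_normal_left' hZ hZN
    have hmax := R.is_maximal' hsup (by rw [hR]; exact le_sup_left)
    have h2 : Subgroup.zpowers g ≤ (autInducedBy S P).subgroupOf A := by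
      rw [← hR, ← hmax]; exact le_sup_right
    exact h2 (Subgroup.mem_zpowers g)
  have hΦ : ∀ C : Subgroup A, C ≤ (autInducedBy S P).subgroupOf A →
      (autInducedBy S P).subgroupOf A ≤ C ⊔ (autInducedBy Q P).subgroupOf A →
      (autInducedBy S P).subgroupOf A ≤ C := by
    intro C hC hTC
    have hQfr : ∀ q : S, (q : Ω) ∈ Q → q ∈ frattini ↥S := by
      intro x hx
      obtain ⟨y, hy, hyx⟩ := hQΦ hx
      have h3 : y = x := Subtype.ext hyx
      rw [← h3]; exact hy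
    have htop : (C.map A.subtype).comap (conjOn hSN) ⊔ frattini ↥S = ⊤ := by
      rw [eq_top_iff]
      intro s _
      have hsT0 : conjOn hSN s ∈ autInducedBy S P :=
        (mem_autInducedBy_iff_conjOn hSN le_rfl _).mpr ⟨s, s.2, rfl⟩
      have hsT : (⟨conjOn hSN s, hTA hsT0⟩ : A) ∈ (autInducedBy S P).subgroupOf A := hsT0
      have h1 := hTC hsT
      rw [← SetLike.mem_coe, Subgroup.mul_normal] at h1
      obtain ⟨γ, hγ, j, hj, hγj⟩ := h1
      obtain ⟨q, hq, hqj⟩ := (mem_autInducedBy_iff_conjOn hSN hQS _).mp (Subgroup.mem_subgroupOf.mp hj)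
      have h2 : s * q⁻¹ ∈ (C.map A.subtype).comap (conjOn hSN) := by
        show conjOn hSN (s * q⁻¹) ∈ C.map A.subtype
        refine ⟨γ, hγ, ?_⟩
        rw [map_mul, map_inv, hqj]
        have h3 : (γ : MulAut P) * (j : MulAut P) = conjOn hSN s := congrArg Subtype.val hγj
        rw [← h3]
        show (γ : MulAut P) = (γ : MulAut P) * (j : MulAut P) * (j : MulAut P)⁻¹
        group
      have h4 : s = (s * q⁻¹) * q := by group
      rw [h4]
      exact Subgroup.mul_mem _ (Subgroup.mem_sup_left h2) (Subgroup.mem_sup_right (hQfr q hq))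
    have hC'top := frattini_nongenerating htop
    intro t ht
    obtain ⟨s, -, hs⟩ := (mem_autInducedBy_iff_conjOn hSN le_rfl _).mp (Subgroup.mem_subgroupOf.mp ht)
    have h5 : s ∈ (C.map A.subtype).comap (conjOn hSN) := by rw [hC'top]; trivial
    obtain ⟨γ, hγ, hγs⟩ := h5
    have h6 : γ = t := Subtype.ext (hγs.trans hs)
    rw [← h6]; exact hγ
  exact exists_normal_pprime_of_abelian_quotient_sylow _ hT hTi _ hJT hcomm' hNT hΦ

/-- **Local Tate lemma.** `P ⊴ S` with `[S,S] ≤ Q ≤ P`, `Q ≤ Φ(S)`, `P ≠ S`; `A ≤ Aut(P)` contains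
`Aut_S(P)` as a Sylow `p`-subgroup, preserves `Q`, and every element of `A` normalizing some
`Aut_R(P)` with `P < R ≤ S` is a `p`-element. Then `A` is a `p`-group. -/
theorem isPGroup_of_tate_local {S P Q : Subgroup Ω} [Finite S] {p : ℕ} [Fact p.Prime]
    (hS : IsPGroup p S)
    (hPS : P ≤ S) (hSN : S ≤ Subgroup.normalizer (P : Set Ω)) (hQP : Q ≤ P)
    (hcomm : ∀ s ∈ S, ∀ t ∈ S, s * t * s⁻¹ * t⁻¹ ∈ Q)
    (hQΦ : Q ≤ (frattini ↥S).map S.subtype) (hPne : ¬ S ≤ P)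
    (A : Subgroup (MulAut ↥P))
    (hTA : autInducedBy S P ≤ A)
    (hSyl : ∃ R : Sylow p A, (R : Subgroup A) = (autInducedBy S P).subgroupOf A)
    (hQinv : ∀ α ∈ A, ∀ x : P, (x : Ω) ∈ Q → ((α x : P) : Ω) ∈ Q)
    (hc : ∀ R : Subgroup Ω, P ≤ R → R ≤ S → ¬ R ≤ P → ∀ β ∈ A,
      (∀ τ ∈ autInducedBy R P, β * τ * β⁻¹ ∈ autInducedBy R P) → ∃ k : ℕ, β ^ (p ^ k) = 1) :
    IsPGroup p A := by
  classical
  have hfinP : Finite P := finite_of_le_finite hPS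
  obtain ⟨HA, hHn, hHcop, hHbot⟩ :=
    tate_local_npc hPS hSN hQP hcomm hQΦ hPne A hTA hSyl hQinv hc
  apply hHbot
  have hQS : Q ≤ S := hQP.trans hPS
  have hcA : ∀ s : S, conjOn hSN s ∈ A := fun s =>
    hTA ((mem_autInducedBy_iff_conjOn hSN le_rfl _).mpr ⟨s, s.2, rfl⟩)
  have hNn : (P.subgroupOf S).Normal := by
    constructor
    intro n hn g
    rw [Subgroup.mem_subgroupOf] at hn ⊢
    have h1 := hSN g.2
    rw [Subgroup.mem_normalizer_iff] at h1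
    exact (h1 _).mp hn
  have hHmap : (Nat.card (HA.map A.subtype)).Coprime p := by
    rw [Subgroup.card_map_of_injective A.subtype_injective]; exact hHcop
  -- freeness
  have hfree : ∀ s : S, (s : Ω) ∉ P → ∀ h ∈ HA,
      conjOn hSN s * (h : MulAut P) = (h : MulAut P) * conjOn hSN s → h = 1 := by
    intro s hsP h hh hcomm2
    have hRS : P ⊔ Subgroup.zpowers (s : Ω) ≤ S := sup_le hPS (Subgroup.zpowers_le.mpr s.2)
    obtain ⟨k, hk⟩ := hc (P ⊔ Subgroup.zpowers (s : Ω)) le_sup_left hRS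
      (fun hle => hsP (hle (Subgroup.mem_sup_right (Subgroup.mem_zpowers _))))
      (h : MulAut P) h.2 (by
        intro τ hτ
        obtain ⟨r, hr, hrτ⟩ := (mem_autInducedBy_iff_conjOn hSN hRS _).mp hτ
        rw [sup_comm] at hr
        obtain ⟨a, ha, b, hb, hab⟩ := mem_sup_of_le_normalizer (by
          rw [Subgroup.zpowers_le]; exact hSN s.2) hr
        obtain ⟨i, rfl⟩ := Subgroup.mem_zpowers_iff.mp ha
        have hr2 : r = s ^ i * ⟨b, hPS hb⟩ := by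
          apply Subtype.ext
          rw [hab]
          show (s : Ω) ^ i * b = ((s ^ i : S) : Ω) * b
          rw [Subgroup.coe_zpow]
        have hτ2 : τ = (conjOn hSN s) ^ i * conjOn hSN ⟨b, hPS hb⟩ := by
          rw [← hrτ, hr2, map_mul, map_zpow]
        have hki : (h : MulAut P) * (conjOn hSN s) ^ i = (conjOn hSN s) ^ i * (h : MulAut P) :=
          ((show Commute (conjOn hSN s) (h : MulAut P) from hcomm2).zpow_left i).eq.symm
        have h3 : (h : MulAut P) * τ * (h : MulAut P)⁻¹ =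
            (conjOn hSN s) ^ i *
              conjOn hSN ⟨(((h : MulAut P) ⟨b, hb⟩ : P) : Ω), hPS ((h : MulAut P) ⟨b, hb⟩).2⟩ := by
          rw [hτ2, ← conj_conjOn hSN hPS (h : MulAut P) ⟨b, hb⟩]
          calc (h : MulAut P) * ((conjOn hSN s) ^ i * conjOn hSN ⟨b, hPS hb⟩) * (h : MulAut P)⁻¹
              = ((h : MulAut P) * (conjOn hSN s) ^ i) * conjOn hSN ⟨b, hPS hb⟩ *
                  (h : MulAut P)⁻¹ := by group
            _ = (conjOn hSN s) ^ i * ((h : MulAut P) * conjOn hSN ⟨b, hPS hb⟩ *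
                  (h : MulAut P)⁻¹) := by rw [hki]; group
        rw [h3, ← map_zpow, ← map_mul, mem_autInducedBy_iff_conjOn hSN hRS]
        refine ⟨_, ?_, rfl⟩
        show ((s ^ i : S) : Ω) * (((h : MulAut P) ⟨b, hb⟩ : P) : Ω) ∈ _
        rw [Subgroup.coe_zpow]
        exact Subgroup.mul_mem _ (Subgroup.mem_sup_right (Subgroup.zpow_mem_zpowers _ i))
          (Subgroup.mem_sup_left ((h : MulAut P) ⟨b, hb⟩).2))
    have ho : orderOf (h : MulAut P) ∣ p ^ k := orderOf_dvd_of_pow_eq_one hk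
    have ho2 : orderOf (h : MulAut P) ∣ Nat.card HA := by
      have h4 := orderOf_dvd_natCard (⟨h, hh⟩ : HA)
      rw [← Subgroup.orderOf_coe, ← Subgroup.orderOf_coe] at h4
      exact h4
    have hcop : (orderOf (h : MulAut P)).Coprime (p ^ k) :=
      Nat.Coprime.coprime_dvd_left ho2 (Nat.Coprime.pow_right k hHcop)
    have h5 : orderOf (h : MulAut P) = 1 := Nat.Coprime.eq_one_of_dvd hcop ho
    exact Subtype.ext (orderOf_eq_one_iff.mp h5)
  have key : HA.map A.subtype = ⊥ := by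
    apply free_transfer hS (P.subgroupOf S) (Subgroup.subgroupOfEquivOfLe hPS) (conjOn hSN) ?_
      (HA.map A.subtype) hHmap ?_ ?_ ?_ ?_
    · intro s x hx
      exact Subtype.ext rfl
    · rintro s _ ⟨h, hh, rfl⟩
      exact ⟨⟨conjOn hSN s, hcA s⟩ * h * ⟨conjOn hSN s, hcA s⟩⁻¹, hHn.conj_mem h hh _, rfl⟩
    · rintro s hsN _ ⟨h, hh, rfl⟩ hcomm2
      have hsP : (s : Ω) ∉ P := fun hs => hsN (Subgroup.mem_subgroupOf.mpr hs)
      have h1 := hfree s hsP h hh hcomm2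
      rw [h1]; rfl
    · rintro _ ⟨h, hh, rfl⟩ x
      show x⁻¹ * (h : MulAut P) x ∈ Subgroup.center ↥P
      have hd1 : (⟨conjOn hSN ⟨(x : Ω), hPS x.2⟩, hcA _⟩ : A) * h *
          (⟨conjOn hSN ⟨(x : Ω), hPS x.2⟩, hcA _⟩ : A)⁻¹ * h⁻¹ ∈ HA :=
        HA.mul_mem (hHn.conj_mem h hh _) (HA.inv_mem hh)
      have hd2 : (⟨conjOn hSN ⟨(x : Ω), hPS x.2⟩, hcA _⟩ : A) * h *
          (⟨conjOn hSN ⟨(x : Ω), hPS x.2⟩, hcA _⟩ : A)⁻¹ * h⁻¹ ∈
            (autInducedBy S P).subgroupOf A := by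
        rw [Subgroup.mem_subgroupOf]
        show conjOn hSN ⟨(x : Ω), hPS x.2⟩ * (h : MulAut P) *
          (conjOn hSN ⟨(x : Ω), hPS x.2⟩)⁻¹ * (h : MulAut P)⁻¹ ∈ autInducedBy S P
        have e1 : conjOn hSN ⟨(x : Ω), hPS x.2⟩ * (h : MulAut P) *
            (conjOn hSN ⟨(x : Ω), hPS x.2⟩)⁻¹ * (h : MulAut P)⁻¹ =
            conjOn hSN ⟨(x : Ω), hPS x.2⟩ *
              ((h : MulAut P) * conjOn hSN ⟨(x : Ω), hPS x.2⟩ * (h : MulAut P)⁻¹)⁻¹ := by group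
        rw [e1, conj_conjOn hSN hPS (h : MulAut P) x, ← map_inv, ← map_mul,
          mem_autInducedBy_iff_conjOn hSN le_rfl]
        exact ⟨_, Subtype.property _, rfl⟩
      have hdisj : Disjoint HA ((autInducedBy S P).subgroupOf A) := by
        apply Subgroup.disjoint_of_coprime_natCard
        obtain ⟨R, hR⟩ := hSyl
        obtain ⟨n, hn⟩ := IsPGroup.iff_card.mp
          (hR ▸ R.isPGroup' : IsPGroup p ((autInducedBy S P).subgroupOf A))
        rw [hn]; exact Nat.Coprime.pow_right n hHcop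
      have hd := (Subgroup.disjoint_def.mp hdisj) hd1 hd2
      have e2 : conjOn hSN ⟨(x : Ω), hPS x.2⟩ * (h : MulAut P) *
          (conjOn hSN ⟨(x : Ω), hPS x.2⟩)⁻¹ * (h : MulAut P)⁻¹ = 1 := congrArg Subtype.val hd
      have hd' : conjOn hSN ⟨(x : Ω), hPS x.2⟩ * (h : MulAut P) =
          (h : MulAut P) * conjOn hSN ⟨(x : Ω), hPS x.2⟩ := by
        calc conjOn hSN ⟨(x : Ω), hPS x.2⟩ * (h : MulAut P)
            = (conjOn hSN ⟨(x : Ω), hPS x.2⟩ * (h : MulAut P) *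
                (conjOn hSN ⟨(x : Ω), hPS x.2⟩)⁻¹ * (h : MulAut P)⁻¹) *
                ((h : MulAut P) * conjOn hSN ⟨(x : Ω), hPS x.2⟩) := by group
          _ = (h : MulAut P) * conjOn hSN ⟨(x : Ω), hPS x.2⟩ := by rw [e2, one_mul]
      rw [Subgroup.mem_center_iff]
      intro g
      obtain ⟨y, rfl⟩ := (h : MulAut P).surjective g
      have e3 : conjOn hSN ⟨(x : Ω), hPS x.2⟩ ((h : MulAut P) y) =
          (h : MulAut P) (conjOn hSN ⟨(x : Ω), hPS x.2⟩ y) := by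
        have := congrArg (fun f : MulAut P => f y) hd'
        exact this
      have l : conjOn hSN ⟨(x : Ω), hPS x.2⟩ ((h : MulAut P) y) = x * (h : MulAut P) y * x⁻¹ :=
        Subtype.ext rfl
      have r0 : conjOn hSN ⟨(x : Ω), hPS x.2⟩ y = x * y * x⁻¹ := Subtype.ext rfl
      rw [l, r0, map_mul, map_mul, map_inv] at e3
      calc (h : MulAut P) y * (x⁻¹ * (h : MulAut P) x)
          = x⁻¹ * (x * (h : MulAut P) y * x⁻¹) * (h : MulAut P) x := by group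
        _ = x⁻¹ * ((h : MulAut P) x * (h : MulAut P) y * ((h : MulAut P) x)⁻¹) *
              (h : MulAut P) x := by rw [e3]
        _ = (x⁻¹ * (h : MulAut P) x) * (h : MulAut P) y := by group
    · rintro _ ⟨h, hh, rfl⟩ x
      obtain ⟨s₀, hs₀S, hs₀P⟩ := SetLike.not_le_iff_exists.mp hPne
      let f : HA → HA := fun k =>
        ⟨(k : A)⁻¹ * ((⟨conjOn hSN ⟨s₀, hs₀S⟩, hcA _⟩ : A) * (k : A) *
          (⟨conjOn hSN ⟨s₀, hs₀S⟩, hcA _⟩ : A)⁻¹),
          HA.mul_mem (HA.inv_mem k.2) (hHn.conj_mem _ k.2 _)⟩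
      have hf : Function.Injective f := by
        intro k₁ k₂ h12
        have e1 : (k₁ : A)⁻¹ * ((⟨conjOn hSN ⟨s₀, hs₀S⟩, hcA _⟩ : A) * (k₁ : A) *
            (⟨conjOn hSN ⟨s₀, hs₀S⟩, hcA _⟩ : A)⁻¹) =
            (k₂ : A)⁻¹ * ((⟨conjOn hSN ⟨s₀, hs₀S⟩, hcA _⟩ : A) * (k₂ : A) *
            (⟨conjOn hSN ⟨s₀, hs₀S⟩, hcA _⟩ : A)⁻¹) := congrArg Subtype.val h12
        have e2 : ((k₂ : A) * (k₁ : A)⁻¹) * (⟨conjOn hSN ⟨s₀, hs₀S⟩, hcA _⟩ : A) =
            (⟨conjOn hSN ⟨s₀, hs₀S⟩, hcA _⟩ : A) * ((k₂ : A) * (k₁ : A)⁻¹) := by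
          calc ((k₂ : A) * (k₁ : A)⁻¹) * (⟨conjOn hSN ⟨s₀, hs₀S⟩, hcA _⟩ : A)
              = (k₂ : A) * ((k₁ : A)⁻¹ * ((⟨conjOn hSN ⟨s₀, hs₀S⟩, hcA _⟩ : A) * (k₁ : A) *
                  (⟨conjOn hSN ⟨s₀, hs₀S⟩, hcA _⟩ : A)⁻¹)) *
                  (⟨conjOn hSN ⟨s₀, hs₀S⟩, hcA _⟩ : A) * (k₁ : A)⁻¹ := by group
            _ = (k₂ : A) * ((k₂ : A)⁻¹ * ((⟨conjOn hSN ⟨s₀, hs₀S⟩, hcA _⟩ : A) * (k₂ : A) *
                  (⟨conjOn hSN ⟨s₀, hs₀S⟩, hcA _⟩ : A)⁻¹)) *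
                  (⟨conjOn hSN ⟨s₀, hs₀S⟩, hcA _⟩ : A) * (k₁ : A)⁻¹ := by rw [e1]
            _ = (⟨conjOn hSN ⟨s₀, hs₀S⟩, hcA _⟩ : A) * ((k₂ : A) * (k₁ : A)⁻¹) := by group
        have e3 : conjOn hSN ⟨s₀, hs₀S⟩ * (((k₂ : A) * (k₁ : A)⁻¹ : A) : MulAut P) =
            (((k₂ : A) * (k₁ : A)⁻¹ : A) : MulAut P) * conjOn hSN ⟨s₀, hs₀S⟩ :=
          (congrArg Subtype.val e2).symm
        have e4 := hfree ⟨s₀, hs₀S⟩ hs₀P _ (HA.mul_mem k₂.2 (HA.inv_mem k₁.2)) e3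
        apply Subtype.ext
        have e5 : (k₂ : A) = ((k₂ : A) * (k₁ : A)⁻¹) * (k₁ : A) := by group
        rw [e5, e4, one_mul]
      have hfs : Function.Surjective f := Finite.surjective_of_injective hf
      obtain ⟨k, hk⟩ := hfs ⟨h, hh⟩
      have hk' : (h : MulAut P) = ((k : A) : MulAut P)⁻¹ *
          (conjOn hSN ⟨s₀, hs₀S⟩ * ((k : A) : MulAut P) * (conjOn hSN ⟨s₀, hs₀S⟩)⁻¹) :=
        (congrArg (fun t : HA => ((t : A) : MulAut P)) hk).symm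
      have hσQ : ∀ y : P, ((y⁻¹ * conjOn hSN ⟨s₀, hs₀S⟩ y : P) : Ω) ∈ Q := by
        intro y
        show (y : Ω)⁻¹ * (s₀ * (y : Ω) * s₀⁻¹) ∈ Q
        have h7 := hcomm (y : Ω)⁻¹ (S.inv_mem (hPS y.2)) s₀ hs₀S
        rw [inv_inv] at h7
        have h8 : (y : Ω)⁻¹ * (s₀ * (y : Ω) * s₀⁻¹) = (y : Ω)⁻¹ * s₀ * (y : Ω) * s₀⁻¹ := by group
        rw [h8]; exact h7
      have hkQ : ∀ y : P, (y : Ω) ∈ Q → ((((k : A) : MulAut P)⁻¹ y : P) : Ω) ∈ Q := by
        intro y hy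
        exact hQinv _ (A.inv_mem (k : A).2) y hy
      have hxQ : ((x⁻¹ * (h : MulAut P) x : P) : Ω) ∈ Q := by
        have e5 : x⁻¹ * (h : MulAut P) x =
            (((conjOn hSN ⟨s₀, hs₀S⟩)⁻¹ x)⁻¹ *
              conjOn hSN ⟨s₀, hs₀S⟩ ((conjOn hSN ⟨s₀, hs₀S⟩)⁻¹ x))⁻¹ *
            (((k : A) : MulAut P)⁻¹
              ((((k : A) : MulAut P) ((conjOn hSN ⟨s₀, hs₀S⟩)⁻¹ x))⁻¹ *
                conjOn hSN ⟨s₀, hs₀S⟩ (((k : A) : MulAut P) ((conjOn hSN ⟨s₀, hs₀S⟩)⁻¹ x)))) := by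
          rw [hk', MulAut.mul_apply, MulAut.mul_apply, MulAut.mul_apply, map_mul, map_inv,
            MulAut.inv_apply_self, MulAut.apply_inv_self]
          group
        rw [e5]
        exact Q.mul_mem (Q.inv_mem (hσQ _)) (hkQ _ (hσQ _))
      obtain ⟨y, hy, hyx⟩ := hQΦ hxQ
      have h9 : y = (((Subgroup.subgroupOfEquivOfLe hPS).symm (x⁻¹ * (h : MulAut P) x) :
          P.subgroupOf S) : S) := Subtype.ext hyx
      show (((Subgroup.subgroupOfEquivOfLe hPS).symm (x⁻¹ * (h : MulAut P) x) :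
          P.subgroupOf S) : S) ∈ frattini ↥S
      rw [← h9]; exact hy
  rw [eq_bot_iff]
  intro h hh
  have h10 : (h : MulAut P) ∈ HA.map A.subtype := ⟨h, hh, rfl⟩
  rw [key, Subgroup.mem_bot] at h10
  rw [Subgroup.mem_bot]; exact Subtype.ext h10

end Cfsg.Agent.Helper8
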