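import Cfsg.Agent.Helper8.FusionSat2
import Cfsg.Agent.Helper8.FusionNorm
import Cfsg.Agent.Helper8.FusionChain
import Cfsg.Agent.Helper8.GroupTateLocal

set_option autoImplicit false

namespace Cfsg.Agent.Helper8

open Cfsg

variable {Ω : Type*} [Group Ω] {S : Subgroup Ω}

/-- Powers of an automorphism restrict compatibly. -/
theorem pow_eq_one_of_extend {P R : Subgroup Ω} (hPR : P ≤ R) (α : MulAut P) (β : MulAut R)
    (h : ∀ x : P, ((β ⟨x, hPR x.2⟩ : R) : Ω) = ((α x : P) : Ω)) (k : ℕ) (hk : β ^ k = 1) :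
    α ^ k = 1 := by
  have hpow : ∀ m : ℕ, ∀ x : P, (((β ^ m) ⟨x, hPR x.2⟩ : R) : Ω) = (((α ^ m) x : P) : Ω) := by
    intro m
    induction m with
    | zero => intro x; rfl
    | succ m ih =>
      intro x
      rw [pow_succ, pow_succ, MulAut.mul_apply, MulAut.mul_apply]
      have h1 : β ⟨x, hPR x.2⟩ = ⟨((α x : P) : Ω), hPR (α x).2⟩ := Subtype.ext (h x)
      rw [h1]
      exact ih (α x)
  apply MulEquiv.ext
  intro x
  apply Subtype.ext
  rw [← hpow, hk]
  rfl

/-- If every automorphism of `P` in the system extends to an automorphism of `R` in the system,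
and `Aut(R)` is a `p`-group, so is `Aut(P)`. -/
theorem isPGroup_autGroup_of_extend (p : ℕ) (N : FusionSystem S) {P R : Subgroup Ω}
    (hPR : P ≤ R) (hR : IsPGroup p (N.autGroup R))
    (hext : ∀ α ∈ N.autGroup P, ∃ β ∈ N.autGroup R,
      ∀ x : P, ((β ⟨x, hPR x.2⟩ : R) : Ω) = ((α x : P) : Ω)) :
    IsPGroup p (N.autGroup P) := by
  rintro ⟨α, hα⟩
  obtain ⟨β, hβ, hβα⟩ := hext α hα
  obtain ⟨k, hk⟩ := hR ⟨β, hβ⟩
  have hk' : β ^ (p ^ k) = 1 := congrArg Subtype.val hk
  exact ⟨k, Subtype.ext (pow_eq_one_of_extend hPR α β hβα _ hk')⟩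

/-- A map of the system from `R` into `R` is an automorphism of `R` in the system. -/
theorem exists_aut_of_hom_range_le [Finite S] (N : FusionSystem S) {R : Subgroup Ω} {ψ : R →* Ω}
    (hψ : ψ ∈ N.Hom R) (hr : ∀ y : R, ψ y ∈ R) :
    ∃ β ∈ N.autGroup R, ∀ y : R, ((β y : R) : Ω) = ψ y := by
  have hRS : R ≤ S := hom_le N hψ
  have : Finite R := finite_of_le_finite hRS
  have hinj := N.injective_of_mem hψ
  have hrange : ψ.range = R := by
    apply Subgroup.eq_of_le_of_card_ge
    · rintro _ ⟨y, rfl⟩
      exact hr y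
    · exact (Nat.card_congr (MonoidHom.ofInjective hinj).toEquiv).le
  exact ⟨equivOfRange ψ hinj hrange,
    (mem_autGroup_iff N hRS _).mpr (isIso_equivOfRange N hψ hrange),
    fun y => equivOfRange_apply ψ hinj hrange y⟩

/-- **Local Tate theorem for fusion systems.** Let `N` be a saturated fusion system over `S` with
a normal subgroup `Q` such that `[S,S] ≤ Q ≤ Φ(S)`, and suppose `Aut_N(S)` is a `p`-group. Then
all automorphism groups of `N` are `p`-groups. -/
theorem autGroups_pGroups_of_tate [Finite S] (p : ℕ) [Fact p.Prime] (hS : IsPGroup p S)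
    (N : FusionSystem S) (hN : N.IsSaturated p) (Q : Subgroup Ω) (hQ : N.IsNormal Q)
    (hcomm : ∀ s ∈ S, ∀ t ∈ S, s * t * s⁻¹ * t⁻¹ ∈ Q)
    (hQΦ : Q ≤ (frattini ↥S).map S.subtype)
    (hAutS : IsPGroup p (N.autGroup S)) :
    ∀ P : Subgroup Ω, P ≤ S → IsPGroup p (N.autGroup P) := by
  have key : ∀ n : ℕ, ∀ P : Subgroup Ω, P ≤ S → Nat.card S - Nat.card P = n →
      IsPGroup p (N.autGroup P) := by
    intro n
    induction n using Nat.strong_induction_on with
    | _ n ih =>
      intro P hPS hn
      have ih' : ∀ R : Subgroup Ω, R ≤ S → P ≤ R → ¬ R ≤ P → IsPGroup p (N.autGroup R) := by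
        intro R hRS hPR hRP
        have : Finite R := finite_of_le_finite hRS
        have hlt : Nat.card P < Nat.card R := by
          by_contra hle
          exact hRP (Subgroup.eq_of_le_of_card_ge hPR (not_lt.mp hle)).ge
        have hle : Nat.card R ≤ Nat.card S := Subgroup.card_le_of_le hRS
        exact ih (Nat.card S - Nat.card R) (by omega) R hRS rfl
      by_cases hSP : S ≤ P
      · rw [le_antisymm hPS hSP]; exact hAutS
      by_cases hQP : Q ≤ P
      swap
      · apply isPGroup_autGroup_of_extend p N (le_sup_left : P ≤ P ⊔ Q)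
          (ih' (P ⊔ Q) (sup_le hPS hQ.1) le_sup_left (fun h => hQP (le_sup_right.trans h)))
        intro α hα
        have hφ : P.subtype.comp α.toMonoidHom ∈ N.Hom P :=
          (isIso_iff N α (fun x => rfl)).mp ((mem_autGroup_iff N hPS α).mp hα)
        obtain ⟨ψ, hψ, hψP, hψQ⟩ := hQ.2 P _ hφ
        obtain ⟨β, hβ, hβψ⟩ := exists_aut_of_hom_range_le N hψ (by
          apply sup_induction_map ψ
          · intro x hx
            have h0 := hψP ⟨x, hx⟩
            have h1 : Subgroup.inclusion le_sup_left (⟨(x : Ω), hx⟩ : P) = x := Subtype.ext rfl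
            rw [h1] at h0
            rw [h0]
            exact Subgroup.mem_sup_left (α ⟨x, hx⟩).2
          · intro x hx
            exact Subgroup.mem_sup_right (mem_of_map_eq hψQ hx))
        refine ⟨β, hβ, fun x => ?_⟩
        rw [hβψ]
        exact hψP x
      have hSN : S ≤ Subgroup.normalizer (P : Set Ω) := by
        intro s hs
        rw [Subgroup.mem_normalizer_iff]
        intro x
        constructor
        · intro hx
          have h1 := hcomm s hs x (hPS hx)
          have h2 : s * x * s⁻¹ = (s * x * s⁻¹ * x⁻¹) * x := by group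
          rw [h2]; exact P.mul_mem (hQP h1) hx
        · intro hx
          have h1 := hcomm s⁻¹ (S.inv_mem hs) (s * x * s⁻¹) (hPS hx)
          have h2 : x = (s⁻¹ * (s * x * s⁻¹) * s⁻¹⁻¹ * (s * x * s⁻¹)⁻¹) * (s * x * s⁻¹) := by group
          rw [h2]; exact P.mul_mem (hQP h1) hx
      have hPfn : N.IsFullyNormalized P := by
        refine ⟨hPS, fun P' _ => ?_⟩
        have h1 : FusionSystem.normalizerIn S P = S :=
          le_antisymm (normalizerIn_le_left S P) (fun s hs => ⟨hs, hSN hs⟩)
        rw [h1]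
        exact Subgroup.card_le_of_le (normalizerIn_le_left S P')
      have hprops := fullyNormalized_props p hS N hN hPfn
      have hrec := receptive_of_fullyCentralized p hS N hN hprops.1
      by_cases hcen : FusionSystem.centralizerIn S P ≤ P
      swap
      · apply isPGroup_autGroup_of_extend p N
          (le_sup_left : P ≤ P ⊔ FusionSystem.centralizerIn S P)
          (ih' _ (sup_le hPS (centralizerIn_le_left S P)) le_sup_left
            (fun h => hcen (le_sup_right.trans h)))
        intro α hα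
        have hφ : P.subtype.comp α.toMonoidHom ∈ N.Hom P :=
          (isIso_iff N α (fun x => rfl)).mp ((mem_autGroup_iff N hPS α).mp hα)
        obtain ⟨ψ, hψ, hψP⟩ := hrec.2 P _ hφ (range_of_isIso α)
        have hRext : P ⊔ FusionSystem.centralizerIn S P ≤
            FusionSystem.extender S P (P.subtype.comp α.toMonoidHom) :=
          sup_le (le_extender S P _ hPS (fun x => hPS (α x).2)) (centralizerIn_le_extender S P _)
        have hχ := restrict_mem N hψ hRext
        have hχP : ∀ (x : ↥(P ⊔ FusionSystem.centralizerIn S P)) (hx : (x : Ω) ∈ P),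
            (ψ.comp (Subgroup.inclusion hRext)) x = ((α ⟨x, hx⟩ : P) : Ω) := by
          intro x hx
          exact hψP (x : Ω) hx (hRext x.2)
        obtain ⟨β, hβ, hβχ⟩ := exists_aut_of_hom_range_le N hχ (by
          apply sup_induction_map
          · intro x hx
            rw [hχP x hx]
            exact Subgroup.mem_sup_left (α ⟨x, hx⟩).2
          · intro x hx
            apply Subgroup.mem_sup_right
            refine ⟨hom_mem N hχ x, ?_⟩
            show _ ∈ Subgroup.centralizer (P : Set Ω)
            rw [Subgroup.mem_centralizer_iff]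
            intro y hy
            -- y = α y₀ = χ y₀
            have hy0 : ((α (α⁻¹ ⟨y, hy⟩) : P) : Ω) = y := by
              rw [MulAut.apply_inv_self]
            have hy1 := hχP ⟨((α⁻¹ ⟨y, hy⟩ : P) : Ω), Subgroup.mem_sup_left (α⁻¹ ⟨y, hy⟩).2⟩
              (α⁻¹ ⟨y, hy⟩).2
            rw [hy0] at hy1
            rw [← hy1, ← map_mul, ← map_mul]
            congr 1
            apply Subtype.ext
            exact (Subgroup.mem_centralizer_iff.mp hx.2 _ (α⁻¹ ⟨y, hy⟩).2))
        refine ⟨β, hβ, fun x => ?_⟩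
        rw [hβχ]
        exact hχP ⟨(x : Ω), Subgroup.mem_sup_left x.2⟩ x.2
      apply isPGroup_of_tate_local hS hPS hSN hQP hcomm hQΦ hSP (N.autGroup P)
        (autInducedBy_le_autGroup N hPS) hprops.2.2 ?_ ?_
      · intro α hα x hx
        exact stronglyClosed_invariant N (stronglyClosed_of_normal N hQ) hPS hα x hx
      · intro R hPR hRS hRP β hβ hnorm
        have hRp := ih' R hRS hPR hRP
        have hφ : P.subtype.comp β.toMonoidHom ∈ N.Hom P :=
          (isIso_iff N β (fun x => rfl)).mp ((mem_autGroup_iff N hPS β).mp hβ)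
        obtain ⟨ψ, hψ, hψP⟩ := hrec.2 P _ hφ (range_of_isIso β)
        -- for each r ∈ R, a partner r'
        have hpartner : ∀ (r : Ω) (hr : r ∈ R), ∃ r' ∈ R, ∀ x : P,
            ((β (conjAut P r (hSN (hRS hr)) x) : P) : Ω) = r' * ((β x : P) : Ω) * r'⁻¹ := by
          intro r hr
          have h1 := hnorm _ (conjAut_mem_autInducedBy P hr (hSN (hRS hr)))
          obtain ⟨r', hr', h2⟩ := (mem_autInducedBy_iff R P _).mp h1
          refine ⟨r', hr', fun x => ?_⟩
          have h3 := h2 (β x)
          rw [MulAut.mul_apply, MulAut.mul_apply, MulAut.inv_apply_self] at h3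
          exact h3
        have hRext : R ≤ FusionSystem.extender S P (P.subtype.comp β.toMonoidHom) := by
          intro r hr
          obtain ⟨r', hr', h2⟩ := hpartner r hr
          exact mem_extender_of S P _ (hRS hr) (hSN (hRS hr)) (hRS hr') h2
        have hχ := restrict_mem N hψ hRext
        have hχP : ∀ (x : R) (hx : (x : Ω) ∈ P),
            (ψ.comp (Subgroup.inclusion hRext)) x = ((β ⟨x, hx⟩ : P) : Ω) := by
          intro x hx
          exact hψP (x : Ω) hx (hRext x.2)
        obtain ⟨β', hβ', hβχ⟩ := exists_aut_of_hom_range_le N hχ (by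
          intro x
          obtain ⟨r', hr', h2⟩ := hpartner (x : Ω) x.2
          -- r'⁻¹ * χ x ∈ C_S(P) ≤ P ≤ R
          have hc1 : r'⁻¹ * (ψ.comp (Subgroup.inclusion hRext)) x ∈
              FusionSystem.centralizerIn S P := by
            refine ⟨S.mul_mem (S.inv_mem (hRS hr')) (hom_mem N hχ x), ?_⟩
            show _ ∈ Subgroup.centralizer (P : Set Ω)
            rw [Subgroup.mem_centralizer_iff]
            intro y hy
            obtain ⟨y₀, hy₀⟩ : ∃ y₀ : P, ((β y₀ : P) : Ω) = y :=
              ⟨β⁻¹ ⟨y, hy⟩, by rw [MulAut.apply_inv_self]⟩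
            have hy1 : (ψ.comp (Subgroup.inclusion hRext)) ⟨(y₀ : Ω), hPR y₀.2⟩ = y := by
              rw [hχP ⟨(y₀ : Ω), hPR y₀.2⟩ y₀.2]
              exact hy₀
            have h4 : ((β (conjAut P (x : Ω) (hSN (hRS x.2)) y₀) : P) : Ω) = r' * y * r'⁻¹ := by
              rw [h2 y₀, hy₀]
            have h5 : (ψ.comp (Subgroup.inclusion hRext)) (x * ⟨(y₀ : Ω), hPR y₀.2⟩ * x⁻¹) =
                ((β (conjAut P (x : Ω) (hSN (hRS x.2)) y₀) : P) : Ω) :=
              hχP (x * ⟨(y₀ : Ω), hPR y₀.2⟩ * x⁻¹)
                (conjAut P (x : Ω) (hSN (hRS x.2)) y₀).2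
            -- χ(x) y χ(x)⁻¹ = r' y r'⁻¹
            have h3 : (ψ.comp (Subgroup.inclusion hRext)) x * y *
                ((ψ.comp (Subgroup.inclusion hRext)) x)⁻¹ = r' * y * r'⁻¹ := by
              calc (ψ.comp (Subgroup.inclusion hRext)) x * y *
                    ((ψ.comp (Subgroup.inclusion hRext)) x)⁻¹
                  = (ψ.comp (Subgroup.inclusion hRext)) x *
                      (ψ.comp (Subgroup.inclusion hRext)) ⟨(y₀ : Ω), hPR y₀.2⟩ *
                      ((ψ.comp (Subgroup.inclusion hRext)) x)⁻¹ := by rw [hy1]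
                _ = (ψ.comp (Subgroup.inclusion hRext)) (x * ⟨(y₀ : Ω), hPR y₀.2⟩ * x⁻¹) := by
                    rw [map_mul, map_mul, map_inv]
                _ = ((β (conjAut P (x : Ω) (hSN (hRS x.2)) y₀) : P) : Ω) := h5
                _ = r' * y * r'⁻¹ := h4
            calc y * (r'⁻¹ * (ψ.comp (Subgroup.inclusion hRext)) x)
                = r'⁻¹ * (r' * y * r'⁻¹) * (ψ.comp (Subgroup.inclusion hRext)) x := by group
              _ = r'⁻¹ * ((ψ.comp (Subgroup.inclusion hRext)) x * y *
                    ((ψ.comp (Subgroup.inclusion hRext)) x)⁻¹) *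
                    (ψ.comp (Subgroup.inclusion hRext)) x := by rw [h3]
              _ = r'⁻¹ * (ψ.comp (Subgroup.inclusion hRext)) x * y := by group
          have hc2 : (ψ.comp (Subgroup.inclusion hRext)) x =
              r' * (r'⁻¹ * (ψ.comp (Subgroup.inclusion hRext)) x) := by group
          rw [hc2]
          exact R.mul_mem hr' (hPR (hcen hc1)))
        obtain ⟨k, hk⟩ := hRp ⟨β', hβ'⟩
        have hk' : β' ^ (p ^ k) = 1 := congrArg Subtype.val hk
        refine ⟨k, pow_eq_one_of_extend hPR β β' (fun x => ?_) _ hk'⟩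
        rw [hβχ]
        exact hχP ⟨(x : Ω), hPR x.2⟩ x.2
  intro P hPS
  exact key _ P hPS rfl

end Cfsg.Agent.Helper8
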