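import Mathlib

set_option autoImplicit false

namespace Cfsg.Agent.Helper8

theorem int_dvd_sub_one_of_pow {p : ℕ} (hp : p.Prime) (hodd : p ≠ 2) (m : ℕ) (r : ℤ)
    (h : (p : ℤ) ^ (m + 1) ∣ r ^ p - 1) : (p : ℤ) ^ m ∣ r - 1 ∧ (p : ℤ) ∣ r - 1 := by
  have hpodd : Odd p := hp.odd_of_ne_two hodd
  have h1 : (p : ℤ) ∣ r ^ p - 1 := Dvd.dvd.trans (dvd_pow_self _ (Nat.succ_ne_zero m)) h
  have h2 : (p : ℤ) ∣ r - 1 := by
    haveI : Fact p.Prime := ⟨hp⟩
    have h3 : ((r ^ p - 1 : ℤ) : ZMod p) = 0 := (ZMod.intCast_zmod_eq_zero_iff_dvd _ _).mpr h1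
    have h4 : ((r - 1 : ℤ) : ZMod p) = 0 := by
      push_cast at h3 ⊢
      rw [ZMod.pow_card] at h3
      exact h3
    exact (ZMod.intCast_zmod_eq_zero_iff_dvd _ _).mp h4
  have h5 : ¬ (p : ℤ) ∣ r := by
    intro h6
    have h7 : (p : ℤ) ∣ 1 := by
      have h8 := dvd_sub h6 h2
      simpa using h8
    have h9 : p ∣ 1 := by exact_mod_cast h7
    exact hp.one_lt.ne' (Nat.dvd_one.mp h9)
  refine ⟨?_, h2⟩
  have h8 := Int.emultiplicity_pow_sub_pow hp hpodd (x := r) (y := 1) (by simpa using h2) h5 p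
  rw [one_pow, hp.emultiplicity_self] at h8
  have h9 : ((m + 1 : ℕ) : ℕ∞) ≤ emultiplicity (p : ℤ) (r ^ p - 1) :=
    pow_dvd_iff_le_emultiplicity.mp h
  rw [h8] at h9
  apply pow_dvd_iff_le_emultiplicity.mpr
  push_cast at h9
  exact (ENat.add_le_add_iff_right ENat.one_ne_top).mp h9

theorem cyc_pow {G : Type*} [Group G] {p : ℕ} (hp : p.Prime) (a : G) (n : ℕ)
    (ha : orderOf a = p ^ n) (k l : ℤ) (hk : (a ^ k) ^ p = 1) (hl : (a ^ l) ^ p = 1)
    (hl1 : a ^ l ≠ 1) : ∃ s : ℤ, a ^ k = (a ^ l) ^ s := by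
  have hpz : (p : ℤ) ≠ 0 := by exact_mod_cast hp.ne_zero
  cases n with
  | zero =>
    exfalso
    rw [pow_zero, orderOf_eq_one_iff] at ha
    rw [ha, one_zpow] at hl1
    exact hl1 rfl
  | succ m =>
    have h1 : ∀ j : ℤ, (a ^ j) ^ p = 1 → (p : ℤ) ^ m ∣ j := by
      intro j hj
      rw [← zpow_natCast, ← zpow_mul, ← orderOf_dvd_iff_zpow_eq_one, ha] at hj
      push_cast at hj
      rw [pow_succ] at hj
      exact Int.dvd_of_mul_dvd_mul_right hpz hj
    obtain ⟨k', rfl⟩ := h1 k hk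
    obtain ⟨l', rfl⟩ := h1 l hl
    have h2 : ¬ (p : ℤ) ∣ l' := by
      rintro ⟨c, rfl⟩
      apply hl1
      rw [← orderOf_dvd_iff_zpow_eq_one, ha]
      push_cast
      exact ⟨c, by ring⟩
    have h3 : IsCoprime (p : ℤ) l' :=
      (Prime.coprime_iff_not_dvd (Nat.prime_iff_prime_int.mp hp)).mpr h2
    obtain ⟨t, s, hts⟩ := h3
    refine ⟨s * k', ?_⟩
    rw [← zpow_mul, zpow_eq_zpow_iff_modEq, ha, Int.modEq_iff_dvd]
    push_cast
    refine ⟨-(k' * t), ?_⟩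
    have h4 : k' = k' * (t * p + s * l') := by rw [hts, mul_one]
    calc (p : ℤ) ^ m * l' * (s * k') - (p : ℤ) ^ m * k'
        = (p : ℤ) ^ m * l' * (s * k') - (p : ℤ) ^ m * (k' * (t * p + s * l')) := by rw [← h4]
      _ = (p : ℤ) ^ (m + 1) * -(k' * t) := by ring

theorem exists_gen_of_isCyclic {G : Type*} [Group G] (N : Subgroup G) (hN : IsCyclic N) :
    ∃ a ∈ N, ∀ u ∈ N, ∃ k : ℤ, u = a ^ k := by
  obtain ⟨g, hg⟩ := IsCyclic.exists_generator (α := N)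
  refine ⟨g, g.2, fun u hu => ?_⟩
  obtain ⟨k, hk⟩ := Subgroup.mem_zpowers_iff.mp (hg ⟨u, hu⟩)
  refine ⟨k, ?_⟩
  rw [← Subgroup.coe_zpow, hk]

section

variable {P : Type*} [Group P] [Finite P] {p : ℕ} [Fact p.Prime]

theorem meta_act (hp2 : p ≠ 2) (hP : IsPGroup p P) (N : Subgroup P) [N.Normal] (hN : IsCyclic N)
    {x : P} (hx : x ^ p = 1) {u : P} (hu : u ∈ N) :
    (x * u * x⁻¹ * u⁻¹) ^ p = 1 ∧ (u ^ p = 1 → x * u * x⁻¹ = u) := by
  have hp := (Fact.out : p.Prime)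
  have hpz : (p : ℤ) ≠ 0 := by exact_mod_cast hp.ne_zero
  obtain ⟨a, haN, hgen⟩ := exists_gen_of_isCyclic N hN
  obtain ⟨n, hn⟩ := (IsPGroup.iff_orderOf.mp hP) a
  obtain ⟨r, hr⟩ := hgen (x * a * x⁻¹) (Subgroup.Normal.conj_mem inferInstance a haN x)
  have hpow : ∀ j : ℕ, x ^ j * a * (x ^ j)⁻¹ = a ^ (r ^ j) := by
    intro j
    induction j with
    | zero => simp
    | succ j ih =>
      have h1 : x ^ (j + 1) * a * (x ^ (j + 1))⁻¹ = x * (x ^ j * a * (x ^ j)⁻¹) * x⁻¹ := by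
        rw [pow_succ']
        group
      rw [h1, ih, ← conj_zpow, hr, ← zpow_mul, pow_succ']
  have h1 : a ^ (r ^ p) = a := by
    have h0 := hpow p
    rw [hx] at h0
    simpa using h0.symm
  have h2 : ((p : ℤ) ^ n) ∣ r ^ p - 1 := by
    have h3 : a ^ (r ^ p - 1) = 1 := by
      rw [zpow_sub, zpow_one, h1, mul_inv_cancel]
    have h4 := orderOf_dvd_iff_zpow_eq_one.mpr h3
    rw [hn] at h4
    exact_mod_cast h4
  obtain ⟨k, rfl⟩ := hgen u hu
  have hconj : x * a ^ k * x⁻¹ = a ^ (r * k) := by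
    rw [← conj_zpow, hr, ← zpow_mul]
  cases n with
  | zero =>
    rw [pow_zero, orderOf_eq_one_iff] at hn
    subst hn
    simp
  | succ m =>
    obtain ⟨h3, h4⟩ := int_dvd_sub_one_of_pow hp hp2 m r h2
    constructor
    · rw [hconj, ← zpow_neg, ← zpow_add, ← zpow_natCast, ← zpow_mul,
        ← orderOf_dvd_iff_zpow_eq_one, hn]
      push_cast
      obtain ⟨c, hc⟩ := h3
      refine ⟨c * k, ?_⟩
      have h5 : r * k + -k = (r - 1) * k := by ring
      rw [h5, hc]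
      ring
    · intro hu1
      rw [hconj, zpow_eq_zpow_iff_modEq, hn, Int.modEq_iff_dvd]
      push_cast
      have h5 : (p : ℤ) ^ m ∣ k := by
        rw [← zpow_natCast, ← zpow_mul, ← orderOf_dvd_iff_zpow_eq_one, hn] at hu1
        push_cast at hu1
        rw [pow_succ] at hu1
        exact Int.dvd_of_mul_dvd_mul_right hpz hu1
      obtain ⟨c, hc⟩ := h5
      obtain ⟨d, hd⟩ := h4
      refine ⟨-(c * d), ?_⟩
      have h6 : k - r * k = -((r - 1) * k) := by ring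
      rw [h6, hd, hc]
      ring

theorem meta_pow (hp2 : p ≠ 2) (hP : IsPGroup p P) (N : Subgroup P) [N.Normal] (hN : IsCyclic N)
    {x : P} (hx : x ^ p = 1) {u : P} (hu : u ∈ N) (hxu : (x * u) ^ p = 1) : u ^ p = 1 := by
  have hp := (Fact.out : p.Prime)
  obtain ⟨a, haN, hgen⟩ := exists_gen_of_isCyclic N hN
  have hcommN : ∀ v ∈ N, ∀ w ∈ N, v * w = w * v := by
    intro v hv w hw
    obtain ⟨i, rfl⟩ := hgen v hv
    obtain ⟨j, rfl⟩ := hgen w hw
    exact (Commute.zpow_zpow_self a i j).eq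
  set z := x * u * x⁻¹ * u⁻¹ with hz
  have hzN : z ∈ N :=
    N.mul_mem (Subgroup.Normal.conj_mem inferInstance u hu x) (N.inv_mem hu)
  have hzp : z ^ p = 1 := (meta_act hp2 hP N hN hx hu).1
  have hxz : x * z * x⁻¹ = z := (meta_act hp2 hP N hN hx hzN).2 hzp
  have hxu' : x * u * x⁻¹ = u * z := by
    rw [hcommN u hu z hzN, hz]
    group
  have hconj : ∀ i : ℕ, x ^ i * u * (x ^ i)⁻¹ = u * z ^ i := by
    intro i
    induction i with
    | zero => simp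
    | succ i ih =>
      have h1 : x ^ (i + 1) * u * (x ^ (i + 1))⁻¹ = x * (x ^ i * u * (x ^ i)⁻¹) * x⁻¹ := by
        rw [pow_succ']
        group
      have h2 : x * (u * z ^ i) * x⁻¹ = (x * u * x⁻¹) * (x * z * x⁻¹) ^ i := by
        rw [conj_pow]
        group
      rw [h1, ih, h2, hxu', hxz, mul_assoc, ← pow_succ']
  have hpw : ∀ i : ℕ, ∃ t : ℕ, 2 * t = i * (i + 1) ∧ (x * u) ^ i = u ^ i * z ^ t * x ^ i := by
    intro i
    induction i with
    | zero => exact ⟨0, by simp⟩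
    | succ i ih =>
      obtain ⟨t, ht, h⟩ := ih
      refine ⟨t + (i + 1), by rw [mul_add, ht]; ring, ?_⟩
      have h3 : x ^ (i + 1) * u = u * z ^ (i + 1) * x ^ (i + 1) := by
        rw [← hconj (i + 1)]
        group
      have hzi : ∀ j : ℕ, z ^ j ∈ N := fun j => N.pow_mem hzN j
      calc (x * u) ^ (i + 1) = (x * u) ^ i * (x * u) := pow_succ _ _
        _ = u ^ i * z ^ t * (x ^ (i + 1) * u) := by rw [h, pow_succ x i]; group
        _ = u ^ i * z ^ t * (u * z ^ (i + 1) * x ^ (i + 1)) := by rw [h3]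
        _ = u ^ i * (z ^ t * u) * z ^ (i + 1) * x ^ (i + 1) := by group
        _ = u ^ i * (u * z ^ t) * z ^ (i + 1) * x ^ (i + 1) := by
          rw [hcommN (z ^ t) (hzi t) u hu]
        _ = u ^ (i + 1) * z ^ (t + (i + 1)) * x ^ (i + 1) := by
          rw [pow_succ u i, pow_add z t (i + 1)]; group
  obtain ⟨t, ht, h⟩ := hpw p
  have hpt : p ∣ t := by
    have h1 : p ∣ 2 * t := by rw [ht]; exact dvd_mul_right p _
    exact ((Nat.Prime.dvd_mul hp).mp h1).resolve_left (fun h2 =>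
      hp2 ((Nat.prime_dvd_prime_iff_eq hp Nat.prime_two).mp h2))
  obtain ⟨c, rfl⟩ := hpt
  rw [hxu, hx, pow_mul, hzp, one_pow, mul_one, mul_one] at h
  exact h.symm

theorem metacyclic_structure (hp2 : p ≠ 2) (hP : IsPGroup p P) (N : Subgroup P) [N.Normal]
    (hN : IsCyclic N) (hQ : IsCyclic (P ⧸ N)) :
    ∃ Z : Subgroup P, (∀ z ∈ Z, ∀ g : P, g * z = z * g) ∧ (∀ z ∈ Z, z ^ p = 1) ∧
      (∀ u ∈ Z, ∀ w ∈ Z, w ≠ 1 → ∃ s : ℤ, u = w ^ s) ∧
      (∀ x y : P, x ^ p = 1 → y ^ p = 1 → x * y = y * x) ∧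
      (∀ x g : P, x ^ p = 1 → x * g * x⁻¹ * g⁻¹ ∈ Z) ∧
      (∀ e : P, e ^ p = 1 → e ∉ Z → ∀ v : P, v ^ p = 1 → ∃ t : ℤ, ∃ u ∈ Z, v = e ^ t * u) := by
  have hp := (Fact.out : p.Prime)
  obtain ⟨a, haN, hgen⟩ := exists_gen_of_isCyclic N hN
  obtain ⟨n, hn⟩ := (IsPGroup.iff_orderOf.mp hP) a
  have hcommN : ∀ v ∈ N, ∀ w ∈ N, v * w = w * v := by
    intro v hv w hw
    obtain ⟨i, rfl⟩ := hgen v hv
    obtain ⟨j, rfl⟩ := hgen w hw
    exact (Commute.zpow_zpow_self a i j).eq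
  obtain ⟨c₀, hc₀⟩ := IsCyclic.exists_generator (α := P ⧸ N)
  obtain ⟨n', hn'⟩ := (IsPGroup.iff_orderOf.mp (hP.to_quotient N)) c₀
  have hU1 : ∀ e : P, e ^ p = 1 → e ∉ N → ∀ v : P, v ^ p = 1 →
      ∃ t : ℤ, ∃ u : P, (u ∈ N ∧ u ^ p = 1) ∧ v = e ^ t * u := by
    intro e he heN v hv
    obtain ⟨l, hl⟩ := Subgroup.mem_zpowers_iff.mp (hc₀ (e : P ⧸ N))
    obtain ⟨k, hk⟩ := Subgroup.mem_zpowers_iff.mp (hc₀ (v : P ⧸ N))
    have hl1 : c₀ ^ l ≠ 1 := by
      rw [hl]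
      intro h
      exact heN ((QuotientGroup.eq_one_iff e).mp h)
    have hlp : (c₀ ^ l) ^ p = 1 := by
      rw [hl, ← QuotientGroup.mk_pow, he, QuotientGroup.mk_one]
    have hkp : (c₀ ^ k) ^ p = 1 := by
      rw [hk, ← QuotientGroup.mk_pow, hv, QuotientGroup.mk_one]
    obtain ⟨s, hs⟩ := cyc_pow hp c₀ n' hn' k l hkp hlp hl1
    have huN : (e ^ s)⁻¹ * v ∈ N := by
      rw [← QuotientGroup.eq_one_iff, QuotientGroup.mk_mul, QuotientGroup.mk_inv,
        QuotientGroup.mk_zpow, ← hk, ← hl, hs, inv_mul_cancel]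
    have hes : (e ^ s) ^ p = 1 := by
      rw [← zpow_natCast, ← zpow_mul, mul_comm, zpow_mul, zpow_natCast, he, one_zpow]
    have hup := meta_pow hp2 hP N hN hes huN (by rw [mul_inv_cancel_left]; exact hv)
    exact ⟨s, _, ⟨huN, hup⟩, by rw [mul_inv_cancel_left]⟩
  have hcomm : ∀ x y : P, x ^ p = 1 → y ^ p = 1 → x * y = y * x := by
    intro x y hx hy
    by_cases hxN : x ∈ N
    · have h1 := (meta_act hp2 hP N hN hy hxN).2 hx
      exact (mul_inv_eq_iff_eq_mul.mp h1).symm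
    · obtain ⟨t, u, ⟨huN, hup⟩, rfl⟩ := hU1 x hx hxN y hy
      have h1 := (meta_act hp2 hP N hN hx huN).2 hup
      have h2 : Commute x u := mul_inv_eq_iff_eq_mul.mp h1
      have h3 : Commute x (x ^ t) := (Commute.refl x).zpow_right t
      exact (h3.mul_right h2).eq
  have hZcyc : ∀ u : P, u ∈ N → u ^ p = 1 → ∀ w : P, w ∈ N → w ^ p = 1 → w ≠ 1 →
      ∃ s : ℤ, u = w ^ s := by
    intro u hu hup w hw hwp hw1
    obtain ⟨k, rfl⟩ := hgen u hu
    obtain ⟨l, rfl⟩ := hgen w hw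
    exact cyc_pow hp a n hn k l hup hwp hw1
  let Z : Subgroup P :=
    { carrier := {u | u ∈ N ∧ u ^ p = 1}
      mul_mem' := by
        rintro u v ⟨hu, hu1⟩ ⟨hv, hv1⟩
        refine ⟨N.mul_mem hu hv, ?_⟩
        rw [(show Commute u v from hcommN u hu v hv).mul_pow, hu1, hv1, one_mul]
      one_mem' := ⟨N.one_mem, one_pow _⟩
      inv_mem' := by
        rintro u ⟨hu, hu1⟩
        exact ⟨N.inv_mem hu, by rw [inv_pow, hu1, inv_one]⟩ }
  have hZ : ∀ u : P, u ∈ Z ↔ u ∈ N ∧ u ^ p = 1 := fun u => Iff.rfl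
  refine ⟨Z, ?_, fun z hz => ((hZ z).mp hz).2, ?_, hcomm, ?_, ?_⟩
  · intro z hz g
    obtain ⟨hzN, hzp⟩ := (hZ z).mp hz
    by_cases hz1 : z = 1
    · rw [hz1, mul_one, one_mul]
    have hgz : g * z * g⁻¹ ∈ N := Subgroup.Normal.conj_mem inferInstance z hzN g
    have hgzp : (g * z * g⁻¹) ^ p = 1 := by rw [conj_pow, hzp, mul_one, mul_inv_cancel]
    obtain ⟨r, hr⟩ := hZcyc _ hgz hgzp z hzN hzp hz1
    have hpow : ∀ j : ℕ, g ^ j * z * (g ^ j)⁻¹ = z ^ (r ^ j) := by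
      intro j
      induction j with
      | zero => simp
      | succ j ih =>
        have h1 : g ^ (j + 1) * z * (g ^ (j + 1))⁻¹ = g * (g ^ j * z * (g ^ j)⁻¹) * g⁻¹ := by
          rw [pow_succ']
          group
        rw [h1, ih, ← conj_zpow, hr, ← zpow_mul, pow_succ']
    obtain ⟨k, hk⟩ := (IsPGroup.iff_orderOf.mp hP) g
    have h1 : z ^ (r ^ (p ^ k)) = z := by
      have h0 := hpow (p ^ k)
      have hgk : g ^ (p ^ k) = 1 := by
        rw [← hk]
        exact pow_orderOf_eq_one g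
      rw [hgk] at h0
      simpa using h0.symm
    have hoz : orderOf z = p := orderOf_eq_prime hzp hz1
    have h2 : (p : ℤ) ∣ r ^ (p ^ k) - 1 := by
      have h3 : z ^ (r ^ (p ^ k) - 1) = 1 := by
        rw [zpow_sub, zpow_one, h1, mul_inv_cancel]
      have h4 := orderOf_dvd_iff_zpow_eq_one.mpr h3
      rw [hoz] at h4
      exact h4
    have h3 : (p : ℤ) ∣ r - 1 := by
      have h5 : ((r ^ (p ^ k) - 1 : ℤ) : ZMod p) = 0 :=
        (ZMod.intCast_zmod_eq_zero_iff_dvd _ _).mpr h2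
      have h6 : ((r - 1 : ℤ) : ZMod p) = 0 := by
        push_cast at h5 ⊢
        rw [ZMod.pow_card_pow] at h5
        exact h5
      exact (ZMod.intCast_zmod_eq_zero_iff_dvd _ _).mp h6
    have h4 : z ^ r = z := by
      have h5 : z ^ r = z ^ (1 : ℤ) := by
        rw [zpow_eq_zpow_iff_modEq, hoz, Int.modEq_iff_dvd]
        obtain ⟨c, hc⟩ := h3
        exact ⟨-c, by rw [mul_neg, ← hc]; ring⟩
      rw [h5, zpow_one]
    rw [h4] at hr
    exact mul_inv_eq_iff_eq_mul.mp hr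
  · intro u hu w hw hw1
    obtain ⟨huN, hup⟩ := (hZ u).mp hu
    obtain ⟨hwN, hwp⟩ := (hZ w).mp hw
    exact hZcyc u huN hup w hwN hwp hw1
  · intro x g hx
    rw [hZ]
    constructor
    · rw [← QuotientGroup.eq_one_iff]
      obtain ⟨l, hl⟩ := Subgroup.mem_zpowers_iff.mp (hc₀ (x : P ⧸ N))
      obtain ⟨k, hk⟩ := Subgroup.mem_zpowers_iff.mp (hc₀ (g : P ⧸ N))
      rw [QuotientGroup.mk_mul, QuotientGroup.mk_mul, QuotientGroup.mk_mul, QuotientGroup.mk_inv,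
        QuotientGroup.mk_inv, ← hl, ← hk, (Commute.zpow_zpow_self c₀ l k).eq]
      group
    · have h1 : x * g * x⁻¹ * g⁻¹ = x * (g * x⁻¹ * g⁻¹) := by group
      have h2 : (g * x⁻¹ * g⁻¹) ^ p = 1 := by
        rw [conj_pow, inv_pow, hx, inv_one, mul_one, mul_inv_cancel]
      rw [h1, (show Commute x (g * x⁻¹ * g⁻¹) from hcomm x _ hx h2).mul_pow, hx, h2, one_mul]
  · intro e he heZ v hv
    have heN : e ∉ N := fun h => heZ ((hZ e).mpr ⟨h, he⟩)
    obtain ⟨t, u, hu, hvu⟩ := hU1 e he heN v hv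
    exact ⟨t, u, (hZ u).mpr hu, hvu⟩

/-- An automorphism inverting all elements of order dividing `p` forces them to be central. -/
theorem central_of_inverting (hp2 : p ≠ 2) (hP : IsPGroup p P) (Z : Subgroup P)
    (hZc : ∀ z ∈ Z, ∀ g : P, g * z = z * g)
    (hcZ : ∀ x g : P, x ^ p = 1 → x * g * x⁻¹ * g⁻¹ ∈ Z) (hZp : ∀ z ∈ Z, z ^ p = 1)
    (θ : MulAut P) (hθ : ∀ v : P, v ^ p = 1 → θ v = v⁻¹) :
    ∀ v g : P, v ^ p = 1 → v * g = g * v := by
  classical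
  have hp := (Fact.out : p.Prime)
  by_contra hcon
  push_neg at hcon
  obtain ⟨v₀, g₀, hv₀, hne⟩ := hcon
  have hmemC : ∀ g : P, g ∈ Subgroup.centralizer {v : P | v ^ p = 1} ↔
      ∀ v : P, v ^ p = 1 → v * g = g * v := fun g => Subgroup.mem_centralizer_iff
  have claim1 : ∀ θ' : MulAut P, (∀ v : P, v ^ p = 1 → θ' v = v⁻¹) →
      ∀ g : P, g⁻¹ * θ' g ∈ Subgroup.centralizer {v : P | v ^ p = 1} := by
    intro θ' hθ' g
    rw [hmemC]
    intro v hv
    have hc := hcZ v g hv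
    have hcp := hZp _ hc
    have e1 : v⁻¹ * θ' g * v * (θ' g)⁻¹ = (v * g * v⁻¹ * g⁻¹)⁻¹ := by
      rw [← hθ' _ hcp, map_mul, map_mul, map_mul, map_inv, map_inv, hθ' v hv, inv_inv]
    have e3 := hZc _ (Z.inv_mem hc) v
    have e4 : θ' g * v = g * v * g⁻¹ * θ' g := by
      have e5 : θ' g * v = v * (v⁻¹ * θ' g * v * (θ' g)⁻¹) * θ' g := by group
      rw [e5, e1, e3]
      group
    calc v * (g⁻¹ * θ' g) = g⁻¹ * (g * v * g⁻¹ * θ' g) := by group
      _ = g⁻¹ * θ' g * v := by rw [← e4, mul_assoc]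
  -- the odd part of the order of θ
  have ho : orderOf θ ≠ 0 := (orderOf_pos θ).ne'
  obtain ⟨a, m, hm, hom⟩ := Nat.exists_eq_two_pow_mul_odd ho
  have hθm : ∀ v : P, v ^ p = 1 → (θ ^ m) v = v⁻¹ := by
    have key : ∀ j : ℕ, ∀ v : P, v ^ p = 1 → (θ ^ j) v = v ^ ((-1 : ℤ) ^ j) := by
      intro j
      induction j with
      | zero => intro v _; simp
      | succ j ih =>
        intro v hv
        rw [pow_succ, MulAut.mul_apply, hθ v hv, ih v⁻¹ (by rw [inv_pow, hv, inv_one]),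
          inv_zpow, ← zpow_neg, pow_succ]
        congr 1
        ring
    intro v hv
    rw [key m v hv, hm.neg_one_pow, zpow_neg, zpow_one]
  have hθm2 : (θ ^ m) ^ (2 ^ a) = 1 := by
    rw [← pow_mul, mul_comm, ← hom, pow_orderOf_eq_one]
  set C := Subgroup.centralizer {v : P | v ^ p = 1} with hC
  have hg₀ : g₀ ∉ C := fun h => hne ((hmemC g₀).mp h v₀ hv₀)
  let X := {h : P // g₀⁻¹ * h ∈ C}
  have hfX : ∀ h : X, g₀⁻¹ * (θ ^ m) h.1 ∈ C := by
    intro h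
    have h1 : g₀⁻¹ * (θ ^ m) h.1 = (g₀⁻¹ * h.1) * (h.1⁻¹ * (θ ^ m) h.1) := by group
    rw [h1]
    exact C.mul_mem h.2 (claim1 (θ ^ m) hθm h.1)
  let f : Function.End X := fun h => ⟨(θ ^ m) h.1, hfX h⟩
  have hfpow : ∀ k : ℕ, ∀ h : X, ((f ^ k) h).1 = ((θ ^ m) ^ k) h.1 := by
    intro k
    induction k with
    | zero => intro h; rfl
    | succ k ih =>
      intro h
      rw [pow_succ, pow_succ, MulAut.mul_apply]
      exact ih (f h)
  have hf : f ^ 2 ^ a = 1 := by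
    funext h
    apply Subtype.ext
    rw [hfpow, hθm2]
    rfl
  haveI : Fact (Nat.Prime 2) := ⟨Nat.prime_two⟩
  haveI : Fintype X := Fintype.ofFinite X
  have hcard := Equiv.Perm.card_fixedPoints_modEq (f := f) (p := 2) (n := a) hf
  have hXC : Fintype.card X = Nat.card C := by
    rw [Fintype.card_eq_nat_card]
    exact Nat.card_congr
      { toFun := fun h => ⟨g₀⁻¹ * h.1, h.2⟩
        invFun := fun c => ⟨g₀ * c.1, by rw [inv_mul_cancel_left]; exact c.2⟩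
        left_inv := fun h => Subtype.ext (mul_inv_cancel_left _ _)
        right_inv := fun c => Subtype.ext (inv_mul_cancel_left _ _) }
  obtain ⟨j, hj⟩ := (hP.to_subgroup C).exists_card_eq
  have hodd : Odd (Fintype.card X) := by
    rw [hXC, hj]
    exact (hp.odd_of_ne_two hp2).pow
  have hfix : Fintype.card (Function.fixedPoints f) ≠ 0 := by
    intro h0
    rw [h0] at hcard
    have h1 : Fintype.card X % 2 = 0 := hcard
    rw [Nat.odd_iff] at hodd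
    omega
  obtain ⟨⟨h, hfh⟩⟩ := Fintype.card_pos_iff.mp (Nat.pos_of_ne_zero hfix)
  have hθh : (θ ^ m) h.1 = h.1 := congrArg Subtype.val hfh
  have hhC : h.1 ∉ C := by
    intro hh
    apply hg₀
    have h1 : g₀ = h.1 * (g₀⁻¹ * h.1)⁻¹ := by group
    rw [h1]
    exact C.mul_mem hh (C.inv_mem h.2)
  have hh1 : h.1 ≠ 1 := fun h1 => hhC (h1 ▸ C.one_mem)
  obtain ⟨k, hk⟩ := (IsPGroup.iff_orderOf.mp hP) h.1
  cases k with
  | zero =>
    rw [pow_zero, orderOf_eq_one_iff] at hk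
    exact hh1 hk
  | succ k =>
    have h0p : (h.1 ^ p ^ k) ^ p = 1 := by
      rw [← pow_mul, ← pow_succ, ← hk, pow_orderOf_eq_one]
    have h01 : h.1 ^ p ^ k ≠ 1 := by
      apply pow_ne_one_of_lt_orderOf (pow_ne_zero k hp.ne_zero)
      rw [hk]
      exact Nat.pow_lt_pow_right hp.one_lt (Nat.lt_succ_self k)
    have h2 : (θ ^ m) (h.1 ^ p ^ k) = (h.1 ^ p ^ k)⁻¹ := hθm _ h0p
    rw [map_pow, hθh] at h2
    have h3 : (h.1 ^ p ^ k) ^ 2 = 1 := by
      rw [pow_two]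
      nth_rewrite 1 [h2]
      exact inv_mul_cancel _
    have h4 : orderOf (h.1 ^ p ^ k) = p := orderOf_eq_prime h0p h01
    have h5 : p ∣ 2 := by
      rw [← h4]
      exact orderOf_dvd_of_pow_eq_one h3
    exact hp2 ((Nat.prime_dvd_prime_iff_eq hp Nat.prime_two).mp h5)

end

theorem exists_nat_inv {p : ℕ} (hp : p.Prime) (a : ℤ) (ha : ¬ (p : ℤ) ∣ a) (c : ℤ) :
    ∃ i : ℕ, (p : ℤ) ∣ a * i - c := by
  have hpp := Nat.prime_iff_prime_int.mp hp
  have hpz : (p : ℤ) ≠ 0 := by exact_mod_cast hp.ne_zero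
  obtain ⟨u, v, huv⟩ := (Prime.coprime_iff_not_dvd hpp).mpr ha
  refine ⟨((v * c) % p).toNat, ?_⟩
  rw [Int.toNat_of_nonneg (Int.emod_nonneg _ hpz), Int.emod_def]
  refine ⟨-(c * u) - a * ((v * c) / p), ?_⟩
  have h1 : v * a = 1 - u * p := by linarith
  calc a * (v * c - ↑p * (v * c / ↑p)) - c = (v * a) * c - c - a * (↑p * (v * c / ↑p)) := by ring
    _ = ↑p * (-(c * u) - a * (v * c / ↑p)) := by rw [h1]; ring

/-- In a commutative setting generated by `e` and `z`, two "transvections" generate inversion. -/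
theorem inversion_word {V : Type*} [Group V] {p : ℕ} (hp : p.Prime)
    (hcomm : ∀ a b : V, a * b = b * a) (z e : V) (hz : z ^ p = 1) (he : e ^ p = 1)
    (hgen : ∀ v : V, ∃ m n : ℤ, v = e ^ m * z ^ n) (x y : MulAut V) (a s : ℤ)
    (ha : ¬ (p : ℤ) ∣ a) (hs : ¬ (p : ℤ) ∣ s) (hxz : x z = z) (hxe : x e = e * z ^ a)
    (hye : y e = e) (hyz : y z = z * e ^ s) :
    ∃ ι ∈ Subgroup.closure ({x, y} : Set (MulAut V)), ∀ v : V, ι v = v⁻¹ := by
  have hxmem : x ∈ Subgroup.closure ({x, y} : Set (MulAut V)) :=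
    Subgroup.subset_closure (Set.mem_insert x _)
  have hymem : y ∈ Subgroup.closure ({x, y} : Set (MulAut V)) :=
    Subgroup.subset_closure (Set.mem_insert_of_mem x rfl)
  obtain ⟨i, hi⟩ := exists_nat_inv hp a ha 1
  obtain ⟨j, hj⟩ := exists_nat_inv hp s hs (-1)
  have hzmod : ∀ m n : ℤ, (p : ℤ) ∣ m - n → z ^ m = z ^ n := by
    intro m n hmn
    obtain ⟨c, hc⟩ := hmn
    have h1 : m = n + p * c := by linarith
    rw [h1, zpow_add, zpow_mul, zpow_natCast, hz, one_zpow, mul_one]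
  have hemod : ∀ m n : ℤ, (p : ℤ) ∣ m - n → e ^ m = e ^ n := by
    intro m n hmn
    obtain ⟨c, hc⟩ := hmn
    have h1 : m = n + p * c := by linarith
    rw [h1, zpow_add, zpow_mul, zpow_natCast, he, one_zpow, mul_one]
  have hxpow : ∀ k : ℕ, (x ^ k) z = z ∧ (x ^ k) e = e * z ^ (a * k) := by
    intro k
    induction k with
    | zero => simp
    | succ k ih =>
      refine ⟨by rw [pow_succ, MulAut.mul_apply, hxz, ih.1], ?_⟩
      rw [pow_succ, MulAut.mul_apply, hxe, map_mul, map_zpow, ih.1, ih.2, mul_assoc,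
        ← zpow_add]
      congr 2
      push_cast
      ring
  have hypow : ∀ k : ℕ, (y ^ k) e = e ∧ (y ^ k) z = z * e ^ (s * k) := by
    intro k
    induction k with
    | zero => simp
    | succ k ih =>
      refine ⟨by rw [pow_succ, MulAut.mul_apply, hye, ih.1], ?_⟩
      rw [pow_succ, MulAut.mul_apply, hyz, map_mul, map_zpow, ih.1, ih.2, mul_assoc,
        ← zpow_add]
      congr 2
      push_cast
      ring
  have hXz : (x ^ i) z = z := (hxpow i).1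
  have hXe : (x ^ i) e = e * z := by
    rw [(hxpow i).2, hzmod _ 1 hi, zpow_one]
  have hYe : (y ^ j) e = e := (hypow j).1
  have hYz : (y ^ j) z = z * e⁻¹ := by
    rw [(hypow j).2, hemod _ (-1) (by simpa using hj), zpow_neg, zpow_one]
  have hwz : (x ^ i * y ^ j * x ^ i) z = e⁻¹ := by
    rw [MulAut.mul_apply, MulAut.mul_apply, hXz, hYz, map_mul, map_inv, hXz, hXe, mul_inv_rev,
      mul_inv_cancel_left]
  have hwe : (x ^ i * y ^ j * x ^ i) e = z := by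
    rw [MulAut.mul_apply, MulAut.mul_apply, hXe, map_mul, hYe, hYz, map_mul, map_mul, map_inv,
      hXe, hXz, hcomm z (e * z)⁻¹, ← mul_assoc, mul_inv_cancel, one_mul]
  refine ⟨(x ^ i * y ^ j * x ^ i) * (x ^ i * y ^ j * x ^ i), ?_, ?_⟩
  · have hw : x ^ i * y ^ j * x ^ i ∈ Subgroup.closure ({x, y} : Set (MulAut V)) :=
      mul_mem (mul_mem (pow_mem hxmem i) (pow_mem hymem j)) (pow_mem hxmem i)
    exact mul_mem hw hw
  · intro v
    obtain ⟨m, n, rfl⟩ := hgen v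
    rw [MulAut.mul_apply, map_mul, map_mul, map_zpow, map_zpow, map_zpow, map_zpow, hwz, hwe,
      map_inv, hwe, hwz, inv_zpow, inv_zpow, mul_inv_rev, hcomm]

end Cfsg.Agent.Helper8
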