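import Cfsg.Agent.Helper8.GroupHeis
import Cfsg.Agent.Helper8.GroupMetacyclic
import Cfsg.Agent.Helper8.GroupFusion

/-!
# Generalized extraspecial `p`-groups

Group theory for subgroups `P` whose Frattini subgroup equals the derived subgroup and has order
`p`: the commutator homomorphisms, complements in elementary abelian groups, the power formula in
class two, and the splitting `P ≅ Heis p × A` when an elementary abelian centralizer of index `p`
has an element of order `p` outside it.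
-/

set_option autoImplicit false

namespace Cfsg.Agent.Helper8

open scoped commutatorElement

variable {Ω : Type*} [Group Ω]

/-- A normal subgroup of prime order of a finite `p`-group is central. -/
theorem normal_prime_card_le_center {G : Type*} [Group G] [Finite G] {p : ℕ} [Fact p.Prime]
    (hG : IsPGroup p G) (N : Subgroup G) [N.Normal] (hN : Nat.card N = p) :
    N ≤ Subgroup.center G := by
  have hp := (Fact.out : p.Prime)
  have : IsCyclic N := isCyclic_of_prime_card hN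
  have hA : Nat.card (MulAut N) = p - 1 := by
    rw [IsCyclic.card_mulAut, hN, Nat.totient_prime hp]
  intro n hn
  rw [Subgroup.mem_center_iff]
  intro g
  have h1 : orderOf (MulAut.conjNormal g : MulAut N) ∣ p - 1 := by
    rw [← hA]
    exact orderOf_dvd_natCard _
  obtain ⟨k, hk⟩ := hG g
  have h2 : orderOf (MulAut.conjNormal g : MulAut N) ∣ p ^ k := by
    apply orderOf_dvd_of_pow_eq_one
    rw [← map_pow, hk, map_one]
  have hcop : Nat.Coprime (p ^ k) (p - 1) := by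
    apply Nat.Coprime.pow_left
    rw [Nat.Prime.coprime_iff_not_dvd hp]
    intro hd
    have h3 := Nat.le_of_dvd (by have := hp.two_le; omega) hd
    have := hp.two_le
    omega
  have h3 : orderOf (MulAut.conjNormal g : MulAut N) = 1 := by
    have h4 := Nat.dvd_gcd h2 h1
    rw [Nat.Coprime.gcd_eq_one hcop] at h4
    exact Nat.dvd_one.mp h4
  rw [orderOf_eq_one_iff] at h3
  have h5 : ((MulAut.conjNormal g : MulAut N) ⟨n, hn⟩ : G) = n := by
    rw [h3]
    rfl
  rw [MulAut.conjNormal_apply] at h5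
  have h6 : g * n = g * n * g⁻¹ * g := by group
  rw [h6, h5]

/-- The data of a generalized extraspecial subgroup `P` with derived subgroup `Z`. -/
structure GES (p : ℕ) (P Z : Subgroup Ω) : Prop where
  le : Z ≤ P
  card : Nat.card Z = p
  comm : ∀ a ∈ P, ∀ b ∈ P, a * b * a⁻¹ * b⁻¹ ∈ Z
  pow : ∀ a ∈ P, a ^ p ∈ Z
  central : ∀ z ∈ Z, ∀ g ∈ P, g * z = z * g
  nonab : ∃ a ∈ P, ∃ b ∈ P, a * b ≠ b * a

theorem ges_of_frattini {p : ℕ} [Fact p.Prime] {P : Subgroup Ω} [Finite P] (hP : IsPGroup p P)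
    (hge : frattini ↥P = commutator ↥P ∧ Nat.card ↥(commutator ↥P) = p) :
    GES p P ((commutator ↥P).map P.subtype) := by
  have hp := (Fact.out : p.Prime)
  have hcen := normal_prime_card_le_center hP (commutator ↥P) hge.2
  refine ⟨Subgroup.map_subtype_le _, ?_, ?_, ?_, ?_, ?_⟩
  · rw [Subgroup.card_map_of_injective P.subtype_injective]
    exact hge.2
  · intro a ha b hb
    refine ⟨⁅(⟨a, ha⟩ : P), ⟨b, hb⟩⁆, ?_, rfl⟩
    rw [commutator_def]
    exact Subgroup.commutator_mem_commutator (Subgroup.mem_top _) (Subgroup.mem_top _)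
  · intro a ha
    refine ⟨(⟨a, ha⟩ : P) ^ p, ?_, rfl⟩
    have h1 := Cfsg.Agent.Lead.pow_mem_frattini_of_isPGroup p hP (⟨a, ha⟩ : P)
    rw [hge.1] at h1
    exact h1
  · rintro _ ⟨z, hz, rfl⟩ g hg
    have h1 := Subgroup.mem_center_iff.mp (hcen hz) ⟨g, hg⟩
    exact congrArg Subtype.val h1
  · by_contra hall
    push_neg at hall
    have h1 : commutator ↥P = ⊥ := by
      rw [commutator_def, Subgroup.commutator_eq_bot_iff_le_centralizer]
      intro a _
      rw [Subgroup.mem_centralizer_iff]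
      intro b _
      exact Subtype.ext (hall b b.2 a a.2)
    have h2 := hge.2
    rw [h1, Subgroup.card_bot] at h2
    exact hp.one_lt.ne h2

namespace GES

variable {p : ℕ} [Fact p.Prime] {P Z : Subgroup Ω}

theorem pow_eq_one (h : GES p P Z) {z : Ω} (hz : z ∈ Z) : z ^ p = 1 := by
  have h1 : (⟨z, hz⟩ : Z) ^ p = 1 := by
    rw [← h.card]
    exact pow_card_eq_one'
  exact congrArg Subtype.val h1

theorem cyc (h : GES p P Z) {u w : Ω} (hu : u ∈ Z) (hw : w ∈ Z) (hw1 : w ≠ 1) :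
    ∃ k : ℕ, u = w ^ k := by
  have h1 : (⟨u, hu⟩ : Z) ∈ Submonoid.powers (⟨w, hw⟩ : Z) :=
    mem_powers_of_prime_card h.card (fun hh => hw1 (congrArg Subtype.val hh))
  obtain ⟨k, hk⟩ := h1
  exact ⟨k, (congrArg Subtype.val hk).symm⟩

/-- `g ↦ e g e⁻¹ g⁻¹` as a homomorphism on `P`. -/
def kappa (h : GES p P Z) (e : Ω) (he : e ∈ P) : P →* Ω where
  toFun g := e * g * e⁻¹ * (g : Ω)⁻¹
  map_one' := by simp
  map_mul' a b := by
    have hc : Commute (a : Ω) (e * b * e⁻¹ * (b : Ω)⁻¹) :=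
      h.central _ (h.comm e he b b.2) a a.2
    have hc' : (a : Ω)⁻¹ * (e * b * e⁻¹ * (b : Ω)⁻¹) = (e * b * e⁻¹ * (b : Ω)⁻¹) * (a : Ω)⁻¹ :=
      hc.inv_left.eq
    show e * ((a : Ω) * b) * e⁻¹ * ((a : Ω) * b)⁻¹ =
      e * a * e⁻¹ * (a : Ω)⁻¹ * (e * b * e⁻¹ * (b : Ω)⁻¹)
    rw [mul_assoc (e * a * e⁻¹), hc']
    group

theorem kappa_apply (h : GES p P Z) (e : Ω) (he : e ∈ P) (g : P) :
    h.kappa e he g = e * g * e⁻¹ * (g : Ω)⁻¹ := rfl

theorem kappa_mem (h : GES p P Z) (e : Ω) (he : e ∈ P) (g : P) : h.kappa e he g ∈ Z :=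
  h.comm e he g g.2

theorem kappa_eq_one_iff (h : GES p P Z) (e : Ω) (he : e ∈ P) (g : P) :
    h.kappa e he g = 1 ↔ e * g = g * e := by
  rw [kappa_apply]
  constructor
  · intro h1
    have h2 : e * (g : Ω) = (e * g * e⁻¹ * (g : Ω)⁻¹) * (g * e) := by group
    rw [h2, h1, one_mul]
  · intro h1
    rw [h1]
    group

theorem exists_pow_mul (h : GES p P Z) {y t : Ω} (hy : y ∈ P) (ht : t ∈ P) (hty : t * y ≠ y * t)
    {g : Ω} (hg : g ∈ P) : ∃ i : ℕ, ∃ m ∈ P, m * y = y * m ∧ g = t ^ i * m := by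
  have h1 : h.kappa y hy ⟨t, ht⟩ ≠ 1 :=
    fun hh => hty ((h.kappa_eq_one_iff y hy ⟨t, ht⟩).mp hh).symm
  obtain ⟨i, hi⟩ := h.cyc (h.kappa_mem y hy ⟨g, hg⟩) (h.kappa_mem y hy ⟨t, ht⟩) h1
  refine ⟨i, (t ^ i)⁻¹ * g, P.mul_mem (P.inv_mem (P.pow_mem ht i)) hg, ?_, by group⟩
  have h2 : h.kappa y hy (((⟨t, ht⟩ : P) ^ i)⁻¹ * ⟨g, hg⟩) = 1 := by
    rw [map_mul, map_inv, map_pow, hi, inv_mul_cancel]
  exact ((h.kappa_eq_one_iff y hy _).mp h2).symm

theorem central_of (h : GES p P Z) {y t : Ω} (hy : y ∈ P) (ht : t ∈ P) (hty : t * y ≠ y * t)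
    (hMc : ∀ a ∈ P, ∀ b ∈ P, a * y = y * a → b * y = y * b → a * b = b * a)
    {c : Ω} (hc : c ∈ P) (hcy : c * y = y * c) (hct : c * t = t * c) :
    ∀ g ∈ P, g * c = c * g := by
  intro g hg
  obtain ⟨i, m, hm, hmy, rfl⟩ := h.exists_pow_mul hy ht hty hg
  have h1 : Commute c (t ^ i) := (show Commute c t from hct).pow_right i
  have h2 : Commute c m := hMc c hc m hm hcy hmy
  exact (h1.mul_right h2).symm.eq

end GES

/-- In a group of exponent `p`, a power with exponent prime to `p` can be undone. -/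
theorem exists_pow_pow_eq {p : ℕ} (hp : p.Prime) {g : Ω} (hg : g ^ p = 1) {i : ℕ}
    (hi : ¬ p ∣ i) : ∃ n : ℕ, (g ^ i) ^ n = g := by
  have hi' : ¬ (p : ℤ) ∣ (i : ℤ) := by
    intro hd
    exact hi (by exact_mod_cast hd)
  obtain ⟨n, hn⟩ := exists_nat_inv hp (i : ℤ) hi' 1
  refine ⟨n, ?_⟩
  have h1 : g ^ ((i : ℤ) * n) = g ^ (1 : ℤ) := by
    obtain ⟨c, hc⟩ := hn
    have h2 : (i : ℤ) * n = 1 + p * c := by linarith
    rw [h2, zpow_add, zpow_mul, zpow_natCast, hg, one_zpow, mul_one]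
  rw [← pow_mul]
  have h3 : g ^ ((i : ℤ) * n) = g ^ (i * n) := by
    rw [← Int.natCast_mul, zpow_natCast]
  rw [← h3, h1, zpow_one]

/-- Complements in elementary abelian subgroups. -/
theorem exists_complement_of_exponent {p : ℕ} (hp : p.Prime) (C Z : Subgroup Ω) [Finite C]
    (hZC : Z ≤ C) (hcomm : ∀ a ∈ C, ∀ b ∈ C, a * b = b * a) (hexp : ∀ a ∈ C, a ^ p = 1) :
    ∃ A : Subgroup Ω, A ≤ C ∧ A ⊓ Z = ⊥ ∧ ∀ c ∈ C, ∃ a ∈ A, ∃ z ∈ Z, c = z * a := by
  classical
  have hne : ((fun A : Subgroup Ω => Nat.card A) '' {A | A ≤ C ∧ A ⊓ Z = ⊥}).Nonempty :=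
    ⟨Nat.card (⊥ : Subgroup Ω), ⊥, ⟨bot_le, bot_inf_eq _⟩, rfl⟩
  have hbdd : BddAbove ((fun A : Subgroup Ω => Nat.card A) '' {A | A ≤ C ∧ A ⊓ Z = ⊥}) :=
    ⟨Nat.card C, by
      rintro _ ⟨A, hA, rfl⟩
      exact Subgroup.card_le_of_le hA.1⟩
  obtain ⟨A, hA, hAmax⟩ := Nat.sSup_mem hne hbdd
  have hmax : ∀ B : Subgroup Ω, B ≤ C → B ⊓ Z = ⊥ → Nat.card B ≤ Nat.card A := by
    intro B hB1 hB2
    show (fun A : Subgroup Ω => Nat.card A) A ≥ _
    rw [hAmax]
    exact le_csSup hbdd ⟨B, ⟨hB1, hB2⟩, rfl⟩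
  refine ⟨A, hA.1, hA.2, ?_⟩
  intro c hc
  by_contra hcon
  push_neg at hcon
  have hcen : A ≤ Subgroup.centralizer (Subgroup.zpowers c : Set Ω) := by
    intro a ha
    rw [Subgroup.mem_centralizer_iff]
    intro x hx
    obtain ⟨i, rfl⟩ := Subgroup.mem_zpowers_iff.mp hx
    exact ((show Commute c a from hcomm c hc a (hA.1 ha)).zpow_left i).eq
  have hBC : A ⊔ Subgroup.zpowers c ≤ C := sup_le hA.1 (Subgroup.zpowers_le.mpr hc)
  have hB : (A ⊔ Subgroup.zpowers c) ⊓ Z = ⊥ := by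
    rw [eq_bot_iff]
    rintro g ⟨hg1, hg2⟩
    obtain ⟨a, ha, b, hb, rfl⟩ :=
      mem_sup_of_le_normalizer (hcen.trans (Subgroup.centralizer_le_normalizer _)) hg1
    obtain ⟨i, rfl⟩ := Subgroup.mem_zpowers_iff.mp hb
    by_cases hpi : (p : ℤ) ∣ i
    · have h1 : c ^ i = 1 := by
        obtain ⟨j, rfl⟩ := hpi
        rw [zpow_mul, zpow_natCast, hexp c hc, one_zpow]
      rw [h1, mul_one] at hg2 ⊢
      have h2 : a ∈ A ⊓ Z := ⟨ha, hg2⟩
      rw [hA.2] at h2
      exact h2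
    · exfalso
      obtain ⟨n, hn⟩ := exists_nat_inv hp i hpi 1
      have h1 : (c ^ i) ^ n = c := by
        obtain ⟨d, hd⟩ := hn
        have h2 : i * (n : ℤ) = 1 + p * d := by linarith
        rw [← zpow_natCast, ← zpow_mul, h2, zpow_add, zpow_mul, zpow_natCast, hexp c hc,
          one_zpow, mul_one, zpow_one]
      have hac : Commute a (c ^ i) :=
        (show Commute a c from hcomm a (hA.1 ha) c hc).zpow_right i
      have h3 : c = (a * c ^ i) ^ n * (a ^ n)⁻¹ := by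
        rw [hac.mul_pow, h1]
        have : Commute (a ^ n) c := (show Commute a c from hcomm a (hA.1 ha) c hc).pow_left n
        rw [this.eq, mul_inv_cancel_right]
      exact hcon _ (A.inv_mem (A.pow_mem ha n)) _ (Z.pow_mem hg2 n) h3
  have hfin : Finite ↥(A ⊔ Subgroup.zpowers c) :=
    Finite.of_injective (Subgroup.inclusion hBC) (Subgroup.inclusion_injective hBC)
  have heq : A = A ⊔ Subgroup.zpowers c :=
    Subgroup.eq_of_le_of_card_ge le_sup_left (hmax _ hBC hB)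
  have hcA : c ∈ A := by
    rw [heq]
    exact (le_sup_right : Subgroup.zpowers c ≤ A ⊔ Subgroup.zpowers c) (Subgroup.mem_zpowers c)
  exact hcon c hcA 1 Z.one_mem (by rw [one_mul])

/-- The power formula in class two. -/
theorem mul_pow_class2 {a b c : Ω} (hba : b * a = c * a * b) (hca : c * a = a * c)
    (hcb : c * b = b * c) (n : ℕ) : (a * b) ^ n = c ^ (n.choose 2) * a ^ n * b ^ n := by
  have hbn : ∀ k : ℕ, b ^ k * a = c ^ k * a * b ^ k := by
    intro k
    induction k with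
    | zero => simp
    | succ k ih =>
      have hbck : b * c ^ k = c ^ k * b := ((show Commute c b from hcb).pow_left k).symm.eq
      calc b ^ (k + 1) * a = b * (b ^ k * a) := by rw [pow_succ']; simp only [mul_assoc]
        _ = b * (c ^ k * a * b ^ k) := by rw [ih]
        _ = (b * c ^ k) * a * b ^ k := by simp only [mul_assoc]
        _ = (c ^ k * b) * a * b ^ k := by rw [hbck]
        _ = c ^ k * (b * a) * b ^ k := by simp only [mul_assoc]
        _ = c ^ k * (c * a * b) * b ^ k := by rw [hba]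
        _ = c ^ (k + 1) * a * b ^ (k + 1) := by
            rw [pow_succ c, pow_succ' b]; simp only [mul_assoc]
  induction n with
  | zero => simp
  | succ n ih =>
    have h2 : a ^ n * c ^ n = c ^ n * a ^ n :=
      (((show Commute c a from hca).pow_pow n n)).symm.eq
    have h3 : (n + 1).choose 2 = n.choose 2 + n := by
      rw [Nat.choose_succ_succ, Nat.choose_one_right, add_comm]
    calc (a * b) ^ (n + 1) = c ^ (n.choose 2) * a ^ n * (b ^ n * a) * b := by
          rw [pow_succ, ih]; simp only [mul_assoc]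
      _ = c ^ (n.choose 2) * a ^ n * (c ^ n * a * b ^ n) * b := by rw [hbn]
      _ = c ^ (n.choose 2) * (a ^ n * c ^ n) * a * b ^ n * b := by simp only [mul_assoc]
      _ = c ^ (n.choose 2) * (c ^ n * a ^ n) * a * b ^ n * b := by rw [h2]
      _ = c ^ ((n + 1).choose 2) * a ^ (n + 1) * b ^ (n + 1) := by
          rw [h3, pow_add, pow_succ a, pow_succ b]; simp only [mul_assoc]

/-- The power formula in class two for an odd prime exponent. -/
theorem mul_pow_prime_class2 {p : ℕ} (hp : p.Prime) (hp2 : p ≠ 2) {a b c : Ω}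
    (hba : b * a = c * a * b) (hca : c * a = a * c) (hcb : c * b = b * c) (hc : c ^ p = 1) :
    (a * b) ^ p = a ^ p * b ^ p := by
  rw [mul_pow_class2 hba hca hcb p]
  have h1 : p ∣ p.choose 2 := hp.dvd_choose_self (by norm_num) (by
    have := hp.two_le
    omega)
  obtain ⟨m, hm⟩ := h1
  rw [hm, pow_mul, hc, one_pow, one_mul]

/-- Two "transvections" generate an automorphism inverting `z` and `e` and fixing their common
fixed points. -/
theorem inversion_word' {V : Type*} [Group V] {p : ℕ} (hp : p.Prime)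
    (hcomm : ∀ a b : V, a * b = b * a) (z e : V) (hz : z ^ p = 1) (he : e ^ p = 1)
    (x y : MulAut V) (a s : ℤ)
    (ha : ¬ (p : ℤ) ∣ a) (hs : ¬ (p : ℤ) ∣ s) (hxz : x z = z) (hxe : x e = e * z ^ a)
    (hye : y e = e) (hyz : y z = z * e ^ s) :
    ∃ ι ∈ Subgroup.closure ({x, y} : Set (MulAut V)), ι z = z⁻¹ ∧ ι e = e⁻¹ ∧
      ∀ u : V, x u = u → y u = u → ι u = u := by
  have hxmem : x ∈ Subgroup.closure ({x, y} : Set (MulAut V)) :=
    Subgroup.subset_closure (Set.mem_insert x _)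
  have hymem : y ∈ Subgroup.closure ({x, y} : Set (MulAut V)) :=
    Subgroup.subset_closure (Set.mem_insert_of_mem x rfl)
  obtain ⟨i, hi⟩ := exists_nat_inv hp a ha 1
  obtain ⟨j, hj⟩ := exists_nat_inv hp s hs (-1)
  have hzmod : ∀ m n : ℤ, (p : ℤ) ∣ m - n → z ^ m = z ^ n := by
    intro m n hmn
    obtain ⟨c, hc⟩ := hmn
    have h1 : m = n + p * c := by linarith
    rw [h1, zpow_add, zpow_mul, zpow_natCast, hz, one_zpow, mul_one]
  have hemod : ∀ m n : ℤ, (p : ℤ) ∣ m - n → e ^ m = e ^ n := by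
    intro m n hmn
    obtain ⟨c, hc⟩ := hmn
    have h1 : m = n + p * c := by linarith
    rw [h1, zpow_add, zpow_mul, zpow_natCast, he, one_zpow, mul_one]
  have hxpow : ∀ k : ℕ, (x ^ k) z = z ∧ (x ^ k) e = e * z ^ (a * k) := by
    intro k
    induction k with
    | zero => simp
    | succ k ih =>
      refine ⟨by rw [pow_succ, MulAut.mul_apply, hxz, ih.1], ?_⟩
      rw [pow_succ, MulAut.mul_apply, hxe, map_mul, map_zpow, ih.1, ih.2, mul_assoc,
        ← zpow_add]
      congr 2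
      push_cast
      ring
  have hypow : ∀ k : ℕ, (y ^ k) e = e ∧ (y ^ k) z = z * e ^ (s * k) := by
    intro k
    induction k with
    | zero => simp
    | succ k ih =>
      refine ⟨by rw [pow_succ, MulAut.mul_apply, hye, ih.1], ?_⟩
      rw [pow_succ, MulAut.mul_apply, hyz, map_mul, map_zpow, ih.1, ih.2, mul_assoc,
        ← zpow_add]
      congr 2
      push_cast
      ring
  have hXz : (x ^ i) z = z := (hxpow i).1
  have hXe : (x ^ i) e = e * z := by
    rw [(hxpow i).2, hzmod _ 1 hi, zpow_one]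
  have hYe : (y ^ j) e = e := (hypow j).1
  have hYz : (y ^ j) z = z * e⁻¹ := by
    rw [(hypow j).2, hemod _ (-1) (by simpa using hj), zpow_neg, zpow_one]
  have hwz : (x ^ i * y ^ j * x ^ i) z = e⁻¹ := by
    rw [MulAut.mul_apply, MulAut.mul_apply, hXz, hYz, map_mul, map_inv, hXz, hXe, mul_inv_rev,
      mul_inv_cancel_left]
  have hwe : (x ^ i * y ^ j * x ^ i) e = z := by
    rw [MulAut.mul_apply, MulAut.mul_apply, hXe, map_mul, hYe, hYz, map_mul, map_mul, map_inv,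
      hXe, hXz, hcomm z (e * z)⁻¹, ← mul_assoc, mul_inv_cancel, one_mul]
  have hfix : ∀ (f : MulAut V) (u : V) (k : ℕ), f u = u → (f ^ k) u = u := by
    intro f u k hf
    induction k with
    | zero => simp
    | succ k ih => rw [pow_succ, MulAut.mul_apply, hf, ih]
  refine ⟨(x ^ i * y ^ j * x ^ i) * (x ^ i * y ^ j * x ^ i), ?_, ?_, ?_, ?_⟩
  · have hw : x ^ i * y ^ j * x ^ i ∈ Subgroup.closure ({x, y} : Set (MulAut V)) :=
      mul_mem (mul_mem (pow_mem hxmem i) (pow_mem hymem j)) (pow_mem hxmem i)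
    exact mul_mem hw hw
  · rw [MulAut.mul_apply, hwz, map_inv, hwe]
  · rw [MulAut.mul_apply, hwe, hwz]
  · intro u hxu hyu
    have h1 : (x ^ i * y ^ j * x ^ i) u = u := by
      rw [MulAut.mul_apply, MulAut.mul_apply, hfix x u i hxu, hfix y u j hyu, hfix x u i hxu]
    rw [MulAut.mul_apply, h1, h1]

namespace GES

variable {p : ℕ} [Fact p.Prime] {P Z : Subgroup Ω}

/-- If the centralizer `M` of `y` in `P` is elementary abelian and some element of order `p` lies
outside it, then `P` is the direct product of a Heisenberg group and an elementary abelian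
group. -/
theorem split (h : GES p P Z) [Finite P] {y t : Ω} (hy : y ∈ P) (ht : t ∈ P)
    (hMc : ∀ a ∈ P, ∀ b ∈ P, a * y = y * a → b * y = y * b → a * b = b * a)
    (hMp : ∀ a ∈ P, a * y = y * a → a ^ p = 1)
    (hty : t * y ≠ y * t) (htp : t ^ p = 1) :
    ∃ A : Subgroup Ω, A ≤ P ∧ (∀ a ∈ A, ∀ b ∈ A, a * b = b * a) ∧ (∀ a ∈ A, a ^ p = 1) ∧
      Nonempty (↥P ≃* Heis p × ↥A) := by
  have hp := (Fact.out : p.Prime)
  have : NeZero p := ⟨hp.ne_zero⟩
  have hyp : y ^ p = 1 := hMp y hy rfl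
  have hwZ : y * t * y⁻¹ * t⁻¹ ∈ Z := h.comm y hy t ht
  have hw1 : y * t * y⁻¹ * t⁻¹ ≠ 1 := by
    intro h1
    apply hty
    exact ((h.kappa_eq_one_iff y hy ⟨t, ht⟩).mp h1).symm
  have hyt : y * t = y * t * y⁻¹ * t⁻¹ * t * y := by group
  generalize y * t * y⁻¹ * t⁻¹ = w at hwZ hw1 hyt
  have hwP : w ∈ P := h.le hwZ
  have hwp : w ^ p = 1 := h.pow_eq_one hwZ
  have hwc : ∀ g ∈ P, g * w = w * g := h.central w hwZ
  have cW : ∀ k : ℕ, ∀ g ∈ P, g * w ^ k = w ^ k * g :=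
    fun k g hg => ((show Commute g w from hwc g hg).pow_right k).eq
  -- the centre
  have hCmem : ∀ c, c ∈ P ⊓ Subgroup.centralizer (P : Set Ω) ↔ c ∈ P ∧ ∀ g ∈ P, g * c = c * g := by
    intro c
    rw [Subgroup.mem_inf, Subgroup.mem_centralizer_iff]
    exact Iff.rfl
  have hZC : Z ≤ P ⊓ Subgroup.centralizer (P : Set Ω) :=
    fun z hz => (hCmem z).mpr ⟨h.le hz, h.central z hz⟩
  have hCcomm : ∀ a ∈ P ⊓ Subgroup.centralizer (P : Set Ω),
      ∀ b ∈ P ⊓ Subgroup.centralizer (P : Set Ω), a * b = b * a :=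
    fun a ha b hb => ((hCmem b).mp hb).2 a ((hCmem a).mp ha).1
  have hCexp : ∀ a ∈ P ⊓ Subgroup.centralizer (P : Set Ω), a ^ p = 1 :=
    fun a ha => hMp a ((hCmem a).mp ha).1 (((hCmem a).mp ha).2 y hy).symm
  have hfC : Finite ↥(P ⊓ Subgroup.centralizer (P : Set Ω)) :=
    Finite.of_injective (Subgroup.inclusion (inf_le_left : P ⊓ Subgroup.centralizer (P : Set Ω) ≤ P))
      (Subgroup.inclusion_injective _)
  obtain ⟨A, hAC, hAZ, hAgen⟩ := exists_complement_of_exponent hp _ Z hZC hCcomm hCexp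
  have hAP : A ≤ P := hAC.trans inf_le_left
  have hAc : ∀ a ∈ A, ∀ g ∈ P, g * a = a * g := fun a ha => ((hCmem a).mp (hAC ha)).2
  refine ⟨A, hAP, fun a ha b hb => hCcomm a (hAC ha) b (hAC hb), fun a ha => hCexp a (hAC ha), ?_⟩
  -- commutation rules
  have hytn : ∀ n : ℕ, y * t ^ n = w ^ n * t ^ n * y := by
    intro n
    induction n with
    | zero => simp
    | succ n ih =>
      calc y * t ^ (n + 1) = (y * t ^ n) * t := by rw [pow_succ, mul_assoc]
        _ = w ^ n * t ^ n * (y * t) := by rw [ih]; simp only [mul_assoc]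
        _ = w ^ n * t ^ n * (w * t * y) := by rw [hyt]
        _ = w ^ n * (t ^ n * w) * t * y := by simp only [mul_assoc]
        _ = w ^ n * (w * t ^ n) * t * y := by rw [hwc (t ^ n) (P.pow_mem ht n)]
        _ = w ^ (n + 1) * t ^ (n + 1) * y := by
            rw [pow_succ w, pow_succ t]; simp only [mul_assoc]
  have hymtn : ∀ m n : ℕ, y ^ m * t ^ n = w ^ (m * n) * t ^ n * y ^ m := by
    intro m n
    induction m with
    | zero => simp
    | succ m ih =>
      calc y ^ (m + 1) * t ^ n = y * (y ^ m * t ^ n) := by rw [pow_succ']; simp only [mul_assoc]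
        _ = y * (w ^ (m * n) * t ^ n * y ^ m) := by rw [ih]
        _ = (y * w ^ (m * n)) * t ^ n * y ^ m := by simp only [mul_assoc]
        _ = (w ^ (m * n) * y) * t ^ n * y ^ m := by rw [cW _ y hy]
        _ = w ^ (m * n) * (y * t ^ n) * y ^ m := by simp only [mul_assoc]
        _ = w ^ (m * n) * (w ^ n * t ^ n * y) * y ^ m := by rw [hytn]
        _ = w ^ ((m + 1) * n) * t ^ n * y ^ (m + 1) := by
            rw [add_mul, one_mul, pow_add, pow_succ' y]; simp only [mul_assoc]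
  have hval_add : ∀ g : Ω, g ^ p = 1 → ∀ a b : ZMod p,
      g ^ (a + b).val = g ^ a.val * g ^ b.val := by
    intro g hg a b
    rw [ZMod.val_add, ← pow_eq_pow_mod _ hg, pow_add]
  have hval_mul : ∀ g : Ω, g ^ p = 1 → ∀ a b : ZMod p,
      g ^ (a * b).val = g ^ (a.val * b.val) := by
    intro g hg a b
    rw [ZMod.val_mul, ← pow_eq_pow_mod _ hg]
  have hfP : ∀ u : Heis p, t ^ u.a.val * y ^ u.b.val * w ^ u.c.val ∈ P :=
    fun u => P.mul_mem (P.mul_mem (P.pow_mem ht _) (P.pow_mem hy _)) (P.pow_mem hwP _)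
  have hfmul : ∀ u v : Heis p, t ^ (u * v).a.val * y ^ (u * v).b.val * w ^ (u * v).c.val =
      (t ^ u.a.val * y ^ u.b.val * w ^ u.c.val) * (t ^ v.a.val * y ^ v.b.val * w ^ v.c.val) := by
    intro u v
    rw [Heis.mul_a, Heis.mul_b, Heis.mul_c, hval_add t htp, hval_add y hyp, hval_add w hwp,
      hval_add w hwp, hval_mul w hwp]
    have key := hymtn u.b.val v.a.val
    have e1 : w ^ u.c.val * t ^ v.a.val = t ^ v.a.val * w ^ u.c.val :=
      (cW _ _ (P.pow_mem ht _)).symm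
    have e2 : w ^ u.c.val * y ^ v.b.val = y ^ v.b.val * w ^ u.c.val :=
      (cW _ _ (P.pow_mem hy _)).symm
    have e3 : w ^ (u.b.val * v.a.val) *
        (t ^ v.a.val * y ^ u.b.val * y ^ v.b.val * w ^ u.c.val * w ^ v.c.val) =
        (t ^ v.a.val * y ^ u.b.val * y ^ v.b.val * w ^ u.c.val * w ^ v.c.val) *
          w ^ (u.b.val * v.a.val) :=
      (cW _ _ (P.mul_mem (P.mul_mem (P.mul_mem (P.mul_mem (P.pow_mem ht _) (P.pow_mem hy _))
        (P.pow_mem hy _)) (P.pow_mem hwP _)) (P.pow_mem hwP _))).symm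
    calc t ^ u.a.val * t ^ v.a.val * (y ^ u.b.val * y ^ v.b.val) *
          (w ^ u.c.val * w ^ v.c.val * w ^ (u.b.val * v.a.val))
        = t ^ u.a.val * ((t ^ v.a.val * y ^ u.b.val * y ^ v.b.val * w ^ u.c.val * w ^ v.c.val) *
            w ^ (u.b.val * v.a.val)) := by simp only [mul_assoc]
      _ = t ^ u.a.val * (w ^ (u.b.val * v.a.val) *
            (t ^ v.a.val * y ^ u.b.val * y ^ v.b.val * w ^ u.c.val * w ^ v.c.val)) := by rw [e3]
      _ = t ^ u.a.val * (w ^ (u.b.val * v.a.val) * t ^ v.a.val * y ^ u.b.val) *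
            (y ^ v.b.val * w ^ u.c.val) * w ^ v.c.val := by simp only [mul_assoc]
      _ = t ^ u.a.val * (y ^ u.b.val * t ^ v.a.val) * (w ^ u.c.val * y ^ v.b.val) *
            w ^ v.c.val := by rw [← key, ← e2]
      _ = t ^ u.a.val * y ^ u.b.val * (t ^ v.a.val * w ^ u.c.val) * y ^ v.b.val *
            w ^ v.c.val := by simp only [mul_assoc]
      _ = t ^ u.a.val * y ^ u.b.val * (w ^ u.c.val * t ^ v.a.val) * y ^ v.b.val *
            w ^ v.c.val := by rw [← e1]
      _ = _ := by simp only [mul_assoc]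
  let Φ : Heis p × A →* P :=
    { toFun := fun x => ⟨t ^ x.1.a.val * y ^ x.1.b.val * w ^ x.1.c.val * (x.2 : Ω),
        P.mul_mem (hfP x.1) (hAP x.2.2)⟩
      map_one' := by
        apply Subtype.ext
        simp
      map_mul' := fun x x' => by
        apply Subtype.ext
        show t ^ (x.1 * x'.1).a.val * y ^ (x.1 * x'.1).b.val * w ^ (x.1 * x'.1).c.val *
            ((x.2 : Ω) * (x'.2 : Ω)) =
          (t ^ x.1.a.val * y ^ x.1.b.val * w ^ x.1.c.val * (x.2 : Ω)) *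
            (t ^ x'.1.a.val * y ^ x'.1.b.val * w ^ x'.1.c.val * (x'.2 : Ω))
        rw [hfmul]
        have h1 := hAc x.2 x.2.2 _ (hfP x'.1)
        calc t ^ x.1.a.val * y ^ x.1.b.val * w ^ x.1.c.val *
              (t ^ x'.1.a.val * y ^ x'.1.b.val * w ^ x'.1.c.val) * ((x.2 : Ω) * (x'.2 : Ω))
            = t ^ x.1.a.val * y ^ x.1.b.val * w ^ x.1.c.val *
              ((t ^ x'.1.a.val * y ^ x'.1.b.val * w ^ x'.1.c.val) * (x.2 : Ω)) * (x'.2 : Ω) := by
                simp only [mul_assoc]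
          _ = t ^ x.1.a.val * y ^ x.1.b.val * w ^ x.1.c.val *
              ((x.2 : Ω) * (t ^ x'.1.a.val * y ^ x'.1.b.val * w ^ x'.1.c.val)) * (x'.2 : Ω) := by
                rw [h1]
          _ = _ := by simp only [mul_assoc] }
  have hΦ : ∀ x : Heis p × A, ((Φ x : P) : Ω) =
      t ^ x.1.a.val * y ^ x.1.b.val * w ^ x.1.c.val * (x.2 : Ω) := fun _ => rfl
  have hval : ∀ a : ZMod p, a ≠ 0 → ¬ p ∣ a.val := by
    intro a hne hd
    have hlt := ZMod.val_lt a
    have hpos : 0 < a.val := Nat.pos_of_ne_zero (fun h0 => hne ((ZMod.val_eq_zero a).mp h0))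
    have := Nat.le_of_dvd hpos hd
    omega
  have hinj : Function.Injective Φ := by
    rw [injective_iff_map_eq_one]
    rintro ⟨u, a⟩ hx
    have hx' : t ^ u.a.val * y ^ u.b.val * w ^ u.c.val * (a : Ω) = 1 := by
      rw [← hΦ (u, a), hx]
      rfl
    have ha0 : u.a = 0 := by
      by_contra hne
      obtain ⟨n, hn⟩ := exists_pow_pow_eq hp htp (hval _ hne)
      have h1 : t ^ u.a.val = (y ^ u.b.val * w ^ u.c.val * (a : Ω))⁻¹ :=
        eq_inv_of_mul_eq_one_left (by rw [← hx']; simp only [mul_assoc])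
      have h2 : Commute (t ^ u.a.val) y := by
        rw [h1]
        apply Commute.inv_left
        exact (((Commute.refl y).pow_left _).mul_left
          ((show Commute w y from (hwc y hy).symm).pow_left _)).mul_left (hAc a a.2 y hy).symm
      apply hty
      have h3 := h2.pow_left n
      rw [hn] at h3
      exact h3.eq
    have hx2 : y ^ u.b.val * w ^ u.c.val * (a : Ω) = 1 := by
      rw [ha0, ZMod.val_zero, pow_zero, one_mul] at hx'
      exact hx'
    have hb0 : u.b = 0 := by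
      by_contra hne
      obtain ⟨n, hn⟩ := exists_pow_pow_eq hp hyp (hval _ hne)
      have h1 : y ^ u.b.val = (w ^ u.c.val * (a : Ω))⁻¹ :=
        eq_inv_of_mul_eq_one_left (by rw [← hx2]; simp only [mul_assoc])
      have h2 : Commute (y ^ u.b.val) t := by
        rw [h1]
        apply Commute.inv_left
        exact ((show Commute w t from (hwc t ht).symm).pow_left _).mul_left (hAc a a.2 t ht).symm
      apply hty
      have h3 := h2.pow_left n
      rw [hn] at h3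
      exact h3.symm.eq
    have hx3 : w ^ u.c.val * (a : Ω) = 1 := by
      rw [hb0, ZMod.val_zero, pow_zero, one_mul] at hx2
      exact hx2
    have h4 : (w ^ u.c.val)⁻¹ = (a : Ω) := inv_eq_of_mul_eq_one_right hx3
    have ha1 : (a : Ω) = 1 := by
      have h5 : (a : Ω) ∈ A ⊓ Z := ⟨a.2, by rw [← h4]; exact Z.inv_mem (Z.pow_mem hwZ _)⟩
      rw [hAZ] at h5
      exact h5
    have hc0 : u.c = 0 := by
      by_contra hne
      obtain ⟨n, hn⟩ := exists_pow_pow_eq hp hwp (hval _ hne)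
      apply hw1
      rw [ha1, mul_one] at hx3
      rw [← hn, hx3, one_pow]
    exact Prod.ext (Heis.ext ha0 hb0 hc0) (Subtype.ext ha1)
  have hsurj : Function.Surjective Φ := by
    rintro ⟨g, hg⟩
    obtain ⟨i, m, hm, hmy, rfl⟩ := h.exists_pow_mul hy ht hty hg
    have hyt' : y * t ≠ t * y := fun hh => hty hh.symm
    obtain ⟨j, c, hc, hct, rfl⟩ := h.exists_pow_mul ht hy hyt' hm
    have hcy : c * y = y * c := by
      have h1 : Commute (y ^ j * c) y := hmy
      have h2 : Commute (y ^ j) y := (Commute.refl y).pow_left j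
      have h3 : c = (y ^ j)⁻¹ * (y ^ j * c) := by group
      rw [h3]
      exact (h2.inv_left.mul_left h1).eq
    have hcC : c ∈ P ⊓ Subgroup.centralizer (P : Set Ω) :=
      (hCmem c).mpr ⟨hc, h.central_of hy ht hty hMc hc hcy hct⟩
    obtain ⟨a, ha, z, hz, rfl⟩ := hAgen c hcC
    obtain ⟨k, rfl⟩ := h.cyc hz hwZ hw1
    refine ⟨(⟨(i : ZMod p), (j : ZMod p), (k : ZMod p)⟩, ⟨a, ha⟩), Subtype.ext ?_⟩
    rw [hΦ]
    show t ^ (i : ZMod p).val * y ^ (j : ZMod p).val * w ^ (k : ZMod p).val * a =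
      t ^ i * (y ^ j * (w ^ k * a))
    rw [ZMod.val_natCast, ZMod.val_natCast, ZMod.val_natCast, ← pow_eq_pow_mod _ htp,
      ← pow_eq_pow_mod _ hyp, ← pow_eq_pow_mod _ hwp]
    simp only [mul_assoc]
  exact ⟨(MulEquiv.ofBijective Φ ⟨hinj, hsurj⟩).symm⟩

/-- For `p = 2` there is always an involution outside the centralizer. -/
theorem exists_involution_outside {P Z : Subgroup Ω} (h : GES 2 P Z) {y t : Ω} (hy : y ∈ P)
    (ht : t ∈ P) (hMp : ∀ a ∈ P, a * y = y * a → a ^ 2 = 1) (hty : t * y ≠ y * t) :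
    ∃ t' ∈ P, t' * y ≠ y * t' ∧ t' ^ 2 = 1 := by
  by_cases ht2 : t ^ 2 = 1
  · exact ⟨t, ht, hty, ht2⟩
  have hy2 : y ^ 2 = 1 := hMp y hy rfl
  have hwZ : y * t * y⁻¹ * t⁻¹ ∈ Z := h.comm y hy t ht
  have hw1 : y * t * y⁻¹ * t⁻¹ ≠ 1 := by
    intro h1
    apply hty
    exact ((h.kappa_eq_one_iff y hy ⟨t, ht⟩).mp h1).symm
  have hyt : y * t = y * t * y⁻¹ * t⁻¹ * t * y := by group
  generalize y * t * y⁻¹ * t⁻¹ = w at hwZ hw1 hyt
  have hw2 : w ^ 2 = 1 := h.pow_eq_one hwZ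
  have hwc : ∀ g ∈ P, g * w = w * g := h.central w hwZ
  have htw : t ^ 2 = w := by
    obtain ⟨k, hk⟩ := h.cyc (h.pow t ht) hwZ hw1
    rcases Nat.even_or_odd k with ⟨m, hm⟩ | ⟨m, hm⟩
    · exfalso
      apply ht2
      rw [hk, hm, ← two_mul, pow_mul, hw2, one_pow]
    · rw [hk, hm, pow_succ, pow_mul, hw2, one_pow, one_mul]
  refine ⟨t * y, P.mul_mem ht hy, ?_, ?_⟩
  · intro hh
    apply hty
    have h1 : t * y * y = y * t * y := by rw [hh, mul_assoc]
    exact mul_right_cancel h1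
  · calc (t * y) ^ 2 = t * (y * t) * y := by rw [pow_two]; simp only [mul_assoc]
      _ = t * (w * t * y) * y := by rw [hyt]
      _ = (t * w) * t * y * y := by simp only [mul_assoc]
      _ = (w * t) * t * y * y := by rw [hwc t ht]
      _ = w * t ^ 2 * y ^ 2 := by rw [pow_two, pow_two]; simp only [mul_assoc]
      _ = 1 := by rw [htw, hy2, mul_one, ← pow_two, hw2]

end GES

theorem exists_pow_mul_eq {p : ℕ} (hp : p.Prime) {z : Ω} (hz : z ^ p = 1) {a : ℕ}
    (ha : ¬ p ∣ a) (k : ℕ) : ∃ i : ℕ, z ^ (a * i) = z ^ k := by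
  obtain ⟨n, hn⟩ := exists_pow_pow_eq hp hz ha
  refine ⟨n * k, ?_⟩
  rw [← mul_assoc, pow_mul, pow_mul, hn]

/-- With two transvections `x`, `y` as in `inversion_word'`, acting on all of `V` through `z`
and `e`, an automorphism `ι` inverting `z`, `e` and fixing the common fixed points satisfies
`x (ι v * v) = ι v * v`. -/
theorem inversion_fix {V : Type*} [Group V] {p : ℕ} (hp : p.Prime)
    (hcomm : ∀ a b : V, a * b = b * a) (z e : V) (hz : z ^ p = 1) (he : e ^ p = 1)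
    (x y ι : MulAut V) (a s : ℕ) (ha : ¬ p ∣ a) (hs : ¬ p ∣ s)
    (hxz : x z = z) (hxe : x e = e * z ^ a) (hyz : y z = z * e ^ s)
    (hxact : ∀ v : V, ∃ k : ℕ, x v = v * z ^ k) (hyact : ∀ v : V, ∃ k : ℕ, y v = v * e ^ k)
    (hιz : ι z = z⁻¹) (hιe : ι e = e⁻¹) (hιfix : ∀ u : V, x u = u → y u = u → ι u = u) (v : V) :
    x (ι v * v) = ι v * v := by
  have hdec : ∃ (i j : ℕ) (v₂ : V), x v₂ = v₂ ∧ y v₂ = v₂ ∧ v = v₂ * z ^ j * e ^ i := by
    obtain ⟨k, hk⟩ := hxact v
    obtain ⟨i, hi⟩ := exists_pow_mul_eq hp hz ha k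
    have hx1 : x (v * (e ^ i)⁻¹) = v * (e ^ i)⁻¹ := by
      rw [map_mul, map_inv, map_pow, hk, hxe, (show Commute e (z ^ a) from hcomm _ _).mul_pow,
        ← pow_mul, hi]
      group
    obtain ⟨k', hk'⟩ := hyact (v * (e ^ i)⁻¹)
    obtain ⟨j, hj⟩ := exists_pow_mul_eq hp he hs k'
    refine ⟨i, j, v * (e ^ i)⁻¹ * (z ^ j)⁻¹, ?_, ?_, by group⟩
    · rw [map_mul, hx1, map_inv, map_pow, hxz]
    · rw [map_mul, hk', map_inv, map_pow, hyz, (show Commute z (e ^ s) from hcomm _ _).mul_pow,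
        ← pow_mul, hj]
      group
  obtain ⟨i, j, v₂, hx2, hy2, rfl⟩ := hdec
  have hι2 := hιfix v₂ hx2 hy2
  have key : ι (v₂ * z ^ j * e ^ i) * (v₂ * z ^ j * e ^ i) = v₂ * v₂ := by
    rw [map_mul, map_mul, map_pow, map_pow, hιz, hιe, hι2, inv_pow, inv_pow]
    calc v₂ * (z ^ j)⁻¹ * (e ^ i)⁻¹ * (v₂ * z ^ j * e ^ i)
        = v₂ * (z ^ j)⁻¹ * ((e ^ i)⁻¹ * (v₂ * z ^ j)) * e ^ i := by group
      _ = v₂ * (z ^ j)⁻¹ * ((v₂ * z ^ j) * (e ^ i)⁻¹) * e ^ i := by
          rw [hcomm (e ^ i)⁻¹ (v₂ * z ^ j)]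
      _ = v₂ * ((z ^ j)⁻¹ * v₂) * z ^ j := by group
      _ = v₂ * (v₂ * (z ^ j)⁻¹) * z ^ j := by rw [hcomm (z ^ j)⁻¹ v₂]
      _ = v₂ * v₂ := by group
  rw [key, map_mul, hx2]

end Cfsg.Agent.Helper8
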