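import Mathlib
import Cfsg.Prelude.Def_Transfer
import Cfsg.Agent.Lead.PGroupFrattini
import Cfsg.Agent.Helper5.Frattini

/-!
# The Heisenberg group over `ZMod p`

A model (in `Type`) of the nonabelian group of order `p ^ 3` which has exponent `p` for odd `p`
and is dihedral for `p = 2`.  Also: a nonabelian group of order `p ^ 3` is extraspecial.
-/

set_option autoImplicit false

namespace Cfsg.Agent.Helper8

open scoped commutatorElement

/-- A nonabelian group of order `p ^ 3` is extraspecial. -/
theorem isExtraspecial_of_card_cube {G : Type*} [Group G] [Finite G] (p : ℕ) [Fact p.Prime]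
    (hcard : Nat.card G = p ^ 3) (hnc : ∃ a b : G, a * b ≠ b * a) : Cfsg.IsExtraspecial p G := by
  have hp := (Fact.out : p.Prime)
  have hG : IsPGroup p G := IsPGroup.of_card hcard
  obtain ⟨a₀, b₀, hab⟩ := hnc
  have hnt : Nontrivial G := ⟨⟨a₀, b₀, fun h => hab (by rw [h])⟩⟩
  have hZnt : Nontrivial (Subgroup.center G) := hG.center_nontrivial
  have hmul := Subgroup.card_eq_card_quotient_mul_card_subgroup (Subgroup.center G)
  obtain ⟨k, hk3, hk⟩ : ∃ k ≤ 3, Nat.card (Subgroup.center G) = p ^ k := by
    apply (Nat.dvd_prime_pow hp).mp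
    rw [← hcard]
    exact Subgroup.card_subgroup_dvd_card _
  have hk0 : k ≠ 0 := by
    rintro rfl
    rw [pow_zero] at hk
    have := Finite.one_lt_card_iff_nontrivial.mpr hZnt
    omega
  have hk3' : k ≠ 3 := by
    rintro rfl
    have h1 : Subgroup.center G = ⊤ := Subgroup.card_eq_iff_eq_top _ |>.mp (by rw [hk, hcard])
    apply hab
    have h2 : b₀ ∈ Subgroup.center G := by rw [h1]; trivial
    exact (Subgroup.mem_center_iff.mp h2 a₀)
  have hk2 : k ≠ 2 := by
    rintro rfl
    have h1 : Nat.card (G ⧸ Subgroup.center G) = p := by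
      rw [hk, hcard] at hmul
      have h2 : p * p ^ 2 = Nat.card (G ⧸ Subgroup.center G) * p ^ 2 := by
        rw [← hmul]; ring
      exact (Nat.eq_of_mul_eq_mul_right (pow_pos hp.pos 2) h2).symm
    have : IsCyclic (G ⧸ Subgroup.center G) := isCyclic_of_prime_card h1
    have h3 := (QuotientGroup.mk' (Subgroup.center G)).isMulCommutative_of_isCyclic_of_ker_le_center
      (by rw [QuotientGroup.ker_mk'])
    exact hab (h3.is_comm.comm a₀ b₀)
  have hk1 : k = 1 := by omega
  subst hk1
  rw [pow_one] at hk
  have hq : Nat.card (G ⧸ Subgroup.center G) = p ^ 2 := by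
    rw [hk, hcard] at hmul
    have h2 : p ^ 2 * p = Nat.card (G ⧸ Subgroup.center G) * p := by
      rw [← hmul]; ring
    exact (Nat.eq_of_mul_eq_mul_right hp.pos h2).symm
  have hqc : IsMulCommutative (G ⧸ Subgroup.center G) :=
    IsPGroup.isMulCommutative_of_card_eq_prime_sq hq
  have hcz : commutator G ≤ Subgroup.center G :=
    Subgroup.Normal.quotient_commutative_iff_commutator_le.mp hqc
  have hcne : commutator G ≠ ⊥ := by
    intro h
    apply hab
    have h1 : ⁅a₀, b₀⁆ ∈ commutator G := by
      rw [commutator_def]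
      exact Subgroup.commutator_mem_commutator (Subgroup.mem_top _) (Subgroup.mem_top _)
    rw [h, Subgroup.mem_bot, commutatorElement_eq_one_iff_mul_comm] at h1
    exact h1
  have hceq : commutator G = Subgroup.center G := by
    apply Subgroup.eq_of_le_of_card_ge hcz
    rw [hk]
    have h1 : Nat.card (commutator G) ∣ p := by
      rw [← hk]
      exact Subgroup.card_dvd_of_le hcz
    rcases (Nat.dvd_prime hp).mp h1 with h2 | h2
    · exact absurd (Subgroup.card_eq_one.mp h2) hcne
    · exact h2.ge
  have hpow : ∀ g : G, g ^ p ∈ Subgroup.center G := by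
    intro g
    by_contra hg
    have h1 : ((g : G) : G ⧸ Subgroup.center G) ^ p ≠ 1 := by
      rw [← QuotientGroup.mk_pow]
      intro h
      exact hg ((QuotientGroup.eq_one_iff _).mp h)
    have h2 : orderOf ((g : G) : G ⧸ Subgroup.center G) ∣ p ^ 2 := by
      rw [← hq]
      exact orderOf_dvd_natCard _
    obtain ⟨j, hj2, hj⟩ := (Nat.dvd_prime_pow hp).mp h2
    have hj' : j = 2 := by
      by_contra hne
      apply h1
      have h3 : orderOf ((g : G) : G ⧸ Subgroup.center G) ∣ p := by
        rw [hj]
        have : j ≤ 1 := by omega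
        calc p ^ j ∣ p ^ 1 := pow_dvd_pow p this
          _ = p := pow_one p
      exact orderOf_dvd_iff_pow_eq_one.mp h3
    subst hj'
    have : IsCyclic (G ⧸ Subgroup.center G) :=
      isCyclic_of_orderOf_eq_card ((g : G) : G ⧸ Subgroup.center G) (by rw [hj, hq])
    have h3 := (QuotientGroup.mk' (Subgroup.center G)).isMulCommutative_of_isCyclic_of_ker_le_center
      (by rw [QuotientGroup.ker_mk'])
    exact hab (h3.is_comm.comm a₀ b₀)
  have hfr : frattini G = Subgroup.center G := by
    apply le_antisymm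
    · apply Cfsg.Agent.Helper5.frattini_le_of_elementary_quotient hp _ _ hpow
      intro a b
      apply hcz
      rw [commutator_def]
      have := Subgroup.commutator_mem_commutator (Subgroup.mem_top a) (Subgroup.mem_top b)
      rwa [commutatorElement_def] at this
    · rw [← hceq]
      exact Cfsg.Agent.Lead.commutator_le_frattini_of_isPGroup p hG
  exact ⟨⟨hG, hfr, hceq⟩, hk⟩

/-- The Heisenberg group over `ZMod p`, as triples. -/
@[ext]
structure Heis (p : ℕ) where
  a : ZMod p
  b : ZMod p
  c : ZMod p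
deriving DecidableEq

namespace Heis

variable {p : ℕ}

instance : Mul (Heis p) := ⟨fun x y => ⟨x.a + y.a, x.b + y.b, x.c + y.c + x.b * y.a⟩⟩
instance : One (Heis p) := ⟨⟨0, 0, 0⟩⟩
instance : Inv (Heis p) := ⟨fun x => ⟨-x.a, -x.b, -x.c + x.b * x.a⟩⟩

@[simp] theorem mul_a (x y : Heis p) : (x * y).a = x.a + y.a := rfl
@[simp] theorem mul_b (x y : Heis p) : (x * y).b = x.b + y.b := rfl
@[simp] theorem mul_c (x y : Heis p) : (x * y).c = x.c + y.c + x.b * y.a := rfl
@[simp] theorem one_a : (1 : Heis p).a = 0 := rfl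
@[simp] theorem one_b : (1 : Heis p).b = 0 := rfl
@[simp] theorem one_c : (1 : Heis p).c = 0 := rfl
@[simp] theorem inv_a (x : Heis p) : (x⁻¹).a = -x.a := rfl
@[simp] theorem inv_b (x : Heis p) : (x⁻¹).b = -x.b := rfl
@[simp] theorem inv_c (x : Heis p) : (x⁻¹).c = -x.c + x.b * x.a := rfl

instance : Group (Heis p) where
  mul_assoc x y z := by ext <;> simp <;> ring
  one_mul x := by ext <;> simp
  mul_one x := by ext <;> simp
  inv_mul_cancel x := by ext <;> simp

/-- The underlying triple. -/
def equivProd (p : ℕ) : Heis p ≃ ZMod p × ZMod p × ZMod p where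
  toFun x := (x.a, x.b, x.c)
  invFun t := ⟨t.1, t.2.1, t.2.2⟩
  left_inv _ := rfl
  right_inv _ := rfl

theorem card (p : ℕ) : Nat.card (Heis p) = p ^ 3 := by
  rw [Nat.card_congr (equivProd p), Nat.card_prod, Nat.card_prod, Nat.card_zmod]
  ring

instance [NeZero p] : Finite (Heis p) := by
  haveI : Fintype (ZMod p) := ZMod.fintype p
  exact Finite.of_equiv _ (equivProd p).symm

theorem noncomm [Fact p.Prime] : ∃ x y : Heis p, x * y ≠ y * x := by
  refine ⟨⟨1, 0, 0⟩, ⟨0, 1, 0⟩, ?_⟩
  intro h
  have h1 := congrArg Heis.c h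
  simp at h1

theorem isExtraspecial [Fact p.Prime] : Cfsg.IsExtraspecial p (Heis p) := by
  have : NeZero p := ⟨(Fact.out : p.Prime).ne_zero⟩
  exact isExtraspecial_of_card_cube p (card p) noncomm

theorem pow_formula (x : Heis p) (n : ℕ) :
    (x ^ n).a = n * x.a ∧ (x ^ n).b = n * x.b ∧
      2 * (x ^ n).c = 2 * n * x.c + n * ((n : ZMod p) - 1) * x.b * x.a := by
  induction n with
  | zero => simp
  | succ n ih =>
    obtain ⟨h1, h2, h3⟩ := ih
    refine ⟨?_, ?_, ?_⟩
    · rw [pow_succ, mul_a, h1]; push_cast; ring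
    · rw [pow_succ, mul_b, h2]; push_cast; ring
    · rw [pow_succ, mul_c, mul_add, mul_add, h3, h2]; push_cast; ring

theorem pow_prime [Fact p.Prime] (hp2 : p ≠ 2) (x : Heis p) : x ^ p = 1 := by
  have hp := (Fact.out : p.Prime)
  obtain ⟨h1, h2, h3⟩ := pow_formula x p
  have h0 : ((p : ℕ) : ZMod p) = 0 := ZMod.natCast_self p
  rw [h0] at h1 h2 h3
  have h2ne : (2 : ZMod p) ≠ 0 := by
    intro h
    have h4 : ((2 : ℕ) : ZMod p) = 0 := by exact_mod_cast h
    rw [ZMod.natCast_eq_zero_iff] at h4
    exact hp2 ((Nat.prime_dvd_prime_iff_eq hp Nat.prime_two).mp h4)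
  ext
  · simpa using h1
  · simpa using h2
  · have h5 : 2 * (x ^ p).c = 0 := by rw [h3]; ring
    rcases mul_eq_zero.mp h5 with h6 | h6
    · exact absurd h6 h2ne
    · simpa using h6

theorem exponent [Fact p.Prime] (hp2 : p ≠ 2) : Monoid.exponent (Heis p) = p := by
  have hp := (Fact.out : p.Prime)
  have h1 : Monoid.exponent (Heis p) ∣ p :=
    Monoid.exponent_dvd_of_forall_pow_eq_one (pow_prime hp2)
  rcases (Nat.dvd_prime hp).mp h1 with h2 | h2
  · exfalso
    rw [Monoid.exp_eq_one_iff] at h2
    obtain ⟨x, y, hxy⟩ := noncomm (p := p)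
    exact hxy (by rw [Subsingleton.elim x y])
  · exact h2

/-- The map from the dihedral group of order `8`. -/
def ofDihedral : DihedralGroup 4 → Heis 2
  | DihedralGroup.r i => (⟨1, 1, 0⟩ : Heis 2) ^ i.val
  | DihedralGroup.sr i => (⟨1, 0, 0⟩ : Heis 2) * (⟨1, 1, 0⟩ : Heis 2) ^ i.val

theorem ofDihedral_mul :
    ∀ a b : DihedralGroup 4, ofDihedral (a * b) = ofDihedral a * ofDihedral b := by
  decide

theorem ofDihedral_bij : Function.Bijective ofDihedral := by
  constructor
  · intro a b
    revert a b
    decide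
  · intro y
    obtain ⟨a, b, c⟩ := y
    revert a b c
    decide

/-- The Heisenberg group over `ZMod 2` is dihedral of order `8`. -/
noncomputable def dihedralEquiv : DihedralGroup 4 ≃* Heis 2 :=
  MulEquiv.ofBijective (MonoidHom.mk' ofDihedral ofDihedral_mul) ofDihedral_bij

end Heis

/-- A copy of a finite type in `Type`. -/
def TypeModel (A : Type*) [Finite A] : Type := Fin (Nat.card A)

/-- The bijection of the copy with the original. -/
noncomputable def typeModelEquiv (A : Type*) [Finite A] : TypeModel A ≃ A :=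
  (Finite.equivFin A).symm

/-- The commutative group structure transported to the copy. -/
@[instance_reducible]
noncomputable def typeModelCommGroup (A : Type*) [Group A] [Finite A]
    (hc : ∀ a b : A, a * b = b * a) : CommGroup (TypeModel A) :=
  { (typeModelEquiv A).group with
    mul_comm := fun a b => by
      apply (typeModelEquiv A).injective
      show (typeModelEquiv A) ((typeModelEquiv A).symm
          ((typeModelEquiv A) a * (typeModelEquiv A) b)) =
        (typeModelEquiv A) ((typeModelEquiv A).symm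
          ((typeModelEquiv A) b * (typeModelEquiv A) a))
      rw [hc] }

/-- A finite commutative group has a model in `Type`. -/
theorem exists_commGroup_model (A : Type*) [Group A] [Finite A] (hc : ∀ a b : A, a * b = b * a) :
    ∃ (A₀ : Type) (_ : CommGroup A₀), Nonempty (A ≃* A₀) := by
  refine ⟨TypeModel A, typeModelCommGroup A hc, ⟨?_⟩⟩
  letI := typeModelCommGroup A hc
  refine MulEquiv.mk (typeModelEquiv A).symm ?_
  intro a b
  show (typeModelEquiv A).symm (a * b) = (typeModelEquiv A).symm
    ((typeModelEquiv A) ((typeModelEquiv A).symm a) * (typeModelEquiv A) ((typeModelEquiv A).symm b))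
  simp

end Cfsg.Agent.Helper8
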