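import Cfsg.Agent.Helper8.GroupFusion

set_option autoImplicit false

namespace Cfsg.Agent.Helper8

open Cfsg

/-- Fusion lifts from a quotient: if `γ ∈ G/N` conjugates the image of `P ≤ S` into the image of
the Sylow subgroup `S`, some `g ∈ G` conjugates `P` into `S` inducing the same map modulo `N`. -/
theorem lift_fusion_quotient {G : Type*} [Group G] [Finite G] {p : ℕ} [Fact p.Prime]
    (N : Subgroup G) [hN : N.Normal] (S : Sylow p G) (P : Subgroup G) (hP : P ≤ (S : Subgroup G))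
    (γ : G ⧸ N)
    (hγ : ∀ x ∈ P, γ * QuotientGroup.mk x * γ⁻¹ ∈ ((S : Subgroup G).map (QuotientGroup.mk' N))) :
    ∃ g : G, ∀ x ∈ P, g * x * g⁻¹ ∈ S ∧
      (QuotientGroup.mk (g * x * g⁻¹) : G ⧸ N) = γ * QuotientGroup.mk x * γ⁻¹ := by
  obtain ⟨g₀, rfl⟩ := QuotientGroup.mk_surjective γ
  have h1 : cj g₀ P ≤ (S : Subgroup G) ⊔ N := by
    intro y hy
    rw [mem_cj] at hy
    obtain ⟨s, hs, hse⟩ := hγ _ hy
    have h2 : (QuotientGroup.mk s : G ⧸ N) = QuotientGroup.mk y := by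
      have h0 : (QuotientGroup.mk' N) s = (QuotientGroup.mk s : G ⧸ N) := rfl
      rw [h0] at hse
      rw [hse, ← QuotientGroup.mk_inv, ← QuotientGroup.mk_mul, ← QuotientGroup.mk_mul]
      congr 1
      group
    have h3 : s⁻¹ * y ∈ N := QuotientGroup.eq.mp h2
    have h4 : y = s * (s⁻¹ * y) := by group
    rw [h4]
    exact Subgroup.mul_mem _ (le_sup_left (b := N) hs) (le_sup_right (a := (S : Subgroup G)) h3)
  have hSyl : ∃ R' : Sylow p ↥((S : Subgroup G) ⊔ N),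
      (R' : Subgroup ↥((S : Subgroup G) ⊔ N)) = (S : Subgroup G).subgroupOf ((S : Subgroup G) ⊔ N) := by
    rw [isSylowIn_iff le_sup_left S.isPGroup']
    intro T _ hT
    exact card_le_card_sylow hT S
  obtain ⟨n, hn, hnle⟩ :=
    exists_cj_le_of_isSylowIn hSyl h1 (isPGroup_cj g₀ (S.isPGroup'.to_le hP))
  have hSN : (S : Subgroup G) ≤ Subgroup.normalizer (N : Set G) := by
    intro s _
    rw [Subgroup.mem_normalizer_iff]
    intro x
    constructor
    · intro hx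
      exact hN.conj_mem x hx s
    · intro hx
      have h5 := hN.conj_mem _ hx s⁻¹
      have h6 : s⁻¹ * (s * x * s⁻¹) * s⁻¹⁻¹ = x := by group
      rw [h6] at h5
      exact h5
  obtain ⟨s, hs, m, hm, rfl⟩ := mem_sup_of_le_normalizer hSN hn
  refine ⟨m * g₀, fun x hx => ⟨?_, ?_⟩⟩
  · have h5 : (s * m) * (g₀ * x * g₀⁻¹) * (s * m)⁻¹ ∈ (S : Subgroup G) :=
      hnle (conj_mem_cj (conj_mem_cj hx))
    have h6 : m * g₀ * x * (m * g₀)⁻¹
        = s⁻¹ * ((s * m) * (g₀ * x * g₀⁻¹) * (s * m)⁻¹) * s := by group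
    rw [h6]
    exact Subgroup.mul_mem _ (Subgroup.mul_mem _ (Subgroup.inv_mem _ hs) h5) hs
  · rw [← QuotientGroup.mk_inv, ← QuotientGroup.mk_mul, ← QuotientGroup.mk_mul, QuotientGroup.eq]
    have h7 : (m * g₀ * x * (m * g₀)⁻¹)⁻¹ * (g₀ * x * g₀⁻¹)
        = m * ((g₀ * x⁻¹ * g₀⁻¹) * m⁻¹ * (g₀ * x⁻¹ * g₀⁻¹)⁻¹) := by group
    rw [h7]
    exact N.mul_mem hm (hN.conj_mem _ (N.inv_mem hm) _)

end Cfsg.Agent.Helper8
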