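import Mathlib

set_option autoImplicit false

namespace Cfsg.Agent.Helper8.SympBasis

variable {F V : Type*} [Field F] [AddCommGroup V] [Module F V]

theorem alt_self (B : LinearMap.BilinForm F V) (hA : B.IsAlt) (x : V) : B x x = 0 := hA x

theorem alt_swap (B : LinearMap.BilinForm F V) (hA : B.IsAlt) (x y : V) : B y x = - B x y := by
  have h := alt_self B hA (x + y)
  have hx := alt_self B hA x
  have hy := alt_self B hA y
  simp only [map_add, LinearMap.add_apply] at h
  rw [hx, hy] at h
  linear_combination h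

/-- a hyperbolic family -/
structure Hyp (B : LinearMap.BilinForm F V) {m : ℕ} (e f : Fin m → V) : Prop where
  ef : ∀ i j, B (e i) (f j) = if i = j then 1 else 0
  ee : ∀ i j, B (e i) (e j) = 0
  ff : ∀ i j, B (f i) (f j) = 0

theorem Hyp.fe {B : LinearMap.BilinForm F V} (hA : B.IsAlt) {m : ℕ} {e f : Fin m → V}
    (h : Hyp B e f) (i j : Fin m) : B (f i) (e j) = if i = j then -1 else 0 := by
  rw [alt_swap B hA (e j) (f i), h.ef j i]
  by_cases hij : i = j
  · subst hij
    simp
  · have : ¬ j = i := fun h => hij h.symm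
    simp [hij, this]

/-- the correction making a vector orthogonal to a hyperbolic family -/
noncomputable def corr (B : LinearMap.BilinForm F V) {m : ℕ} (e f : Fin m → V) (w : V) : V :=
  w + ∑ i, B (f i) w • e i - ∑ i, B (e i) w • f i

theorem corr_e {B : LinearMap.BilinForm F V} (hA : B.IsAlt) {m : ℕ} {e f : Fin m → V}
    (h : Hyp B e f) (w : V) (l : Fin m) : B (e l) (corr B e f w) = 0 := by
  classical
  unfold corr
  simp only [map_add, map_sub, map_sum, map_smul, smul_eq_mul, h.ee, h.ef, mul_zero,
    Finset.sum_const_zero, add_zero, mul_ite, mul_one, Finset.sum_ite_eq, Finset.mem_univ,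
    if_true, sub_self]

theorem corr_f {B : LinearMap.BilinForm F V} (hA : B.IsAlt) {m : ℕ} {e f : Fin m → V}
    (h : Hyp B e f) (w : V) (l : Fin m) : B (f l) (corr B e f w) = 0 := by
  classical
  unfold corr
  simp only [map_add, map_sub, map_sum, map_smul, smul_eq_mul, h.ff, h.fe hA, mul_zero,
    Finset.sum_const_zero, sub_zero, mul_ite, mul_neg, mul_one, Finset.sum_ite_eq,
    Finset.mem_univ, if_true, add_neg_cancel]

theorem corr_left {B : LinearMap.BilinForm F V} {m : ℕ} {e f : Fin m → V}
    (w v : V) (hv : ∀ i, B v (e i) = 0 ∧ B v (f i) = 0) :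
    B v (corr B e f w) = B v w := by
  unfold corr
  simp only [map_add, map_sub, map_sum, map_smul, smul_eq_mul, (hv _).1, (hv _).2, mul_zero,
    Finset.sum_const_zero, add_zero, sub_zero]

/-- extension of a hyperbolic family which is not complete -/
theorem extend {B : LinearMap.BilinForm F V} (hA : B.IsAlt) {m : ℕ} {e f : Fin m → V}
    (h : Hyp B e f) (v w : V) (hv : ∀ i, B (e i) v = 0 ∧ B (f i) v = 0) (hvw : B v w ≠ 0) :
    ∃ e' f' : Fin (m + 1) → V, Hyp B e' f' := by
  have hv' : ∀ i, B v (e i) = 0 ∧ B v (f i) = 0 := by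
    intro i
    constructor
    · rw [alt_swap B hA (e i) v, (hv i).1, neg_zero]
    · rw [alt_swap B hA (f i) v, (hv i).2, neg_zero]
  set w' := corr B e f w with hw'
  have hc : B v w' = B v w := corr_left w v hv'
  have hc0 : B v w' ≠ 0 := by rw [hc]; exact hvw
  have hwe : ∀ l, B (e l) w' = 0 := corr_e hA h w
  have hwf : ∀ l, B (f l) w' = 0 := corr_f hA h w
  have hwe' : ∀ l, B w' (e l) = 0 := by
    intro l
    rw [alt_swap B hA (e l) w', hwe l, neg_zero]
  have hwf' : ∀ l, B w' (f l) = 0 := by
    intro l
    rw [alt_swap B hA (f l) w', hwf l, neg_zero]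
  refine ⟨Fin.cons v e, Fin.cons ((B v w')⁻¹ • w') f, ?_, ?_, ?_⟩
  · intro i j
    refine Fin.cases ?_ (fun i => ?_) i <;> refine Fin.cases ?_ (fun j => ?_) j
    · simp only [Fin.cons_zero, map_smul, smul_eq_mul, if_true]
      exact inv_mul_cancel₀ hc0
    · simp only [Fin.cons_zero, Fin.cons_succ]
      rw [(hv' j).2]
      have : ¬ (0 : Fin (m + 1)) = j.succ := (Fin.succ_ne_zero j).symm
      simp [this]
    · simp only [Fin.cons_zero, Fin.cons_succ, map_smul, smul_eq_mul]
      rw [hwe i, mul_zero]
      simp [Fin.succ_ne_zero]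
    · simp only [Fin.cons_succ]
      rw [h.ef i j]
      simp [Fin.succ_inj]
  · intro i j
    refine Fin.cases ?_ (fun i => ?_) i <;> refine Fin.cases ?_ (fun j => ?_) j
    · simp only [Fin.cons_zero]
      exact alt_self B hA v
    · simp only [Fin.cons_zero, Fin.cons_succ]
      exact (hv' j).1
    · simp only [Fin.cons_zero, Fin.cons_succ]
      exact (hv i).1
    · simp only [Fin.cons_succ]
      exact h.ee i j
  · intro i j
    refine Fin.cases ?_ (fun i => ?_) i <;> refine Fin.cases ?_ (fun j => ?_) j
    · simp only [Fin.cons_zero, map_smul, smul_eq_mul, LinearMap.smul_apply]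
      rw [alt_self B hA w', mul_zero, mul_zero]
    · simp only [Fin.cons_zero, Fin.cons_succ, map_smul, smul_eq_mul, LinearMap.smul_apply]
      rw [hwf' j, mul_zero]
    · simp only [Fin.cons_zero, Fin.cons_succ, map_smul, smul_eq_mul]
      rw [hwf i, mul_zero]
    · simp only [Fin.cons_succ]
      exact h.ff i j

theorem Hyp.linInd {B : LinearMap.BilinForm F V} {m : ℕ} {e f : Fin m → V}
    (h : Hyp B e f) : LinearIndependent F e := by
  classical
  rw [Fintype.linearIndependent_iff]
  intro c hc l
  have h1 := congrArg (fun x => B x (f l)) hc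
  simp only [map_sum, map_smul, LinearMap.sum_apply, LinearMap.smul_apply, smul_eq_mul, h.ef,
    mul_ite, mul_one, mul_zero, Finset.sum_ite_eq', Finset.mem_univ, if_true, map_zero,
    LinearMap.zero_apply] at h1
  exact h1

variable [FiniteDimensional F V]

/-- a complete hyperbolic family exists -/
theorem exists_complete (B : LinearMap.BilinForm F V) (hA : B.IsAlt) :
    ∃ (m : ℕ) (e f : Fin m → V), Hyp B e f ∧
      ∀ v, (∀ i, B (e i) v = 0 ∧ B (f i) v = 0) → ∀ w, B v w = 0 := by
  by_contra hcon
  push Not at hcon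
  have key : ∀ m : ℕ, ∃ e f : Fin m → V, Hyp B e f := by
    intro m
    induction m with
    | zero => exact ⟨Fin.elim0, Fin.elim0, ⟨fun i => i.elim0, fun i => i.elim0, fun i => i.elim0⟩⟩
    | succ m ih =>
      obtain ⟨e, f, h⟩ := ih
      obtain ⟨v, hv, w, hw⟩ := hcon m e f h
      exact extend hA h v w hv hw
  obtain ⟨e, f, h⟩ := key (Module.finrank F V + 1)
  have h1 := h.linInd.fintype_card_le_finrank
  rw [Fintype.card_fin] at h1
  omega

theorem main (B : LinearMap.BilinForm F V) (hA : B.IsAlt) :
    ∃ (m k : ℕ) (b : Module.Basis ((Fin m ⊕ Fin m) ⊕ Fin k) F V),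
      (∀ i j : Fin m, B (b (Sum.inl (Sum.inl i))) (b (Sum.inl (Sum.inr j)))
        = if i = j then 1 else 0) ∧
      (∀ i j : Fin m, B (b (Sum.inl (Sum.inl i))) (b (Sum.inl (Sum.inl j))) = 0) ∧
      (∀ i j : Fin m, B (b (Sum.inl (Sum.inr i))) (b (Sum.inl (Sum.inr j))) = 0) ∧
      (∀ (j : Fin k) (v : V), B (b (Sum.inr j)) v = 0) := by
  classical
  obtain ⟨m, e, f, h, hcomp⟩ := exists_complete B hA
  set rad : Submodule F V := LinearMap.ker B with hrad
  set k := Module.finrank F rad with hk
  let r : Module.Basis (Fin k) F rad := Module.finBasis F rad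
  have hr0 : ∀ (j : Fin k) (v : V), B (r j : V) v = 0 := by
    intro j v
    have h1 : (r j : V) ∈ LinearMap.ker B := (r j).2
    rw [LinearMap.mem_ker] at h1
    rw [h1]
    rfl
  let g : (Fin m ⊕ Fin m) ⊕ Fin k → V := Sum.elim (Sum.elim e f) (fun j => (r j : V))
  have hli : LinearIndependent F g := by
    rw [Fintype.linearIndependent_iff]
    intro c hc
    rw [Fintype.sum_sum_type, Fintype.sum_sum_type] at hc
    simp only [g, Sum.elim_inl, Sum.elim_inr] at hc
    have ha : ∀ l, c (Sum.inl (Sum.inl l)) = 0 := by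
      intro l
      have h1 := congrArg (fun x => B x (f l)) hc
      simp only [map_sum, map_smul, map_add, LinearMap.add_apply, LinearMap.sum_apply,
        LinearMap.smul_apply, smul_eq_mul, h.ef, h.ff, hr0, mul_ite, mul_one, mul_zero,
        Finset.sum_ite_eq', Finset.mem_univ, if_true, map_zero, LinearMap.zero_apply,
        Finset.sum_const_zero, add_zero] at h1
      exact h1
    have hb : ∀ l, c (Sum.inl (Sum.inr l)) = 0 := by
      intro l
      have h1 := congrArg (fun x => B x (e l)) hc
      simp only [map_sum, map_smul, map_add, LinearMap.add_apply, LinearMap.sum_apply,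
        LinearMap.smul_apply, smul_eq_mul, h.ee, h.fe hA, hr0, mul_ite, mul_neg, mul_one,
        mul_zero, Finset.sum_ite_eq', Finset.mem_univ, if_true, map_zero, LinearMap.zero_apply,
        Finset.sum_const_zero, add_zero, zero_add, neg_eq_zero] at h1
      exact h1
    have hcr : ∀ j, c (Sum.inr j) = 0 := by
      have h2 : ∑ j, c (Sum.inr j) • (r j : V) = 0 := by
        simpa [ha, hb] using hc
      have hli' : LinearIndependent F (fun j => (r j : V)) :=
        r.linearIndependent.map' rad.subtype (Submodule.ker_subtype rad)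
      exact (Fintype.linearIndependent_iff.mp hli') (fun j => c (Sum.inr j)) h2
    rintro ((i | i) | j)
    · exact ha i
    · exact hb i
    · exact hcr j
  have hsp : ⊤ ≤ Submodule.span F (Set.range g) := by
    intro v _
    have he : ∀ i, e i ∈ Submodule.span F (Set.range g) :=
      fun i => Submodule.subset_span ⟨Sum.inl (Sum.inl i), rfl⟩
    have hf : ∀ i, f i ∈ Submodule.span F (Set.range g) :=
      fun i => Submodule.subset_span ⟨Sum.inl (Sum.inr i), rfl⟩
    have hrr : ∀ j, (r j : V) ∈ Submodule.span F (Set.range g) :=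
      fun j => Submodule.subset_span ⟨Sum.inr j, rfl⟩
    have hv' : corr B e f v ∈ rad := by
      rw [hrad, LinearMap.mem_ker]
      ext w
      exact hcomp (corr B e f v) (fun i => ⟨corr_e hA h v i, corr_f hA h v i⟩) w
    have h3 : corr B e f v ∈ Submodule.span F (Set.range g) := by
      have h4 := r.sum_repr ⟨corr B e f v, hv'⟩
      have h5 : corr B e f v = ∑ j, (r.repr ⟨corr B e f v, hv'⟩ j) • (r j : V) := by
        have := congrArg (fun x : rad => (x : V)) h4
        simp only [Submodule.coe_sum, Submodule.coe_smul] at this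
        exact this.symm
      rw [h5]
      exact Submodule.sum_mem _ (fun j _ => Submodule.smul_mem _ _ (hrr j))
    have h6 : v = corr B e f v - ∑ i, B (f i) v • e i + ∑ i, B (e i) v • f i := by
      unfold corr
      abel
    rw [h6]
    refine Submodule.add_mem _ (Submodule.sub_mem _ h3 ?_) ?_
    · exact Submodule.sum_mem _ (fun i _ => Submodule.smul_mem _ _ (he i))
    · exact Submodule.sum_mem _ (fun i _ => Submodule.smul_mem _ _ (hf i))
  refine ⟨m, k, Module.Basis.mk hli hsp, ?_, ?_, ?_, ?_⟩
  · intro i j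
    rw [Module.Basis.mk_apply, Module.Basis.mk_apply]
    exact h.ef i j
  · intro i j
    rw [Module.Basis.mk_apply, Module.Basis.mk_apply]
    exact h.ee i j
  · intro i j
    rw [Module.Basis.mk_apply, Module.Basis.mk_apply]
    exact h.ff i j
  · intro j v
    rw [Module.Basis.mk_apply]
    exact hr0 j v

end Cfsg.Agent.Helper8.SympBasis
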